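import Cfsg.Agent.Base

/-!
# The rank-one set-up of Suzuki's theorem: basic consequences

`Cfsg.IsRankOneSetup G Ω a t Q`.  We write `H = G_a` and `D = G_a ⊓ G_{t • a}`.
-/

set_option autoImplicit false
set_option linter.unusedSectionVars false
set_option linter.style.haveILetI false

namespace CL.RankOne

open Cfsg MulAction

section general

variable {G : Type*} [Group G]

/-- An element of odd order whose square is `1` is trivial. -/
theorem eq_one_of_odd_of_mul_self {x : G} (hodd : Odd (orderOf x)) (h : x * x = 1) : x = 1 := by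
  have h2 : orderOf x ∣ 2 := orderOf_dvd_of_pow_eq_one (by rw [pow_two]; exact h)
  have h1 : orderOf x = 1 := by
    rcases (Nat.dvd_prime Nat.prime_two).mp h2 with h | h
    · exact h
    · rw [h] at hodd; exact absurd hodd (by decide)
  exact orderOf_eq_one_iff.mp h1

theorem odd_orderOf_of_mem {X : Subgroup G} (hodd : Odd (Nat.card X)) {x : G} (hx : x ∈ X) :
    Odd (orderOf x) := by
  have : orderOf x ∣ Nat.card X := Subgroup.orderOf_dvd_natCard X hx
  exact Odd.of_dvd_nat hodd this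

/-- An element of odd order is a power of its square. -/
theorem exists_eq_sq_pow {x : G} (hodd : Odd (orderOf x)) : ∃ m : ℕ, x = (x * x) ^ m := by
  obtain ⟨k, hk⟩ := hodd
  refine ⟨k + 1, ?_⟩
  have h1 : x ^ (2 * k + 1) = 1 := by rw [← hk]; exact pow_orderOf_eq_one x
  calc x = x ^ (2 * k + 1) * x := by rw [h1, one_mul]
    _ = (x * x) ^ (k + 1) := by rw [← pow_two, ← pow_mul, ← pow_succ]; ring_nf

/-- An element of odd order has a square root among its powers. -/
theorem exists_pow_mul_self_eq {x : G} (hodd : Odd (orderOf x)) :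
    ∃ m : ℕ, x ^ m * x ^ m = x := by
  obtain ⟨m, hm⟩ := exists_eq_sq_pow hodd
  refine ⟨m, ?_⟩
  rw [← (Commute.refl x).mul_pow]; exact hm.symm

/-- Two elements of odd order with the same square are equal. -/
theorem eq_of_mul_self_eq_of_odd {x y : G} (hx : Odd (orderOf x)) (hy : Odd (orderOf y))
    (h : x * x = y * y) : x = y := by
  obtain ⟨k, hk⟩ := hx
  obtain ⟨l, hl⟩ := hy
  have h1 : x ^ (2 * k + 1) = 1 := by rw [← hk]; exact pow_orderOf_eq_one x
  have h2 : y ^ (2 * l + 1) = 1 := by rw [← hl]; exact pow_orderOf_eq_one y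
  set n := (2 * k + 1) * (2 * l + 1) with hn
  have hx1 : x ^ n = 1 := by rw [hn, pow_mul, h1, one_pow]
  have hy1 : y ^ n = 1 := by rw [hn, mul_comm, pow_mul, h2, one_pow]
  have hn2 : n + 1 = 2 * (2 * k * l + k + l + 1) := by rw [hn]; ring
  calc x = x ^ (n + 1) := by rw [pow_succ, hx1, one_mul]
    _ = (x * x) ^ (2 * k * l + k + l + 1) := by rw [hn2, pow_mul, pow_two]
    _ = (y * y) ^ (2 * k * l + k + l + 1) := by rw [h]
    _ = y ^ (n + 1) := by rw [hn2, pow_mul, pow_two]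
    _ = y := by rw [pow_succ, hy1, one_mul]

/-- If the square of an element `k` of odd order commutes with `x`, so does `k`. -/
theorem commute_of_sq_commute_of_odd {k x : G} (hk : Odd (orderOf k)) (h : Commute (k * k) x) :
    Commute k x := by
  obtain ⟨m, hm⟩ := exists_eq_sq_pow hk
  rw [hm]; exact h.pow_left m

theorem inv_eq_of_mul_self {u : G} (hu : u * u = 1) : u⁻¹ = u :=
  inv_eq_of_mul_eq_one_right hu

theorem invol_conj_pow {u v : G} (hu : u * u = 1) (hv : v * v = 1) (n : ℕ) :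
    u * (u * v) ^ n * u = ((u * v) ^ n)⁻¹ := by
  have h1 : u * (u * v) * u⁻¹ = (u * v)⁻¹ := by
    rw [mul_inv_rev, inv_eq_of_mul_self hu, inv_eq_of_mul_self hv, ← mul_assoc, hu, one_mul]
  have h2 : u * (u * v) ^ n * u⁻¹ = (u * (u * v) * u⁻¹) ^ n := by rw [conj_pow]
  rw [h1, inv_pow, inv_eq_of_mul_self hu] at h2
  exact h2

/-- Two involutions with product of odd order are conjugate (by a power of their product). -/
theorem exists_pow_conj_of_odd {u v : G} (hu : u * u = 1) (hv : v * v = 1)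
    (hodd : Odd (orderOf (u * v))) : ∃ n : ℕ, (u * v) ^ n * u * ((u * v) ^ n)⁻¹ = v := by
  obtain ⟨k, hk⟩ := hodd
  refine ⟨k, ?_⟩
  have h1 : (u * v) ^ (2 * k + 1) = 1 := by rw [← hk]; exact pow_orderOf_eq_one _
  have h2 := invol_conj_pow hu hv k
  rw [← h2]
  have h3 : (u * v) ^ k * (u * v) ^ k = (u * v)⁻¹ := by
    rw [eq_inv_iff_mul_eq_one, ← pow_add, ← pow_succ, ← two_mul, h1]
  calc (u * v) ^ k * u * (u * (u * v) ^ k * u)
      = (u * v) ^ k * (u * u) * (u * v) ^ k * u := by simp only [mul_assoc]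
    _ = (u * v)⁻¹ * u := by rw [hu, mul_one, h3]
    _ = v := by rw [mul_inv_rev, mul_assoc, inv_mul_cancel, mul_one, inv_eq_of_mul_self hv]

/-- If the product of two involutions has even order, some involution commutes with both. -/
theorem exists_invol_commute_of_even [Finite G] {u v : G} (hu : u * u = 1) (hv : v * v = 1)
    (hev : Even (orderOf (u * v))) :
    ∃ z : G, z ≠ 1 ∧ z * z = 1 ∧ Commute z u ∧ Commute z v ∧ Commute z (u * v) := by
  obtain ⟨m, hm⟩ := hev
  have hpos : 0 < orderOf (u * v) := orderOf_pos _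
  have hz2 : (u * v) ^ m * (u * v) ^ m = 1 := by rw [← pow_add, ← hm]; exact pow_orderOf_eq_one _
  have hzu : Commute ((u * v) ^ m) u := by
    have h := invol_conj_pow hu hv m
    rw [inv_eq_of_mul_self hz2] at h
    have : u * (u * (u * v) ^ m * u) = u * (u * v) ^ m := by rw [h]
    rw [← mul_assoc, ← mul_assoc, hu, one_mul] at this
    exact this
  have hzuv : Commute ((u * v) ^ m) (u * v) := (Commute.refl _).pow_left m
  refine ⟨(u * v) ^ m, ?_, hz2, hzu, ?_, hzuv⟩
  · intro h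
    have := orderOf_dvd_of_pow_eq_one h
    have h2 := Nat.le_of_dvd (by omega) this
    omega
  · have : v = u * (u * v) := by rw [← mul_assoc, hu, one_mul]
    rw [this]
    have h' := hzu.mul_right hzuv
    rwa [← this] at h' ⊢

/-- A finite subgroup of even order contains an involution. -/
theorem exists_invol_of_even [Finite G] {X : Subgroup G} (h : Even (Nat.card X)) :
    ∃ x ∈ X, x ≠ 1 ∧ x * x = 1 := by
  haveI : Fact (Nat.Prime 2) := ⟨Nat.prime_two⟩
  obtain ⟨x, hx⟩ := exists_prime_orderOf_dvd_card' (G := X) 2 (even_iff_two_dvd.mp h)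
  refine ⟨x, x.2, ?_, ?_⟩
  · intro h1
    have : x = 1 := Subtype.ext h1
    rw [this, orderOf_one] at hx
    exact absurd hx (by decide)
  · have := pow_orderOf_eq_one x
    rw [hx, pow_two] at this
    exact congrArg Subtype.val this

theorem even_card_of_invol [Finite G] {X : Subgroup G} {x : G} (hx : x ∈ X) (h1 : x ≠ 1)
    (h2 : x * x = 1) : Even (Nat.card X) := by
  by_contra h
  exact h1 (eq_one_of_odd_of_mul_self (odd_orderOf_of_mem (Nat.not_even_iff_odd.mp h) hx) h2)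

theorem odd_card_of_no_invol [Finite G] {X : Subgroup G}
    (h : ∀ x ∈ X, x * x = 1 → x = 1) : Odd (Nat.card X) := by
  rw [← Nat.not_even_iff_odd]
  intro he
  obtain ⟨x, hx, h1, h2⟩ := exists_invol_of_even he
  exact h1 (h x hx h2)

end general

variable {G Ω : Type*} [Group G] [MulAction G Ω] {a : Ω} {t : G} {Q : Subgroup G}

/-- The two-point stabiliser `D = G_a ⊓ G_{t • a}`. -/
abbrev DD (a : Ω) (t : G) : Subgroup G := stabilizer G a ⊓ stabilizer G (t • a)

theorem mem_DD {d : G} : d ∈ DD a t ↔ d • a = a ∧ d • t • a = t • a := Iff.rfl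

section setup

variable (hS : IsRankOneSetup G Ω a t Q)
include hS

theorem two_trans {b c b' c' : Ω} (h : b ≠ c) (h' : b' ≠ c') : ∃ g : G, g • b = b' ∧ g • c = c' :=
  MulAction.is_two_pretransitive_iff.mp hS.two_transitive h h'

theorem trans (b c : Ω) : ∃ g : G, g • b = c := by
  have := hS.two_transitive
  exact (MulAction.isPretransitive_of_is_two_pretransitive (G := G) (α := Ω)).exists_smul_eq b c

theorem t_inv : t⁻¹ = t := inv_eq_of_mul_self hS.mul_self

theorem ta_ne : t • a ≠ a := hS.not_mem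

theorem tta (c : Ω) : t • t • c = c := by rw [smul_smul, hS.mul_self, one_smul]

theorem smul_of_mem_Q {q : G} (hq : q ∈ Q) : q • a = a := hS.le hq

theorem conj_mem_Q {h x : G} (hh : h • a = a) (hx : x ∈ Q) : h * x * h⁻¹ ∈ Q :=
  hS.conj_mem h hh x hx

theorem conj_mem_Q' {h x : G} (hh : h • a = a) (hx : x ∈ Q) : h⁻¹ * x * h ∈ Q := by
  have := hS.conj_mem h⁻¹ ((stabilizer G a).inv_mem hh) x hx
  rwa [inv_inv] at this

theorem stabilizer_le_normalizer : stabilizer G a ≤ Subgroup.normalizer (Q : Set G) := by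
  intro h hh
  rw [Subgroup.mem_normalizer_iff]
  intro x
  constructor
  · exact conj_mem_Q hS hh
  · intro hx
    have := conj_mem_Q' hS hh hx
    simpa [mul_assoc] using this

theorem eq_one_of_mem_Q_of_smul_ta {q : G} (hq : q ∈ Q) (h : q • t • a = t • a) : q = 1 := by
  have : q ∈ Q ⊓ stabilizer G (t • a) := ⟨hq, h⟩
  rw [hS.inf_eq_bot] at this
  exact this

theorem eq_one_of_mem_Q_of_mem_DD {q : G} (hq : q ∈ Q) (h : q ∈ DD a t) : q = 1 :=
  eq_one_of_mem_Q_of_smul_ta hS hq h.2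

/-- `H = Q D`. -/
theorem decomp {h : G} (hh : h • a = a) : ∃ q ∈ Q, ∃ d ∈ DD a t, h = q * d := by
  have h1 : h ∈ ((Q ⊔ DD a t : Subgroup G) : Set G) := by
    rw [hS.sup_eq]; exact hh
  rw [Subgroup.coe_mul_of_right_le_normalizer_left Q (DD a t)
    (le_trans inf_le_left (stabilizer_le_normalizer hS))] at h1
  obtain ⟨q, hq, d, hd, rfl⟩ := h1
  exact ⟨q, hq, d, hd, rfl⟩

theorem t_conj_mem_DD {d : G} (hd : d ∈ DD a t) : t * d * t ∈ DD a t := by
  refine ⟨?_, ?_⟩
  · show (t * d * t) • a = a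
    rw [mul_smul, mul_smul, hd.2, tta hS]
  · show (t * d * t) • t • a = t • a
    rw [mul_smul, mul_smul, tta hS, hd.1]

theorem odd_orderOf_of_mem_DD {d : G} (hd : d ∈ DD a t) : Odd (orderOf d) :=
  odd_orderOf_of_mem hS.odd_card hd

theorem eq_one_of_mem_DD_of_mul_self {d : G} (hd : d ∈ DD a t) (h : d * d = 1) : d = 1 :=
  eq_one_of_odd_of_mul_self (odd_orderOf_of_mem_DD hS hd) h

theorem exists_smul_ta_eq {b : Ω} (hb : b ≠ a) : ∃ q ∈ Q, q • t • a = b := by
  obtain ⟨g, hg1, hg2⟩ := two_trans hS (ta_ne hS).symm hb.symm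
  obtain ⟨q, hq, d, hd, rfl⟩ := decomp hS hg1
  refine ⟨q, hq, ?_⟩
  rw [mul_smul, hd.2] at hg2
  exact hg2

/-- A non-identity element of `Q` fixes no point other than `a`. -/
theorem eq_one_of_mem_Q_of_smul {q : G} (hq : q ∈ Q) {b : Ω} (hb : b ≠ a) (h : q • b = b) :
    q = 1 := by
  obtain ⟨r, hr, rfl⟩ := exists_smul_ta_eq hS hb
  have h1 : r⁻¹ * q * r = 1 := by
    apply eq_one_of_mem_Q_of_smul_ta hS (Q.mul_mem (Q.mul_mem (Q.inv_mem hr) hq) hr)
    rw [mul_smul, mul_smul, h, inv_smul_smul]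
  have : q = r * (r⁻¹ * q * r) * r⁻¹ := by group
  rw [this, h1]; group

theorem eq_of_mem_Q_of_smul_eq {q r : G} (hq : q ∈ Q) (hr : r ∈ Q) {b : Ω} (hb : b ≠ a)
    (h : q • b = r • b) : q = r := by
  have : r⁻¹ * q = 1 := by
    apply eq_one_of_mem_Q_of_smul hS (Q.mul_mem (Q.inv_mem hr) hq) hb
    rw [mul_smul, h, inv_smul_smul]
  rw [inv_mul_eq_one] at this
  exact this.symm

theorem smul_ne_of_smul_eq {h : G} (hh : h • a = a) {b : Ω} (hb : b ≠ a) : h • b ≠ a := by
  intro h1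
  apply hb
  rw [← hh] at h1
  exact smul_left_cancel h h1

theorem exists_mem_Q_smul_eq {b c : Ω} (hb : b ≠ a) (hc : c ≠ a) : ∃ q ∈ Q, q • b = c := by
  obtain ⟨q, hq, rfl⟩ := exists_smul_ta_eq hS hb
  obtain ⟨r, hr, rfl⟩ := exists_smul_ta_eq hS hc
  exact ⟨r * q⁻¹, Q.mul_mem hr (Q.inv_mem hq), by rw [mul_smul, inv_smul_smul]⟩

theorem regular (b c : Ω) (hb : b ≠ a) (hc : c ≠ a) : ∃! x : Q, (x : G) • b = c := by
  obtain ⟨q, hq, h⟩ := exists_mem_Q_smul_eq hS hb hc
  refine ⟨⟨q, hq⟩, h, ?_⟩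
  intro y hy
  exact Subtype.ext (eq_of_mem_Q_of_smul_eq hS y.2 hq hb (hy.trans h.symm))

/-- Uniqueness in `H = Q D`. -/
theorem decomp_unique {q q' d d' : G} (hq : q ∈ Q) (hq' : q' ∈ Q) (hd : d ∈ DD a t)
    (hd' : d' ∈ DD a t) (h : q * d = q' * d') : q = q' ∧ d = d' := by
  have h1 : q = q' := by
    apply eq_of_mem_Q_of_smul_eq hS hq hq' (ta_ne hS)
    have := congrArg (fun g : G => g • t • a) h
    simp only [mul_smul] at this
    rwa [hd.2, hd'.2] at this
  subst h1
  exact ⟨rfl, mul_left_cancel h⟩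

/-- Existence of the canonical form `g = x t y`. -/
theorem canon_exists {g : G} (hg : g • a ≠ a) : ∃ x y : G, x • a = a ∧ y ∈ Q ∧ g = x * t * y := by
  have hg' : g⁻¹ • a ≠ a := by
    intro h; apply hg
    conv_lhs => rw [← h]
    rw [smul_inv_smul]
  obtain ⟨y, hy, hyy⟩ := exists_mem_Q_smul_eq hS hg' (ta_ne hS)
  refine ⟨g * y⁻¹ * t, y, ?_, hy, ?_⟩
  · rw [mul_smul, mul_smul, ← hyy, inv_smul_smul, smul_inv_smul]
  · rw [mul_assoc (g * y⁻¹), hS.mul_self]; group

/-- Uniqueness of the canonical form `g = x t y`. -/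
theorem canon_unique {x y x' y' : G} (hx : x • a = a) (hy : y ∈ Q) (hx' : x' • a = a)
    (hy' : y' ∈ Q) (h : x * t * y = x' * t * y') : x = x' ∧ y = y' := by
  have h1 : y⁻¹ = y'⁻¹ := by
    apply eq_of_mem_Q_of_smul_eq hS (Q.inv_mem hy) (Q.inv_mem hy') (ta_ne hS)
    have h2 := congrArg (fun g : G => g⁻¹ • a) h
    simp only [mul_inv_rev, mul_smul, t_inv hS] at h2
    have e1 : x⁻¹ • a = a := (stabilizer G a).inv_mem hx
    have e2 : x'⁻¹ • a = a := (stabilizer G a).inv_mem hx'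
    rwa [e1, e2] at h2
  have h2 : y = y' := inv_injective h1
  subst h2
  exact ⟨mul_right_cancel (mul_right_cancel h), rfl⟩

/-- Existence of the form `g = q d t y`. -/
theorem canon3_exists {g : G} (hg : g • a ≠ a) :
    ∃ q d y : G, q ∈ Q ∧ d ∈ DD a t ∧ y ∈ Q ∧ g = q * d * t * y := by
  obtain ⟨x, y, hx, hy, rfl⟩ := canon_exists hS hg
  obtain ⟨q, hq, d, hd, rfl⟩ := decomp hS hx
  exact ⟨q, d, y, hq, hd, hy, rfl⟩

/-- Uniqueness of the form `g = q d t y`. -/
theorem canon3_unique {q d y q' d' y' : G} (hq : q ∈ Q) (hd : d ∈ DD a t) (hy : y ∈ Q)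
    (hq' : q' ∈ Q) (hd' : d' ∈ DD a t) (hy' : y' ∈ Q) (h : q * d * t * y = q' * d' * t * y') :
    q = q' ∧ d = d' ∧ y = y' := by
  have e1 : (q * d) • a = a := by rw [mul_smul, hd.1, smul_of_mem_Q hS hq]
  have e2 : (q' * d') • a = a := by rw [mul_smul, hd'.1, smul_of_mem_Q hS hq']
  obtain ⟨h1, h2⟩ := canon_unique hS e1 hy e2 hy' h
  obtain ⟨h3, h4⟩ := decomp_unique hS hq hq' hd hd' h1
  exact ⟨h3, h4, h2⟩

theorem t_conj_smul_ne {x : G} (hx : x ∈ Q) (hx1 : x ≠ 1) : (t * x * t) • a ≠ a := by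
  intro h
  apply hx1
  apply eq_one_of_mem_Q_of_smul_ta hS hx
  rw [mul_smul, mul_smul] at h
  have := congrArg (fun c => t • c) h
  simpa only [tta hS] using this

/-- An involution of `H` lies in `Q`. -/
theorem mem_Q_of_invol {s : G} (hs : s • a = a) (hs2 : s * s = 1) : s ∈ Q := by
  obtain ⟨q, hq, d, hd, rfl⟩ := decomp hS hs
  have h1 : d * d ∈ Q := by
    have : d * d = (d * q⁻¹ * d⁻¹) * q⁻¹ * (q * d * (q * d)) := by group
    rw [this, hs2, mul_one]
    exact Q.mul_mem (conj_mem_Q hS hd.1 (Q.inv_mem hq)) (Q.inv_mem hq)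
  have h2 : d * d = 1 := eq_one_of_mem_Q_of_mem_DD hS h1 ((DD a t).mul_mem hd hd)
  rw [eq_one_of_mem_DD_of_mul_self hS hd h2, mul_one]
  exact hq

/-- An involution fixes at most one point. -/
theorem fixed_unique {u : G} (hu1 : u ≠ 1) (hu : u * u = 1) {b c : Ω} (hb : u • b = b)
    (hc : u • c = c) : b = c := by
  by_contra hbc
  obtain ⟨g, hg1, hg2⟩ := two_trans hS hbc (ta_ne hS).symm
  have h1 : g * u * g⁻¹ ∈ DD a t := by
    refine ⟨?_, ?_⟩
    · show (g * u * g⁻¹) • a = a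
      rw [← hg1, mul_smul, mul_smul, inv_smul_smul, hb]
    · show (g * u * g⁻¹) • t • a = t • a
      rw [← hg2, mul_smul, mul_smul, inv_smul_smul, hc]
  have h2 : g * u * g⁻¹ = 1 := by
    apply eq_one_of_mem_DD_of_mul_self hS h1
    calc g * u * g⁻¹ * (g * u * g⁻¹) = g * (u * u) * g⁻¹ := by group
      _ = 1 := by rw [hu]; group
  apply hu1
  calc u = g⁻¹ * (g * u * g⁻¹) * g := by group
    _ = 1 := by rw [h2]; group

/-- An element commuting with an involution fixes its fixed point. -/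
theorem smul_eq_of_commute_invol {u g : G} (hu1 : u ≠ 1) (hu : u * u = 1) (hc : Commute g u)
    {b : Ω} (hb : u • b = b) : g • b = b := by
  apply fixed_unique hS hu1 hu _ hb
  rw [smul_smul, ← hc.eq, mul_smul, hb]

/-- An element normalising a non-trivial subset of `Q` fixes `a`. -/
theorem smul_eq_of_conj_mem {x g : G} (hx1 : x ≠ 1) (hx : x • a = a) (h : g * x * g⁻¹ ∈ Q) :
    g • a = a := by
  by_contra hg
  apply hx1
  have h1 : g * x * g⁻¹ = 1 := by
    apply eq_one_of_mem_Q_of_smul hS h hg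
    rw [mul_smul, mul_smul, inv_smul_smul, hx]
  calc x = g⁻¹ * (g * x * g⁻¹) * g := by group
    _ = 1 := by rw [h1]; group

theorem smul_eq_of_commute {x g : G} (hx1 : x ≠ 1) (hx : x ∈ Q) (h : Commute g x) :
    g • a = a := by
  apply smul_eq_of_conj_mem hS hx1 (smul_of_mem_Q hS hx)
  rw [h.eq, mul_inv_cancel_right]; exact hx

variable [Finite G]

theorem exists_invol_mem_Q : ∃ s ∈ Q, s ≠ 1 ∧ s * s = 1 := exists_invol_of_even hS.even_card

theorem finite_Ω : Finite Ω := by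
  apply Finite.of_surjective (fun g : G => g • a)
  intro b
  exact trans hS a b

theorem card_Ω : Nat.card Ω = Nat.card Q + 1 := by
  classical
  haveI := finite_Ω hS
  have e : Q ≃ {b : Ω // b ≠ a} := by
    refine Equiv.ofBijective
      (fun q => ⟨(q : G) • t • a, smul_ne_of_smul_eq hS (smul_of_mem_Q hS q.2) (ta_ne hS)⟩) ⟨?_, ?_⟩
    · intro q r h
      exact Subtype.ext (eq_of_mem_Q_of_smul_eq hS q.2 r.2 (ta_ne hS) (congrArg Subtype.val h))
    · intro b
      obtain ⟨q, hq, h⟩ := exists_smul_ta_eq hS b.2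
      exact ⟨⟨q, hq⟩, Subtype.ext h⟩
  rw [Nat.card_congr e, ← Finite.card_option]
  exact (Nat.card_congr (Equiv.optionSubtypeNe a)).symm

theorem odd_card_Ω : Odd (Nat.card Ω) := by
  rw [card_Ω hS]; exact hS.even_card.add_one

theorem index_stabilizer_eq : (stabilizer G a).index = Nat.card Q + 1 := by
  have := hS.two_transitive
  haveI : IsPretransitive G Ω := MulAction.isPretransitive_of_is_two_pretransitive
  rw [MulAction.index_stabilizer_of_transitive, card_Ω hS]

theorem card_stabilizer : Nat.card (stabilizer G a) = Nat.card Q * Nat.card (DD a t) := by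
  rw [← Nat.card_prod]
  symm
  refine Nat.card_congr (Equiv.ofBijective (fun p : Q × DD a t =>
    (⟨(p.1 : G) * p.2, (stabilizer G a).mul_mem (hS.le p.1.2) p.2.2.1⟩ : stabilizer G a)) ⟨?_, ?_⟩)
  · intro p p' h
    obtain ⟨h1, h2⟩ := decomp_unique hS p.1.2 p'.1.2 p.2.2 p'.2.2 (congrArg Subtype.val h)
    exact Prod.ext (Subtype.ext h1) (Subtype.ext h2)
  · intro h
    obtain ⟨q, hq, d, hd, e⟩ := decomp hS h.2
    exact ⟨(⟨q, hq⟩, ⟨d, hd⟩), Subtype.ext e.symm⟩

theorem card_G : Nat.card G = Nat.card Q * Nat.card (DD a t) * (Nat.card Q + 1) := by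
  rw [← (stabilizer G a).card_mul_index, card_stabilizer hS, index_stabilizer_eq hS]

/-- A `2`-subgroup fixes a point. -/
theorem exists_fixed_of_isPGroup {P : Subgroup G} (hP : IsPGroup 2 P) :
    ∃ c : Ω, ∀ g ∈ P, g • c = c := by
  haveI := finite_Ω hS
  haveI : Fact (Nat.Prime 2) := ⟨Nat.prime_two⟩
  have h : ¬ 2 ∣ Nat.card Ω := by
    rw [← even_iff_two_dvd, Nat.not_even_iff_odd]; exact odd_card_Ω hS
  obtain ⟨c, hc⟩ := hP.nonempty_fixed_point_of_prime_not_dvd_card Ω h
  exact ⟨c, fun g hg => hc ⟨g, hg⟩⟩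

/-- An involution fixes a point. -/
theorem exists_fixed {u : G} (hu : u * u = 1) : ∃ c : Ω, u • c = c := by
  have hP : IsPGroup 2 (Subgroup.zpowers u) := by
    intro g
    refine ⟨1, ?_⟩
    obtain ⟨g, n, rfl⟩ := g
    apply Subtype.ext
    show (u ^ n) ^ (2 ^ 1) = 1
    rw [pow_one, ← zpow_natCast, ← zpow_mul, mul_comm, zpow_mul, zpow_natCast, pow_two, hu,
      one_zpow]
  obtain ⟨c, hc⟩ := exists_fixed_of_isPGroup hS hP
  exact ⟨c, hc u (Subgroup.mem_zpowers u)⟩

/-- The product of two involutions with different fixed points has odd order. -/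
theorem odd_orderOf_mul {u v : G} (hu1 : u ≠ 1) (hu : u * u = 1) (hv : v * v = 1)
    {b : Ω} (hub : u • b = b) (hvb : v • b ≠ b) : Odd (orderOf (u * v)) := by
  rw [← Nat.not_even_iff_odd]
  intro hev
  obtain ⟨z, hz1, hz2, hzu, hzv, -⟩ := exists_invol_commute_of_even hu hv hev
  have h1 : z • b = b := smul_eq_of_commute_invol hS hu1 hu hzu hub
  exact hvb (smul_eq_of_commute_invol hS hz1 hz2 hzv.symm h1)

/-- All involutions are conjugate. -/
theorem invol_conj {u v : G} (hu1 : u ≠ 1) (hu : u * u = 1) (hv1 : v ≠ 1) (hv : v * v = 1) :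
    ∃ g : G, g * u * g⁻¹ = v := by
  have key : ∀ u v : G, u ≠ 1 → u * u = 1 → v * v = 1 → ∀ b : Ω, u • b = b → v • b ≠ b →
      ∃ g : G, g * u * g⁻¹ = v := by
    intro u v hu1 hu hv b hub hvb
    obtain ⟨n, hn⟩ := exists_pow_conj_of_odd hu hv (odd_orderOf_mul hS hu1 hu hv hub hvb)
    exact ⟨_, hn⟩
  obtain ⟨b, hb⟩ := exists_fixed hS hu
  by_cases hvb : v • b = b
  · obtain ⟨c, hc⟩ : ∃ c : Ω, c ≠ b := by
      by_cases h : a = b
      · exact ⟨t • a, h ▸ ta_ne hS⟩
      · exact ⟨a, h⟩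
    obtain ⟨g, hg⟩ := trans hS b c
    have hw : (g * u * g⁻¹) * (g * u * g⁻¹) = 1 := by
      calc g * u * g⁻¹ * (g * u * g⁻¹) = g * (u * u) * g⁻¹ := by group
        _ = 1 := by rw [hu]; group
    have hw1 : g * u * g⁻¹ ≠ 1 := by
      intro h; apply hu1
      calc u = g⁻¹ * (g * u * g⁻¹) * g := by group
        _ = 1 := by rw [h]; group
    have hwc : (g * u * g⁻¹) • c = c := by
      rw [← hg, mul_smul, mul_smul, inv_smul_smul, hb]
    have hvc : v • c ≠ c := fun h => hc (fixed_unique hS hv1 hv h hvb)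
    obtain ⟨g', hg'⟩ := key _ v hw1 hw hv c hwc hvc
    exact ⟨g' * g, by rw [← hg']; group⟩
  · exact key u v hu1 hu hv b hb hvb

end setup

end CL.RankOne
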