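import Cfsg.Agent.Base
import Cfsg.Agent.RankOne.Basic

/-!
# The rank-one set-up: involutions, the set `K`, the structure equation

Peterfalvi, Part II, Chapter I, section 1, Propositions 2 - 6.
-/

set_option autoImplicit false
set_option linter.unusedSectionVars false
set_option linter.style.haveILetI false

namespace CL.RankOne

open Cfsg MulAction

section general

variable {G : Type*} [Group G]

theorem conj_mul_self {u : G} (hu : u * u = 1) (g : G) : (g * u * g⁻¹) * (g * u * g⁻¹) = 1 := by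
  calc g * u * g⁻¹ * (g * u * g⁻¹) = g * (u * u) * g⁻¹ := by group
    _ = 1 := by rw [hu]; group

theorem conj_ne_one {u : G} (hu : u ≠ 1) (g : G) : g * u * g⁻¹ ≠ 1 := by
  intro h; apply hu
  calc u = g⁻¹ * (g * u * g⁻¹) * g := by group
    _ = 1 := by rw [h]; group

theorem conj_mul_self' {u : G} (hu : u * u = 1) (g : G) : (g⁻¹ * u * g) * (g⁻¹ * u * g) = 1 := by
  have := conj_mul_self hu g⁻¹
  rwa [inv_inv] at this

theorem conj_ne_one' {u : G} (hu : u ≠ 1) (g : G) : g⁻¹ * u * g ≠ 1 := by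
  have := conj_ne_one hu g⁻¹
  rwa [inv_inv] at this

theorem mem_invertedBy {X : Subgroup G} {t x : G} :
    x ∈ invertedBy X t ↔ x ∈ X ∧ t * x * t⁻¹ = x⁻¹ := Iff.rfl

theorem mem_involutionsIn {S : Set G} {x : G} :
    x ∈ involutionsIn S ↔ x ∈ S ∧ x ≠ 1 ∧ x * x = 1 := Iff.rfl

theorem one_mem_invertedBy {X : Subgroup G} {t : G} : (1 : G) ∈ invertedBy X t :=
  ⟨X.one_mem, by simp⟩

theorem pow_mem_invertedBy {X : Subgroup G} {t x : G} (hx : x ∈ invertedBy X t) (n : ℕ) :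
    x ^ n ∈ invertedBy X t :=
  ⟨X.pow_mem hx.1 n, by rw [← conj_pow, hx.2, inv_pow]⟩

theorem zpow_mem_invertedBy {X : Subgroup G} {t x : G} (hx : x ∈ invertedBy X t) (n : ℤ) :
    x ^ n ∈ invertedBy X t :=
  ⟨X.zpow_mem hx.1 n, by rw [← conj_zpow, hx.2, inv_zpow]⟩

theorem inv_mem_invertedBy {X : Subgroup G} {t x : G} (hx : x ∈ invertedBy X t) :
    x⁻¹ ∈ invertedBy X t :=
  ⟨X.inv_mem hx.1, by rw [← conj_inv, hx.2]⟩

theorem conj_mem_invertedBy {X : Subgroup G} {t x v : G} (hx : x ∈ invertedBy X t) (hv : v ∈ X)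
    (hvt : Commute v t) : v * x * v⁻¹ ∈ invertedBy X t := by
  refine ⟨X.mul_mem (X.mul_mem hv hx.1) (X.inv_mem hv), ?_⟩
  have h1 : t * v * t⁻¹ = v := by rw [← hvt.eq, mul_inv_cancel_right]
  calc t * (v * x * v⁻¹) * t⁻¹ = (t * v * t⁻¹) * (t * x * t⁻¹) * (t * v * t⁻¹)⁻¹ := by group
    _ = (v * x * v⁻¹)⁻¹ := by rw [h1, hx.2]; group

theorem mul_mul_mem_invertedBy {X : Subgroup G} {t x c : G} (hx : x ∈ invertedBy X t)
    (hc : c ∈ invertedBy X t) : c * x * c ∈ invertedBy X t := by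
  refine ⟨X.mul_mem (X.mul_mem hc.1 hx.1) hc.1, ?_⟩
  calc t * (c * x * c) * t⁻¹ = (t * c * t⁻¹) * (t * x * t⁻¹) * (t * c * t⁻¹) := by group
    _ = (c * x * c)⁻¹ := by rw [hc.2, hx.2]; group

/-- Existence in the factorisation `X = C_X(t) · Z` for `X` of odd order normalised by `t`. -/
theorem exists_cent_mul_inverted {X : Subgroup G} {t : G} (ht : t * t = 1)
    (hodd : Odd (Nat.card X)) (hnorm : ∀ x ∈ X, t * x * t⁻¹ ∈ X) {x : G} (hx : x ∈ X) :
    ∃ y z : G, y ∈ X ∧ Commute y t ∧ z ∈ invertedBy X t ∧ x = y * z := by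
  have hti : t⁻¹ = t := inv_eq_of_mul_self ht
  set w := (t * x * t⁻¹)⁻¹ * x with hw
  have hwX : w ∈ invertedBy X t := by
    refine ⟨X.mul_mem (X.inv_mem (hnorm x hx)) hx, ?_⟩
    rw [hw, hti]
    calc t * ((t * x * t)⁻¹ * x) * t = (t * t⁻¹) * x⁻¹ * t⁻¹ * x * t := by group
      _ = ((t * x * t)⁻¹ * x)⁻¹ := by rw [hti, ht]; group
  obtain ⟨m, hm⟩ := exists_pow_mul_self_eq (odd_orderOf_of_mem hodd hwX.1)
  have hz := pow_mem_invertedBy hwX m
  set z := w ^ m with hzdef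
  refine ⟨x * z⁻¹, z, X.mul_mem hx (X.inv_mem hz.1), ?_, hz, by group⟩
  have h1 : t * x * t⁻¹ = x * (z * z)⁻¹ := by rw [hm, hw]; group
  have h2 : t * (x * z⁻¹) * t⁻¹ = x * z⁻¹ := by
    calc t * (x * z⁻¹) * t⁻¹ = (t * x * t⁻¹) * (t * z * t⁻¹)⁻¹ := by group
      _ = x * z⁻¹ := by rw [h1, hz.2]; group
  show x * z⁻¹ * t = t * (x * z⁻¹)
  conv_lhs => rw [← h2]
  group

/-- Uniqueness in the factorisation `X = C_X(t) · Z`. -/
theorem cent_mul_inverted_unique {X : Subgroup G} {t : G} (hodd : Odd (Nat.card X))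
    {y z y' z' : G} (hy : Commute y t) (hz : z ∈ invertedBy X t) (hy' : Commute y' t)
    (hz' : z' ∈ invertedBy X t) (h : y * z = y' * z') : y = y' ∧ z = z' := by
  have key : ∀ y z : G, Commute y t → z ∈ invertedBy X t →
      (t * (y * z) * t⁻¹)⁻¹ * (y * z) = z * z := by
    intro y z hy hz
    have h1 : t * y * t⁻¹ = y := by rw [← hy.eq, mul_inv_cancel_right]
    calc (t * (y * z) * t⁻¹)⁻¹ * (y * z) = ((t * y * t⁻¹) * (t * z * t⁻¹))⁻¹ * (y * z) := by group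
      _ = z * z := by rw [h1, hz.2]; group
  have h1 : z * z = z' * z' := by rw [← key y z hy hz, ← key y' z' hy' hz', h]
  have h2 : z = z' :=
    eq_of_mul_self_eq_of_odd (odd_orderOf_of_mem hodd hz.1) (odd_orderOf_of_mem hodd hz'.1) h1
  subst h2
  exact ⟨mul_right_cancel h, rfl⟩

/-- The factorisation in the other order. -/
theorem exists_inverted_mul_cent {X : Subgroup G} {t : G} (ht : t * t = 1)
    (hodd : Odd (Nat.card X)) (hnorm : ∀ x ∈ X, t * x * t⁻¹ ∈ X) {x : G} (hx : x ∈ X) :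
    ∃ z y : G, z ∈ invertedBy X t ∧ y ∈ X ∧ Commute y t ∧ x = z * y := by
  obtain ⟨y, z, hy, hyt, hz, e⟩ := exists_cent_mul_inverted ht hodd hnorm (X.inv_mem hx)
  refine ⟨z⁻¹, y⁻¹, inv_mem_invertedBy hz, X.inv_mem hy, hyt.inv_left, ?_⟩
  rw [← mul_inv_rev, ← e, inv_inv]

theorem card_eq_card_cent_mul_card_inverted {X : Subgroup G} {t : G} (ht : t * t = 1)
    (hodd : Odd (Nat.card X)) (hnorm : ∀ x ∈ X, t * x * t⁻¹ ∈ X) :
    Nat.card X = Nat.card ↥(X ⊓ Subgroup.centralizer {t}) * Nat.card (invertedBy X t) := by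
  rw [← Nat.card_prod]
  symm
  refine Nat.card_congr (Equiv.ofBijective
    (fun p : ↥(X ⊓ Subgroup.centralizer {t}) × invertedBy X t =>
      (⟨(p.1 : G) * p.2, X.mul_mem p.1.2.1 p.2.2.1⟩ : X)) ⟨?_, ?_⟩)
  · intro p p' h
    have c1 : Commute (p.1 : G) t := Subgroup.mem_centralizer_singleton_iff.mp p.1.2.2
    have c2 : Commute (p'.1 : G) t := Subgroup.mem_centralizer_singleton_iff.mp p'.1.2.2
    obtain ⟨h1, h2⟩ := cent_mul_inverted_unique hodd c1 p.2.2 c2 p'.2.2 (congrArg Subtype.val h)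
    exact Prod.ext (Subtype.ext h1) (Subtype.ext h2)
  · intro x
    obtain ⟨y, z, hy, hyt, hz, e⟩ := exists_cent_mul_inverted ht hodd hnorm x.2
    exact ⟨(⟨y, hy, Subgroup.mem_centralizer_singleton_iff.mpr hyt⟩, ⟨z, hz⟩), Subtype.ext e.symm⟩

/-- The subgroup generated by the inverted elements is normalised by `X`. -/
theorem conj_mem_closure_invertedBy {X : Subgroup G} {t : G} (ht : t * t = 1)
    (hodd : Odd (Nat.card X)) (hnorm : ∀ x ∈ X, t * x * t⁻¹ ∈ X) {x c : G} (hx : x ∈ X)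
    (hc : c ∈ Subgroup.closure (invertedBy X t)) :
    x * c * x⁻¹ ∈ Subgroup.closure (invertedBy X t) := by
  obtain ⟨y, z, hy, hyt, hz, rfl⟩ := exists_cent_mul_inverted ht hodd hnorm hx
  have hz' : z ∈ Subgroup.closure (invertedBy X t) := Subgroup.subset_closure hz
  have h1 : z * c * z⁻¹ ∈ Subgroup.closure (invertedBy X t) :=
    Subgroup.mul_mem _ (Subgroup.mul_mem _ hz' hc) (Subgroup.inv_mem _ hz')
  have key : ∀ c ∈ Subgroup.closure (invertedBy X t),
      y * c * y⁻¹ ∈ Subgroup.closure (invertedBy X t) := by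
    intro c hc
    induction hc using Subgroup.closure_induction with
    | mem c hc => exact Subgroup.subset_closure (conj_mem_invertedBy hc hy hyt)
    | one => simp
    | mul c c' _ _ h h' =>
      have : y * (c * c') * y⁻¹ = (y * c * y⁻¹) * (y * c' * y⁻¹) := by group
      rw [this]; exact Subgroup.mul_mem _ h h'
    | inv c _ h =>
      have : y * c⁻¹ * y⁻¹ = (y * c * y⁻¹)⁻¹ := by group
      rw [this]; exact Subgroup.inv_mem _ h
  have : y * z * c * (y * z)⁻¹ = y * (z * c * z⁻¹) * y⁻¹ := by group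
  rw [this]; exact key _ h1

end general

variable {G Ω : Type*} [Group G] [MulAction G Ω] {a : Ω} {t : G} {Q : Subgroup G}

/-- The set `K` of elements of `D` inverted by `t`. -/
abbrev KK (a : Ω) (t : G) : Set G := invertedBy (DD a t) t

/-- The set of involutions of `H = G_a`. -/
abbrev II (G : Type*) [Group G] [MulAction G Ω] (a : Ω) : Set G :=
  involutionsIn (stabilizer G a : Set G)

/-- The subgroup `V = C_D(t)`. -/
abbrev VV (a : Ω) (t : G) : Subgroup G := DD a t ⊓ Subgroup.centralizer {t}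

/-- The subgroup `W = C_V(K)`. -/
abbrev WW (a : Ω) (t : G) : Subgroup G := VV a t ⊓ Subgroup.centralizer (KK a t)

theorem mem_II {s : G} : s ∈ II G a ↔ s • a = a ∧ s ≠ 1 ∧ s * s = 1 := Iff.rfl

theorem mem_VV {v : G} : v ∈ VV a t ↔ v ∈ DD a t ∧ Commute v t := by
  rw [Subgroup.mem_inf, Subgroup.mem_centralizer_singleton_iff]; rfl

theorem mem_WW {w : G} : w ∈ WW a t ↔ w ∈ VV a t ∧ ∀ k ∈ KK a t, Commute k w := by
  rw [Subgroup.mem_inf, Subgroup.mem_centralizer_iff]; rfl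

theorem conj_mem_II {s h : G} (hs : s ∈ II G a) (hh : h • a = a) : h * s * h⁻¹ ∈ II G a := by
  refine ⟨?_, conj_ne_one hs.2.1 h, conj_mul_self hs.2.2 h⟩
  exact (stabilizer G a).mul_mem ((stabilizer G a).mul_mem hh hs.1) ((stabilizer G a).inv_mem hh)

theorem conj_mem_II' {s h : G} (hs : s ∈ II G a) (hh : h • a = a) : h⁻¹ * s * h ∈ II G a := by
  have := conj_mem_II hs ((stabilizer G a).inv_mem hh)
  rwa [inv_inv] at this

section setup

variable (hS : IsRankOneSetup G Ω a t Q)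
include hS

theorem mem_KK {k : G} : k ∈ KK a t ↔ k ∈ DD a t ∧ t * k * t = k⁻¹ := by
  rw [mem_invertedBy, t_inv hS]

theorem t_conj_of_mem_KK {k : G} (hk : k ∈ KK a t) : t * k * t = k⁻¹ := ((mem_KK hS).mp hk).2

theorem mem_Q_of_mem_II {s : G} (hs : s ∈ II G a) : s ∈ Q := mem_Q_of_invol hS hs.1 hs.2.2

theorem t_conj_mem_DD' {d : G} (hd : d ∈ DD a t) : t * d * t⁻¹ ∈ DD a t := by
  rw [t_inv hS]; exact t_conj_mem_DD hS hd

theorem exists_V_mul_K {d : G} (hd : d ∈ DD a t) : ∃ v ∈ VV a t, ∃ k ∈ KK a t, d = v * k := by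
  obtain ⟨y, z, hy, hyt, hz, e⟩ :=
    exists_cent_mul_inverted hS.mul_self hS.odd_card (fun _ => t_conj_mem_DD' hS) hd
  exact ⟨y, mem_VV.mpr ⟨hy, hyt⟩, z, hz, e⟩

theorem exists_K_mul_V {d : G} (hd : d ∈ DD a t) : ∃ k ∈ KK a t, ∃ v ∈ VV a t, d = k * v := by
  obtain ⟨z, y, hz, hy, hyt, e⟩ :=
    exists_inverted_mul_cent hS.mul_self hS.odd_card (fun _ => t_conj_mem_DD' hS) hd
  exact ⟨z, hz, y, mem_VV.mpr ⟨hy, hyt⟩, e⟩

theorem card_DD : Nat.card (DD a t) = Nat.card (VV a t) * Nat.card (KK a t) :=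
  card_eq_card_cent_mul_card_inverted hS.mul_self hS.odd_card (fun _ => t_conj_mem_DD' hS)

theorem conj_mem_KK {k v : G} (hk : k ∈ KK a t) (hv : v ∈ VV a t) : v * k * v⁻¹ ∈ KK a t :=
  conj_mem_invertedBy hk (mem_VV.mp hv).1 (mem_VV.mp hv).2

theorem eq_one_of_mem_KK_of_mem_VV {k : G} (hk : k ∈ KK a t) (hv : k ∈ VV a t) : k = 1 := by
  apply eq_one_of_mem_DD_of_mul_self hS hk.1
  have h1 := hk.2
  rw [← (mem_VV.mp hv).2.eq, mul_inv_cancel_right] at h1
  nth_rewrite 2 [h1]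
  exact mul_inv_cancel k

/-- For `k ∈ K` the element `k t` is an involution interchanging `a` and `t • a`. -/
theorem K_mul_t_mul_self {k : G} (hk : k ∈ KK a t) : (k * t) * (k * t) = 1 := by
  calc k * t * (k * t) = k * (t * k * t) := by group
    _ = 1 := by rw [t_conj_of_mem_KK hS hk, mul_inv_cancel]

theorem t_mul_K_mul_self {k : G} (hk : k ∈ KK a t) : (t * k) * (t * k) = 1 := by
  rw [← mul_assoc, t_conj_of_mem_KK hS hk, inv_mul_cancel]

/-- An involution mapping `a` to `t • a` has the form `k t` with `k ∈ K`. -/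
theorem mul_t_mem_KK {u : G} (hu : u * u = 1) (h : u • a = t • a) : u * t ∈ KK a t := by
  have huu : ∀ c : Ω, u • u • c = c := fun c => by rw [smul_smul, hu, one_smul]
  refine (mem_KK hS).mpr ⟨⟨?_, ?_⟩, ?_⟩
  · show (u * t) • a = a
    rw [mul_smul, ← h, huu]
  · show (u * t) • t • a = t • a
    rw [mul_smul, tta hS, h]
  · rw [mul_inv_rev, t_inv hS, inv_eq_of_mul_self hu, mul_assoc, mul_assoc, hS.mul_self, mul_one]

theorem t_mul_mem_KK {u : G} (hu : u * u = 1) (h : u • a = t • a) : t * u ∈ KK a t := by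
  have := inv_mem_invertedBy (mul_t_mem_KK hS hu h)
  rwa [mul_inv_rev, t_inv hS, inv_eq_of_mul_self hu] at this

variable [Finite G]

theorem exists_mem_II : ∃ s, s ∈ II G a := by
  obtain ⟨s, hs, h1, h2⟩ := exists_invol_mem_Q hS
  exact ⟨s, smul_of_mem_Q hS hs, h1, h2⟩

/-- `u ↦ u s u` is injective on the involutions outside `H`. -/
theorem eq_of_conj_eq {s u v : G} (hs : s ∈ II G a) (hu : u * u = 1) (hua : u • a ≠ a)
    (hv : v * v = 1) (hva : v • a ≠ a) (h : u * s * u = v * s * v) : u = v := by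
  have h1 := odd_orderOf_mul hS hs.2.1 hs.2.2 hu hs.1 hua
  have h2 := odd_orderOf_mul hS hs.2.1 hs.2.2 hv hs.1 hva
  have h3 : s * u * (s * u) = s * v * (s * v) := by
    calc s * u * (s * u) = s * (u * s * u) := by group
      _ = s * v * (s * v) := by rw [h]; group
  exact mul_left_cancel (eq_of_mul_self_eq_of_odd h1 h2 h3)

/-- `u ↦ u s u` is onto the involutions outside `H`. -/
theorem exists_invol_conj_eq {s w : G} (hs : s ∈ II G a) (hw : w * w = 1) (hwa : w • a ≠ a) :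
    ∃ u : G, u * u = 1 ∧ u • a ≠ a ∧ u * s * u = w := by
  let T := {u : G // u * u = 1 ∧ u • a ≠ a}
  let f : T → T := fun u => ⟨u.1 * s * u.1, by
    have := conj_mul_self hs.2.2 u.1
    rwa [inv_eq_of_mul_self u.2.1] at this, by
    intro h
    have h1 : s • u.1 • a = u.1 • a := by
      have := congrArg (fun c => u.1 • c) h
      simp only [smul_smul] at this
      rw [← mul_assoc, ← mul_assoc, u.2.1, one_mul] at this
      rw [smul_smul]; exact this
    exact u.2.2 (fixed_unique hS hs.2.1 hs.2.2 h1 hs.1)⟩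
  have hinj : Function.Injective f := by
    intro u v h
    exact Subtype.ext (eq_of_conj_eq hS hs u.2.1 u.2.2 v.2.1 v.2.2 (congrArg Subtype.val h))
  obtain ⟨u, hu⟩ := (Finite.injective_iff_surjective.mp hinj) ⟨w, hw, hwa⟩
  exact ⟨u.1, u.2.1, u.2.2, congrArg Subtype.val hu⟩

/-- `k ↦ k⁻¹ s k` is injective on `K`. -/
theorem eq_of_K_conj_eq {s k k' : G} (hs : s ∈ II G a) (hk : k ∈ KK a t) (hk' : k' ∈ KK a t)
    (h : k⁻¹ * s * k = k'⁻¹ * s * k') : k = k' := by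
  have key : ∀ k ∈ KK a t, (k * t) • a ≠ a ∧ (k * t) * s * (k * t) = t * (k⁻¹ * s * k) * t := by
    intro k hk
    refine ⟨?_, ?_⟩
    · rw [mul_smul, hk.1.2]; exact ta_ne hS
    · have : k * t = t * k⁻¹ := by
        rw [← t_conj_of_mem_KK hS hk, ← mul_assoc, ← mul_assoc, hS.mul_self, one_mul]
      nth_rewrite 1 [this]
      group
  have := eq_of_conj_eq hS hs (K_mul_t_mul_self hS hk) (key k hk).1 (K_mul_t_mul_self hS hk')
    (key k' hk').1 (by rw [(key k hk).2, (key k' hk').2, h])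
  exact mul_right_cancel this

theorem eq_one_of_mem_KK_of_commute {s k : G} (hs : s ∈ II G a) (hk : k ∈ KK a t)
    (h : Commute k s) : k = 1 := by
  apply eq_of_K_conj_eq hS hs hk one_mem_invertedBy
  rw [mul_assoc, ← h.eq]; group

/-- `K` is transitive on the involutions of `H`. -/
theorem exists_K_conj_eq {s s' : G} (hs : s ∈ II G a) (hs' : s' ∈ II G a) :
    ∃ k ∈ KK a t, k⁻¹ * s * k = s' := by
  have hw : (t * s' * t) * (t * s' * t) = 1 := by
    have := conj_mul_self hs'.2.2 t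
    rwa [t_inv hS] at this
  have hw1 : t * s' * t ≠ 1 := by
    have := conj_ne_one hs'.2.1 t
    rwa [t_inv hS] at this
  obtain ⟨u, hu, hua, e⟩ := exists_invol_conj_eq hS hs hw
    (t_conj_smul_ne hS (mem_Q_of_mem_II hS hs') hs'.2.1)
  have huu : ∀ c : Ω, u • u • c = c := fun c => by rw [smul_smul, hu, one_smul]
  have h1 : u • a = t • a := by
    apply fixed_unique hS hw1 hw
    · rw [← e, mul_smul, mul_smul, huu, hs.1]
    · rw [mul_smul, mul_smul, tta hS, hs'.1]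
  refine ⟨u * t, mul_t_mem_KK hS hu h1, ?_⟩
  rw [mul_inv_rev, t_inv hS, inv_eq_of_mul_self hu]
  calc t * u * s * (u * t) = t * (u * s * u) * t := by group
    _ = (t * t) * s' * (t * t) := by rw [e]; group
    _ = s' := by rw [hS.mul_self]; group

theorem card_KK : Nat.card (KK a t) = Nat.card (II G a) := by
  obtain ⟨s, hs⟩ := exists_mem_II hS
  refine Nat.card_congr (Equiv.ofBijective (fun k : KK a t =>
    (⟨(k : G)⁻¹ * s * k, conj_mem_II' hs k.2.1.1⟩ : II G a)) ⟨?_, ?_⟩)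
  · intro k k' h
    exact Subtype.ext (eq_of_K_conj_eq hS hs k.2 k'.2 (congrArg Subtype.val h))
  · intro s'
    obtain ⟨k, hk, e⟩ := exists_K_conj_eq hS hs s'.2
    exact ⟨⟨k, hk⟩, Subtype.ext e⟩

/-- For an involution `s` of `H`, `t s t = r⁻¹ (t k) r` with `r ∈ Q`, `k ∈ K`. -/
theorem exists_tst_eq {s : G} (hs : s ∈ II G a) :
    ∃ r ∈ Q, ∃ k ∈ KK a t, t * s * t = r⁻¹ * (t * k) * r := by
  have hw : (t * s * t) * (t * s * t) = 1 := by
    have := conj_mul_self hs.2.2 t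
    rwa [t_inv hS] at this
  obtain ⟨r, hr, e⟩ := exists_mem_Q_smul_eq hS
    (t_conj_smul_ne hS (mem_Q_of_mem_II hS hs) hs.2.1) (ta_ne hS)
  have h1 : (r * (t * s * t) * r⁻¹) • a = t • a := by
    rw [mul_smul, mul_smul, smul_of_mem_Q hS (Q.inv_mem hr), e]
  refine ⟨r, hr, _, t_mul_mem_KK hS (conj_mul_self hw r) h1, ?_⟩
  rw [← mul_assoc t t, hS.mul_self]; group

/-- Existence of the structure equation. -/
theorem exists_structure_eq : ∃ s ∈ II G a, ∃ r ∈ Q, t * s * t = r⁻¹ * t * r := by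
  obtain ⟨s, hs⟩ := exists_mem_II hS
  obtain ⟨r, hr, k, hk, e⟩ := exists_tst_eq hS hs
  obtain ⟨m, hm⟩ := exists_pow_mul_self_eq (odd_orderOf_of_mem_DD hS hk.1)
  have hc := pow_mem_invertedBy hk m
  set c := k ^ m
  have htc := t_conj_of_mem_KK hS hc
  refine ⟨c⁻¹ * s * c, conj_mem_II' hs hc.1.1, c * r * c⁻¹, conj_mem_Q hS hc.1.1 hr, ?_⟩
  have h1 : t * c⁻¹ = c * t := by
    rw [← htc, ← mul_assoc, ← mul_assoc, hS.mul_self, one_mul]
  have h2 : c * t = t * c⁻¹ := h1.symm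
  calc t * (c⁻¹ * s * c) * t = (t * c⁻¹) * s * (c * t) := by group
    _ = c * (t * s * t) * c⁻¹ := by rw [h1]; nth_rewrite 2 [h2]; group
    _ = c * r⁻¹ * c⁻¹ * ((c * t) * (c * c) * c⁻¹) * (c * r * c⁻¹) := by rw [e, hm]; group
    _ = (c * r * c⁻¹)⁻¹ * t * (c * r * c⁻¹) := by rw [h2]; group

/-- Uniqueness in the structure equation. -/
theorem structure_eq_unique {s r s' r' : G} (hs : s ∈ II G a) (hr : r ∈ Q) (hs' : s' ∈ II G a)
    (hr' : r' ∈ Q) (e : t * s * t = r⁻¹ * t * r) (e' : t * s' * t = r'⁻¹ * t * r') :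
    s = s' ∧ r = r' := by
  obtain ⟨c, hc, ec⟩ := exists_K_conj_eq hS hs hs'
  have htc := t_conj_of_mem_KK hS hc
  have h1 : t * c⁻¹ = c * t := by
    rw [← htc, ← mul_assoc, ← mul_assoc, hS.mul_self, one_mul]
  have h2 : c * t = t * c⁻¹ := h1.symm
  have h3 : (c * r * c⁻¹)⁻¹ * (c * c) * t * (c * r * c⁻¹) = r'⁻¹ * 1 * t * r' := by
    rw [mul_one, ← e', ← ec]
    symm
    calc t * (c⁻¹ * s * c) * t = (t * c⁻¹) * s * (c * t) := by group
      _ = c * (t * s * t) * c⁻¹ := by rw [h1]; nth_rewrite 2 [h2]; group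
      _ = c * r⁻¹ * c⁻¹ * (c * (t * c⁻¹)) * (c * r * c⁻¹) := by rw [e]; group
      _ = (c * r * c⁻¹)⁻¹ * (c * c) * t * (c * r * c⁻¹) := by rw [h1]; group
  have hq := conj_mem_Q hS hc.1.1 hr
  obtain ⟨-, h5, h6⟩ := canon3_unique hS (Q.inv_mem hq) ((DD a t).mul_mem hc.1 hc.1) hq
    (Q.inv_mem hr') (DD a t).one_mem hr' h3
  have h7 : c = 1 := eq_one_of_mem_DD_of_mul_self hS hc.1 h5
  subst h7
  exact ⟨by simpa using ec, by simpa using h6⟩

/-- `V` centralises the distinguished pair `(s, r)`. -/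
theorem commute_of_mem_VV {s r v : G} (hs : s ∈ II G a) (hr : r ∈ Q)
    (e : t * s * t = r⁻¹ * t * r) (hv : v ∈ VV a t) : Commute v s ∧ Commute v r := by
  obtain ⟨hvD, hvt⟩ := mem_VV.mp hv
  have h1 : v * t * v⁻¹ = t := by rw [hvt.eq, mul_inv_cancel_right]
  have e' : t * (v * s * v⁻¹) * t = (v * r * v⁻¹)⁻¹ * t * (v * r * v⁻¹) := by
    calc t * (v * s * v⁻¹) * t = (v * t * v⁻¹) * (v * s * v⁻¹) * (v * t * v⁻¹) := by rw [h1]
      _ = v * (t * s * t) * v⁻¹ := by group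
      _ = (v * r * v⁻¹)⁻¹ * (v * t * v⁻¹) * (v * r * v⁻¹) := by rw [e]; group
      _ = _ := by rw [h1]
  obtain ⟨h2, h3⟩ := structure_eq_unique hS (conj_mem_II hs hvD.1) (conj_mem_Q hS hvD.1 hr) hs hr
    e' e
  exact ⟨by rw [Commute, SemiconjBy, ← mul_inv_eq_iff_eq_mul]; exact h2,
    by rw [Commute, SemiconjBy, ← mul_inv_eq_iff_eq_mul]; exact h3⟩

/-- `V = C_D(s)` for the distinguished involution `s`. -/
theorem mem_VV_iff {s r d : G} (hs : s ∈ II G a) (hr : r ∈ Q) (e : t * s * t = r⁻¹ * t * r) :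
    d ∈ VV a t ↔ d ∈ DD a t ∧ Commute d s := by
  constructor
  · intro hd
    exact ⟨(mem_VV.mp hd).1, (commute_of_mem_VV hS hs hr e hd).1⟩
  · rintro ⟨hd, hds⟩
    obtain ⟨v, hv, k, hk, rfl⟩ := exists_V_mul_K hS hd
    have h1 := (commute_of_mem_VV hS hs hr e hv).1
    have h2 : Commute k s := by
      have := h1.inv_left.mul_left hds
      rwa [inv_mul_cancel_left] at this
    rw [eq_one_of_mem_KK_of_commute hS hs hk h2, mul_one]
    exact hv

/-- `W = C_D(H ∩ I)`. -/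
theorem mem_WW_iff {w : G} : w ∈ WW a t ↔ w ∈ DD a t ∧ ∀ s ∈ II G a, Commute s w := by
  obtain ⟨s, hs, r, hr, e⟩ := exists_structure_eq hS
  rw [mem_WW]
  constructor
  · rintro ⟨hv, hK⟩
    refine ⟨(mem_VV.mp hv).1, ?_⟩
    intro s' hs'
    obtain ⟨k, hk, rfl⟩ := exists_K_conj_eq hS hs hs'
    exact ((hK k hk).inv_left.mul_left (commute_of_mem_VV hS hs hr e hv).1.symm).mul_left (hK k hk)
  · rintro ⟨hd, hI⟩
    have hv : w ∈ VV a t := (mem_VV_iff hS hs hr e).mpr ⟨hd, (hI s hs).symm⟩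
    refine ⟨hv, ?_⟩
    intro k hk
    have h1 : w * k * w⁻¹ = k := by
      apply eq_of_K_conj_eq hS hs (conj_mem_KK hS hk hv) hk
      have c1 : w⁻¹ * s * w = s := by rw [mul_assoc, (hI s hs).eq]; group
      have c2 := (hI _ (conj_mem_II' hs hk.1.1)).eq
      calc (w * k * w⁻¹)⁻¹ * s * (w * k * w⁻¹) = w * (k⁻¹ * (w⁻¹ * s * w) * k) * w⁻¹ := by group
        _ = k⁻¹ * s * k := by rw [c1, ← c2]; group
    show k * w = w * k
    conv_lhs => rw [← h1]
    group

end setup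

end CL.RankOne
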