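import Cfsg.Agent.Base
import Cfsg.Agent.RankOne.Invol

/-!
# The rank-one set-up: change of base point, centralisers and fixed points

Peterfalvi, Part II, Chapter I, section 1 Proposition 6, section 2 Proposition 1 (a), (c),
section 3 Lemmas 2 and 3.
-/

set_option autoImplicit false
set_option linter.unusedSectionVars false
set_option linter.style.haveILetI false

namespace CL.RankOne

open Cfsg MulAction

variable {G Ω : Type*} [Group G] [MulAction G Ω] {a : Ω} {t : G} {Q : Subgroup G}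

/-- The conjugate of `Q` attached to the point `c`. -/
def QAt (Q : Subgroup G) (a c : Ω) : Subgroup G where
  carrier := {x | ∀ g : G, g • a = c → g⁻¹ * x * g ∈ Q}
  one_mem' := by intro g _; simp
  mul_mem' := by
    intro x y hx hy g hg
    have : g⁻¹ * (x * y) * g = (g⁻¹ * x * g) * (g⁻¹ * y * g) := by group
    rw [this]; exact Q.mul_mem (hx g hg) (hy g hg)
  inv_mem' := by
    intro x hx g hg
    have : g⁻¹ * x⁻¹ * g = (g⁻¹ * x * g)⁻¹ := by group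
    rw [this]; exact Q.inv_mem (hx g hg)

theorem smul_fixed_of_mem_centralizer {X : Set G} {g : G} (hg : g ∈ Subgroup.centralizer X)
    {b : Ω} (hb : ∀ x ∈ X, x • b = b) : ∀ x ∈ X, x • g • b = g • b := by
  intro x hx
  rw [smul_smul, Subgroup.mem_centralizer_iff.mp hg x hx, mul_smul, hb x hx]

section setup

variable (hS : IsRankOneSetup G Ω a t Q)
include hS

theorem mem_QAt_iff {c : Ω} {g x : G} (hg : g • a = c) : x ∈ QAt Q a c ↔ g⁻¹ * x * g ∈ Q := by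
  constructor
  · intro h; exact h g hg
  · intro h g' hg'
    have h1 : (g⁻¹ * g') • a = a := by rw [mul_smul, hg', ← hg, inv_smul_smul]
    have := conj_mem_Q' hS h1 h
    have e : (g⁻¹ * g')⁻¹ * (g⁻¹ * x * g) * (g⁻¹ * g') = g'⁻¹ * x * g' := by group
    rwa [e] at this

theorem QAt_self : QAt Q a a = Q := by
  ext x
  rw [mem_QAt_iff hS (one_smul G a)]; simp

theorem conj_mem_QAt {c : Ω} {g x : G} (hg : g • a = c) (hx : x ∈ Q) :
    g * x * g⁻¹ ∈ QAt Q a c := by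
  rw [mem_QAt_iff hS hg]
  have : g⁻¹ * (g * x * g⁻¹) * g = x := by group
  rwa [this]

theorem conj_mem_QAt_smul {c : Ω} {g x : G} (hx : x ∈ QAt Q a c) :
    g * x * g⁻¹ ∈ QAt Q a (g • c) := by
  obtain ⟨h, hh⟩ := trans hS a c
  rw [mem_QAt_iff hS (g := g * h) (by rw [mul_smul, hh])]
  have : (g * h)⁻¹ * (g * x * g⁻¹) * (g * h) = h⁻¹ * x * h := by group
  rw [this]; exact hx h hh

variable [Finite G]

/-- Change of base point and of the involution `t`. -/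
theorem rebase {c : Ω} {u : G} (hu : u * u = 1) (huc : u • c ≠ c) :
    IsRankOneSetup G Ω c u (QAt Q a c) := by
  obtain ⟨g, hg1, hg2⟩ := two_trans hS (ta_ne hS).symm huc.symm
  have hgi1 : g⁻¹ • c = a := by rw [← hg1, inv_smul_smul]
  have hgi2 : g⁻¹ • u • c = t • a := by rw [← hg2, inv_smul_smul]
  have hle : QAt Q a c ≤ stabilizer G c := by
    intro x hx
    have h1 := smul_of_mem_Q hS (hx g hg1)
    rw [mul_smul, mul_smul, hg1, inv_smul_eq_iff, hg1] at h1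
    exact h1
  refine ⟨hS.two_transitive, hu, ?_, huc, hle, ?_, ?_, ?_, ?_, ?_⟩
  · rintro rfl; exact huc (one_smul _ _)
  · intro h hh x hx
    have := conj_mem_QAt_smul hS (g := h) hx
    rwa [show h • c = c from hh] at this
  · rw [eq_bot_iff]
    rintro x ⟨hx, hx2⟩
    have h1 : g⁻¹ * x * g = 1 := by
      apply eq_one_of_mem_Q_of_smul_ta hS (hx g hg1)
      rw [mul_smul, mul_smul, hg2, show x • u • c = u • c from hx2, hgi2]
    have : x = g * (g⁻¹ * x * g) * g⁻¹ := by group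
    rw [Subgroup.mem_bot, this, h1]; group
  · apply le_antisymm (sup_le hle inf_le_left)
    intro h hh
    have h1 : (g⁻¹ * h * g) • a = a := by
      rw [mul_smul, mul_smul, hg1, show h • c = c from hh, hgi1]
    obtain ⟨q, hq, d, hd, e⟩ := decomp hS h1
    have e2 : h = (g * q * g⁻¹) * (g * d * g⁻¹) := by
      calc h = g * (g⁻¹ * h * g) * g⁻¹ := by group
        _ = _ := by rw [e]; group
    rw [e2]
    refine Subgroup.mul_mem _ (Subgroup.mem_sup_left (conj_mem_QAt hS hg1 hq))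
      (Subgroup.mem_sup_right ⟨?_, ?_⟩)
    · show (g * d * g⁻¹) • c = c
      rw [mul_smul, mul_smul, hgi1, hd.1, hg1]
    · show (g * d * g⁻¹) • u • c = u • c
      rw [mul_smul, mul_smul, hgi2, hd.2, hg2]
  · obtain ⟨s, hs, h1, h2⟩ := exists_invol_mem_Q hS
    exact even_card_of_invol (conj_mem_QAt hS hg1 hs) (conj_ne_one h1 g) (conj_mul_self h2 g)
  · apply odd_card_of_no_invol
    intro x hx h2
    by_contra h1
    exact huc (fixed_unique hS h1 h2 hx.2 hx.1)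

/-- Change of the involution `t` only. -/
theorem rebase_t {u : G} (hu : u * u = 1) (hua : u • a ≠ a) : IsRankOneSetup G Ω a u Q := by
  have := rebase hS hu hua
  rwa [QAt_self hS] at this

/-- Any two distinct points are interchanged by an involution. -/
theorem exists_invol_smul_eq {b c : Ω} (hbc : b ≠ c) : ∃ u : G, u * u = 1 ∧ u • b = c := by
  obtain ⟨g, hg1, hg2⟩ := two_trans hS (ta_ne hS).symm hbc
  refine ⟨g * t * g⁻¹, conj_mul_self hS.mul_self g, ?_⟩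
  rw [← hg1, mul_smul, mul_smul, inv_smul_smul, hg2]

theorem exists_ne (c : Ω) : ∃ b : Ω, b ≠ c := by
  by_cases h : a = c
  · exact ⟨t • a, h ▸ ta_ne hS⟩
  · exact ⟨a, h⟩

theorem exists_rebase (c : Ω) : ∃ u : G, IsRankOneSetup G Ω c u (QAt Q a c) := by
  obtain ⟨b, hb⟩ := exists_ne hS c
  obtain ⟨u, hu, e⟩ := exists_invol_smul_eq hS hb.symm
  exact ⟨u, rebase hS hu (by rw [e]; exact hb)⟩

theorem exists_rebase_two {b c : Ω} (hbc : b ≠ c) :
    ∃ u : G, u • b = c ∧ IsRankOneSetup G Ω b u (QAt Q a b) := by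
  obtain ⟨u, hu, e⟩ := exists_invol_smul_eq hS hbc
  exact ⟨u, e, rebase hS hu (by rw [e]; exact hbc.symm)⟩

/-- If `X` fixes `a`, then `C_Q(X)` is transitive on the other fixed points of `X`. -/
theorem exists_cent_Q_smul_eq {X : Set G} (ha : ∀ x ∈ X, x • a = a) {b c : Ω} (hb : b ≠ a)
    (hc : c ≠ a) (hXb : ∀ x ∈ X, x • b = b) (hXc : ∀ x ∈ X, x • c = c) :
    ∃ q ∈ Q, q ∈ Subgroup.centralizer X ∧ q • b = c := by
  obtain ⟨q, hq, e⟩ := exists_mem_Q_smul_eq hS hb hc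
  refine ⟨q, hq, ?_, e⟩
  rw [Subgroup.mem_centralizer_iff]
  intro x hx
  have h1 : x * q * x⁻¹ = q := by
    apply eq_of_mem_Q_of_smul_eq hS (conj_mem_Q hS (ha x hx) hq) hq hb
    have : x⁻¹ • b = b := by rw [inv_smul_eq_iff, hXb x hx]
    rw [mul_smul, mul_smul, this, e, hXc x hx]
  conv_rhs => rw [← h1]
  group

theorem exists_cent_fix_smul_eq {X : Set G} {e b c : Ω} (he : ∀ x ∈ X, x • e = e) (hb : b ≠ e)
    (hc : c ≠ e) (hXb : ∀ x ∈ X, x • b = b) (hXc : ∀ x ∈ X, x • c = c) :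
    ∃ q ∈ Subgroup.centralizer X, q • e = e ∧ q • b = c := by
  obtain ⟨u, hu⟩ := exists_rebase hS e
  obtain ⟨q, hq, h1, h2⟩ := exists_cent_Q_smul_eq hu he hb hc hXb hXc
  exact ⟨q, h1, smul_of_mem_Q hu hq, h2⟩

/-- If `X` fixes three points then `C_G(X)` is transitive on the fixed points of `X`. -/
theorem cent_trans {X : Set G}
    (h3 : ∃ b c d : Ω, b ≠ c ∧ b ≠ d ∧ c ≠ d ∧ ∀ x ∈ X, x • b = b ∧ x • c = c ∧ x • d = d)
    {b c : Ω} (hXb : ∀ x ∈ X, x • b = b) (hXc : ∀ x ∈ X, x • c = c) :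
    ∃ g ∈ Subgroup.centralizer X, g • b = c := by
  obtain ⟨e, he, hb, hc⟩ : ∃ e : Ω, (∀ x ∈ X, x • e = e) ∧ b ≠ e ∧ c ≠ e := by
    obtain ⟨e1, e2, e3, h12, h13, h23, h⟩ := h3
    by_cases c1 : b ≠ e1 ∧ c ≠ e1
    · exact ⟨e1, fun x hx => (h x hx).1, c1.1, c1.2⟩
    by_cases c2 : b ≠ e2 ∧ c ≠ e2
    · exact ⟨e2, fun x hx => (h x hx).2.1, c2.1, c2.2⟩
    refine ⟨e3, fun x hx => (h x hx).2.2, ?_, ?_⟩ <;> grind
  obtain ⟨q, hq, -, h⟩ := exists_cent_fix_smul_eq hS he hb hc hXb hXc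
  exact ⟨q, hq, h⟩

/-- If `X` fixes three points then `C_G(X)` is doubly transitive on the fixed points of `X`. -/
theorem cent_two_trans {X : Set G}
    (h3 : ∃ b c d : Ω, b ≠ c ∧ b ≠ d ∧ c ≠ d ∧ ∀ x ∈ X, x • b = b ∧ x • c = c ∧ x • d = d)
    {b₁ b₂ c₁ c₂ : Ω} (hb1 : ∀ x ∈ X, x • b₁ = b₁) (hb2 : ∀ x ∈ X, x • b₂ = b₂)
    (hc1 : ∀ x ∈ X, x • c₁ = c₁) (hc2 : ∀ x ∈ X, x • c₂ = c₂) (hb : b₁ ≠ b₂) (hc : c₁ ≠ c₂) :
    ∃ g ∈ Subgroup.centralizer X, g • b₁ = c₁ ∧ g • b₂ = c₂ := by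
  obtain ⟨g, hg, e⟩ := cent_trans hS h3 hb1 hc1
  have h1 : g • b₂ ≠ c₁ := by
    rw [← e]; intro h; exact hb (smul_left_cancel g h).symm
  obtain ⟨q, hq, e1, e2⟩ := exists_cent_fix_smul_eq hS hc1 h1 hc.symm
    (smul_fixed_of_mem_centralizer hg hb2) hc2
  exact ⟨q * g, Subgroup.mul_mem _ hq hg, by rw [mul_smul, e, e1], by rw [mul_smul, e2]⟩

/-- If `X` fixes `a` and three points in all, `C_Q(X)` contains an involution. -/
theorem exists_invol_mem_cent {X : Set G} (ha : ∀ x ∈ X, x • a = a)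
    (h3 : ∃ b c d : Ω, b ≠ c ∧ b ≠ d ∧ c ≠ d ∧ ∀ x ∈ X, x • b = b ∧ x • c = c ∧ x • d = d) :
    ∃ s ∈ II G a, s ∈ Subgroup.centralizer X := by
  obtain ⟨b, hba, hb⟩ : ∃ b : Ω, b ≠ a ∧ ∀ x ∈ X, x • b = b := by
    obtain ⟨e1, e2, e3, h12, -, -, h⟩ := h3
    by_cases c1 : e1 = a
    · exact ⟨e2, c1 ▸ h12.symm, fun x hx => (h x hx).2.1⟩
    · exact ⟨e1, c1, fun x hx => (h x hx).1⟩
  obtain ⟨g, hg, e1, e2⟩ := cent_two_trans hS h3 ha hb hb ha hba.symm hba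
  have hev : Even (Nat.card (Subgroup.centralizer X)) := by
    by_contra hodd
    rw [Nat.not_even_iff_odd] at hodd
    obtain ⟨m, hm⟩ := exists_eq_sq_pow (odd_orderOf_of_mem hodd hg)
    have h1 : g * g ∈ stabilizer G a := by
      show (g * g) • a = a
      rw [mul_smul, e1, e2]
    have h2 : g ∈ stabilizer G a := by rw [hm]; exact Subgroup.pow_mem _ h1 m
    exact hba (e1.symm.trans h2)
  obtain ⟨u, hu, hu1, hu2⟩ := exists_invol_of_even hev
  obtain ⟨c, hc⟩ := exists_fixed hS hu2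
  have hXc : ∀ x ∈ X, x • c = c := fun x hx =>
    smul_eq_of_commute_invol hS hu1 hu2 (Subgroup.mem_centralizer_iff.mp hu x hx) hc
  obtain ⟨h, hh, e⟩ := cent_trans hS h3 hXc ha
  refine ⟨h * u * h⁻¹, ⟨?_, conj_ne_one hu1 h, conj_mul_self hu2 h⟩,
    Subgroup.mul_mem _ (Subgroup.mul_mem _ hh hu) (Subgroup.inv_mem _ hh)⟩
  show (h * u * h⁻¹) • a = a
  rw [← e, mul_smul, mul_smul, inv_smul_smul, hc]

/-- `C_H(X) = C_Q(X) C_D(X)` for `X ⊆ D`. -/
theorem cent_decomp {X : Set G} (hX : ∀ x ∈ X, x ∈ DD a t) {h : G}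
    (hh : h ∈ Subgroup.centralizer X) (ha : h • a = a) :
    ∃ q ∈ Q, q ∈ Subgroup.centralizer X ∧ ∃ d ∈ DD a t, d ∈ Subgroup.centralizer X ∧ h = q * d := by
  obtain ⟨q, hq, hqX, e⟩ := exists_cent_Q_smul_eq hS (fun x hx => (hX x hx).1) (ta_ne hS)
    (smul_ne_of_smul_eq hS ha (ta_ne hS)) (fun x hx => (hX x hx).2)
    (smul_fixed_of_mem_centralizer hh (fun x hx => (hX x hx).2))
  refine ⟨q, hq, hqX, q⁻¹ * h, ⟨?_, ?_⟩, Subgroup.mul_mem _ (Subgroup.inv_mem _ hqX) hh, by group⟩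
  · show (q⁻¹ * h) • a = a
    rw [mul_smul, ha, smul_of_mem_Q hS (Q.inv_mem hq)]
  · show (q⁻¹ * h) • t • a = t • a
    rw [mul_smul, ← e, inv_smul_smul]

/-- A subset of `D` fixing three points is conjugate into `V` by an element of `K`. -/
theorem exists_K_conj_mem_VV {X : Set G} (hX : ∀ x ∈ X, x ∈ DD a t)
    (h3 : ∃ b c d : Ω, b ≠ c ∧ b ≠ d ∧ c ≠ d ∧ ∀ x ∈ X, x • b = b ∧ x • c = c ∧ x • d = d) :
    ∃ k ∈ KK a t, ∀ x ∈ X, k * x * k⁻¹ ∈ VV a t := by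
  obtain ⟨u, hu, huX⟩ := exists_invol_mem_cent hS (fun x hx => (hX x hx).1) h3
  obtain ⟨s, hs, r, hr, e⟩ := exists_structure_eq hS
  obtain ⟨k, hk, ek⟩ := exists_K_conj_eq hS hs hu
  refine ⟨k, hk, fun x hx => ?_⟩
  rw [mem_VV_iff hS hs hr e]
  refine ⟨(DD a t).mul_mem ((DD a t).mul_mem hk.1 (hX x hx)) ((DD a t).inv_mem hk.1), ?_⟩
  have h1 := Subgroup.mem_centralizer_iff.mp huX x hx
  rw [← ek] at h1
  show k * x * k⁻¹ * s = s * (k * x * k⁻¹)
  calc k * x * k⁻¹ * s = k * (x * (k⁻¹ * s * k)) * k⁻¹ := by group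
    _ = s * (k * x * k⁻¹) := by rw [h1]; group

/-- If `x ∈ V` and `k x k⁻¹ ∈ V` with `k ∈ K`, then `k` centralises `x`. -/
theorem commute_of_K_conj_mem_VV {k x : G} (hk : k ∈ KK a t) (hx : x ∈ VV a t)
    (h : k * x * k⁻¹ ∈ VV a t) : Commute k x := by
  apply commute_of_sq_commute_of_odd (odd_orderOf_of_mem_DD hS hk.1)
  have h1 : t * x * t⁻¹ = x := by rw [← (mem_VV.mp hx).2.eq, mul_inv_cancel_right]
  have h2 : t * (k * x * k⁻¹) * t⁻¹ = k * x * k⁻¹ := by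
    rw [← (mem_VV.mp h).2.eq, mul_inv_cancel_right]
  have h3 : t * (k * x * k⁻¹) * t⁻¹ = k⁻¹ * x * k := by
    calc t * (k * x * k⁻¹) * t⁻¹ = (t * k * t⁻¹) * (t * x * t⁻¹) * (t * k * t⁻¹)⁻¹ := by group
      _ = _ := by rw [hk.2, h1]; group
  show k * k * x = x * (k * k)
  calc k * k * x = k * (k * x * k⁻¹) * k := by group
    _ = k * (k⁻¹ * x * k) * k := by rw [← h2, h3]
    _ = x * (k * k) := by group

/-- A conjugate of a non-trivial element of `K` under `K` does not lie in `V`. -/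
theorem eq_one_of_K_conj_mem_VV {k x : G} (hk : k ∈ KK a t) (hx : x ∈ KK a t)
    (h : k * x * k⁻¹ ∈ VV a t) : x = 1 := by
  have h2 : t * (k * x * k⁻¹) * t⁻¹ = k * x * k⁻¹ := by
    rw [← (mem_VV.mp h).2.eq, mul_inv_cancel_right]
  have h3 : t * (k * x * k⁻¹) * t⁻¹ = k⁻¹ * x⁻¹ * k := by
    calc t * (k * x * k⁻¹) * t⁻¹ = (t * k * t⁻¹) * (t * x * t⁻¹) * (t * k * t⁻¹)⁻¹ := by group
      _ = _ := by rw [hk.2, hx.2]; group
  have h4 : (k * k) * x * (k * k)⁻¹ = x⁻¹ := by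
    calc (k * k) * x * (k * k)⁻¹ = k * (k * x * k⁻¹) * k⁻¹ := by group
      _ = k * (k⁻¹ * x⁻¹ * k) * k⁻¹ := by rw [← h2, h3]
      _ = x⁻¹ := by group
  have h5 : Commute ((k * k) * (k * k)) x := by
    show k * k * (k * k) * x = x * (k * k * (k * k))
    have h7 : (k * k) * x⁻¹ * (k * k)⁻¹ = x := by
      rw [← conj_inv, h4, inv_inv]
    calc k * k * (k * k) * x = (k * k) * ((k * k) * x * (k * k)⁻¹) * (k * k) := by group
      _ = ((k * k) * x⁻¹ * (k * k)⁻¹) * (k * k * (k * k)) := by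
        rw [h4]; simp only [mul_assoc, mul_inv_rev, inv_mul_cancel_left]
      _ = _ := by rw [h7]
  have h6 := commute_of_sq_commute_of_odd
    (odd_orderOf_of_mem_DD hS ((DD a t).mul_mem hk.1 hk.1)) h5
  rw [h6.eq, mul_inv_cancel_right] at h4
  apply eq_one_of_mem_DD_of_mul_self hS hx.1
  nth_rewrite 2 [h4]
  exact mul_inv_cancel x

/-- A non-trivial element of `K` acts fixed-point-freely on `Q`. -/
theorem eq_one_of_commute_K {x q : G} (hx : x ∈ KK a t) (hx1 : x ≠ 1) (hq : q ∈ Q)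
    (h : Commute x q) : q = 1 := by
  by_contra hq1
  obtain ⟨k, hk, e⟩ := exists_K_conj_mem_VV hS (X := {x}) (by simpa using hx.1)
    ⟨a, t • a, q • t • a, (ta_ne hS).symm,
      (smul_ne_of_smul_eq hS (smul_of_mem_Q hS hq) (ta_ne hS)).symm,
      fun h => hq1 (eq_one_of_mem_Q_of_smul_ta hS hq h.symm), by
        intro y hy
        rw [Set.mem_singleton_iff.mp hy]
        refine ⟨hx.1.1, hx.1.2, ?_⟩
        rw [smul_smul x q, h.eq, mul_smul, hx.1.2]⟩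
  exact hx1 (eq_one_of_K_conj_mem_VV hS hk hx (e x rfl))

/-- A non-trivial element of `K` fixes only `a` and `t • a`. -/
theorem fixed_of_mem_KK {x : G} (hx : x ∈ KK a t) (hx1 : x ≠ 1) {c : Ω} (hc : x • c = c) :
    c = a ∨ c = t • a := by
  by_contra h
  push Not at h
  obtain ⟨q, hq, hqx, e⟩ := exists_cent_Q_smul_eq hS (X := {x}) (by simpa using hx.1.1) (ta_ne hS)
    h.1 (by simpa using hx.1.2) (by simpa using hc)
  have := eq_one_of_commute_K hS hx hx1 hq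
    (Subgroup.mem_centralizer_singleton_iff.mp hqx).symm
  rw [this, one_smul] at e
  exact h.2 e.symm

/-- `V` fixes three points. -/
theorem VV_fixes_three {X : Set G} (hX : ∀ x ∈ X, x ∈ VV a t) :
    ∃ b c d : Ω, b ≠ c ∧ b ≠ d ∧ c ≠ d ∧ ∀ x ∈ X, x • b = b ∧ x • c = c ∧ x • d = d := by
  obtain ⟨c, hc⟩ := exists_fixed hS hS.mul_self
  refine ⟨a, t • a, c, (ta_ne hS).symm, ?_, ?_, fun x hx => ⟨(hX x hx).1.1, (hX x hx).1.2, ?_⟩⟩
  · rintro rfl; exact ta_ne hS hc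
  · rintro rfl; rw [tta hS] at hc; exact ta_ne hS hc.symm
  · exact smul_eq_of_commute_invol hS hS.ne_one hS.mul_self (mem_VV.mp (hX x hx)).2 hc

/-- Fusion of subsets of `V` (elementwise form). -/
theorem exists_V_conj {X : Set G} (hX : ∀ x ∈ X, x ∈ VV a t) {g : G}
    (hY : ∀ x ∈ X, g * x * g⁻¹ ∈ VV a t) : ∃ v ∈ VV a t, ∀ x ∈ X, v * x * v⁻¹ = g * x * g⁻¹ := by
  have h3 := VV_fixes_three hS hX
  have hfix : ∀ c : Ω, (∀ v ∈ VV a t, v • c = c) → ∀ x ∈ X, x • g⁻¹ • c = g⁻¹ • c := by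
    intro c hc x hx
    have := hc _ (hY x hx)
    rw [mul_smul, mul_smul] at this
    rw [eq_inv_smul_iff, this]
  obtain ⟨h, hh, e1, e2⟩ := cent_two_trans hS h3 (fun x hx => (hX x hx).1.1)
    (fun x hx => (hX x hx).1.2) (hfix a (fun v hv => hv.1.1)) (hfix (t • a) (fun v hv => hv.1.2))
    (ta_ne hS).symm (fun h => ta_ne hS (smul_left_cancel _ h).symm)
  have hd : g * h ∈ DD a t := by
    refine ⟨?_, ?_⟩
    · show (g * h) • a = a
      rw [mul_smul, e1, smul_inv_smul]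
    · show (g * h) • t • a = t • a
      rw [mul_smul, e2, smul_inv_smul]
  have hgh : ∀ x ∈ X, (g * h) * x * (g * h)⁻¹ = g * x * g⁻¹ := by
    intro x hx
    have := Subgroup.mem_centralizer_iff.mp hh x hx
    calc (g * h) * x * (g * h)⁻¹ = g * (h * x) * h⁻¹ * g⁻¹ := by group
      _ = _ := by rw [← this]; group
  obtain ⟨v, hv, k, hk, e⟩ := exists_V_mul_K hS hd
  refine ⟨v, hv, fun x hx => ?_⟩
  have h1 : k * x * k⁻¹ ∈ VV a t := by
    have : k * x * k⁻¹ = v⁻¹ * (g * x * g⁻¹) * v := by rw [← hgh x hx, e]; group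
    rw [this]
    exact (VV a t).mul_mem ((VV a t).mul_mem ((VV a t).inv_mem hv) (hY x hx)) hv
  have h2 := commute_of_K_conj_mem_VV hS hk (hX x hx) h1
  rw [← hgh x hx, e]
  calc v * x * v⁻¹ = v * (x * k) * k⁻¹ * v⁻¹ := by group
    _ = _ := by rw [← h2.eq]; group

end setup

end CL.RankOne
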