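import Cfsg.Agent.Base
import Cfsg.Agent.RankOne.Fixed

/-!
# The rank-one set-up: the involutions of `H` are central in `Q`; strongly real elements
-/

set_option autoImplicit false
set_option linter.unusedSectionVars false
set_option linter.style.haveILetI false

namespace CL.RankOne

open Cfsg MulAction

variable {G Ω : Type*} [Group G] [MulAction G Ω] {a : Ω} {t : G} {Q : Subgroup G}

section setup

variable (hS : IsRankOneSetup G Ω a t Q) [Finite G]
include hS

/-- For `d ∈ H` acting fixed-point-freely on `Q`, every element of `Q` is a commutator with `d`. -/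
theorem exists_commutator_eq {d : G} (hd : d • a = a) (hfpf : ∀ q ∈ Q, Commute d q → q = 1)
    {x : G} (hx : x ∈ Q) : ∃ z ∈ Q, d⁻¹ * z * d * z⁻¹ = x := by
  let f : Q → Q := fun z => ⟨d⁻¹ * z * d * (z : G)⁻¹,
    Q.mul_mem (conj_mem_Q' hS hd z.2) (Q.inv_mem z.2)⟩
  have hinj : Function.Injective f := by
    intro z z' h
    have h1 : d⁻¹ * z * d * (z : G)⁻¹ = d⁻¹ * z' * d * (z' : G)⁻¹ := congrArg Subtype.val h
    have h2 : (z' : G)⁻¹ * z = 1 := by
      apply hfpf _ (Q.mul_mem (Q.inv_mem z'.2) z.2)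
      show d * ((z' : G)⁻¹ * z) = (z' : G)⁻¹ * z * d
      calc d * ((z' : G)⁻¹ * z) = (z' : G)⁻¹ * d * (d⁻¹ * z' * d * (z' : G)⁻¹) * z := by group
        _ = (z' : G)⁻¹ * z * d := by rw [← h1]; group
    exact Subtype.ext (inv_mul_eq_one.mp h2).symm
  obtain ⟨z, hz⟩ := (Finite.injective_iff_surjective.mp hinj) ⟨x, hx⟩
  exact ⟨z, z.2, congrArg Subtype.val hz⟩

/-- The involutions of `H` are central in `Q`. -/
theorem commute_of_mem_II {s x : G} (hs : s ∈ II G a) (hx : x ∈ Q) : Commute s x := by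
  obtain ⟨k, hk, e⟩ := exists_K_conj_eq hS hs (conj_mem_II' hs (smul_of_mem_Q hS hx))
  by_cases hk1 : k = 1
  · subst hk1
    show s * x = x * s
    calc s * x = x * (x⁻¹ * s * x) := by group
      _ = x * s := by rw [← e]; group
  · exfalso
    obtain ⟨z, hz, ez⟩ := exists_commutator_eq hS hk.1.1
      (fun q hq h => eq_one_of_commute_K hS hk hk1 hq h) (Q.inv_mem hx)
    have h1 : z⁻¹ * s * z = 1 := by
      apply eq_one_of_commute_K hS hk hk1
        (conj_mem_Q' hS (smul_of_mem_Q hS hz) (mem_Q_of_mem_II hS hs))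
      have h2 : x = (k⁻¹ * z * k * z⁻¹)⁻¹ := by rw [ez, inv_inv]
      show k * (z⁻¹ * s * z) = z⁻¹ * s * z * k
      calc k * (z⁻¹ * s * z) = z⁻¹ * k * (x⁻¹ * s * x) * (k⁻¹ * z * k) := by
            rw [h2]; group
        _ = z⁻¹ * s * z * k := by rw [← e]; group
    exact conj_ne_one' hs.2.1 z h1

theorem commute_II {s s' : G} (hs : s ∈ II G a) (hs' : s' ∈ II G a) : Commute s s' :=
  commute_of_mem_II hS hs (mem_Q_of_mem_II hS hs')

theorem mul_mem_II {s s' : G} (hs : s ∈ II G a) (hs' : s' ∈ II G a) :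
    s * s' = 1 ∨ s * s' ∈ II G a := by
  by_cases h : s * s' = 1
  · exact Or.inl h
  · refine Or.inr ⟨(stabilizer G a).mul_mem hs.1 hs'.1, h, ?_⟩
    calc s * s' * (s * s') = s * (s' * s) * s' := by group
      _ = (s * s) * (s' * s') := by rw [← (commute_II hS hs hs').eq]; group
      _ = 1 := by rw [hs.2.2, hs'.2.2, mul_one]

/-- Involutions with the same fixed point commute. -/
theorem commute_of_fixed {u v : G} (hu : u * u = 1) (hv : v * v = 1) {c : Ω} (huc : u • c = c)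
    (hvc : v • c = c) : Commute u v := by
  by_cases hu1 : u = 1
  · rw [hu1]; exact Commute.one_left v
  by_cases hv1 : v = 1
  · rw [hv1]; exact Commute.one_right u
  obtain ⟨w, hw⟩ := exists_rebase hS c
  exact commute_II hw ⟨huc, hu1, hu⟩ ⟨hvc, hv1, hv⟩

theorem mul_mul_self_of_fixed {u v : G} (hu : u * u = 1) (hv : v * v = 1) {c : Ω}
    (huc : u • c = c) (hvc : v • c = c) : (u * v) * (u * v) = 1 := by
  calc u * v * (u * v) = u * (v * u) * v := by group
    _ = (u * u) * (v * v) := by rw [← (commute_of_fixed hS hu hv huc hvc).eq]; group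
    _ = 1 := by rw [hu, hv, mul_one]

/-- The two-point stabiliser `G_{b,c}` is transitive on the involutions fixing `c`. -/
theorem exists_conj_invol_fix {b c : Ω} (hbc : b ≠ c) {u v : G} (hu : u ∈ II G c)
    (hv : v ∈ II G c) : ∃ k : G, k • b = b ∧ k • c = c ∧ k⁻¹ * u * k = v := by
  obtain ⟨w, hw, hS'⟩ := exists_rebase_two hS hbc.symm
  obtain ⟨k, hk, e⟩ := exists_K_conj_eq hS' hu hv
  exact ⟨k, hw ▸ hk.1.2, hk.1.1, e⟩

/-- A strongly real element with non-trivial square is conjugate to some `u' t`. -/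
theorem strongly_real_conj {u v : G} (hu1 : u ≠ 1) (hu : u * u = 1) (hv1 : v ≠ 1) (hv : v * v = 1)
    (hx : (u * v) * (u * v) ≠ 1) :
    ∃ g : G, ∃ u' ∈ II G a, g * (u * v) * g⁻¹ = u' * t := by
  obtain ⟨b, hb⟩ := exists_fixed hS hu
  obtain ⟨c, hc⟩ := exists_fixed hS hv
  obtain ⟨e, he⟩ := exists_fixed hS hS.mul_self
  have hbc : b ≠ c := by
    rintro rfl; exact hx (mul_mul_self_of_fixed hS hu hv hb hc)
  have hae : a ≠ e := by
    rintro rfl; exact ta_ne hS he
  obtain ⟨g, hg1, hg2⟩ := two_trans hS hbc hae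
  have h1 : g * u * g⁻¹ ∈ II G a := by
    refine ⟨?_, conj_ne_one hu1 g, conj_mul_self hu g⟩
    show (g * u * g⁻¹) • a = a
    rw [← hg1, mul_smul, mul_smul, inv_smul_smul, hb]
  have h2 : g * v * g⁻¹ ∈ II G e := by
    refine ⟨?_, conj_ne_one hv1 g, conj_mul_self hv g⟩
    show (g * v * g⁻¹) • e = e
    rw [← hg2, mul_smul, mul_smul, inv_smul_smul, hc]
  obtain ⟨k, hk1, -, ek⟩ := exists_conj_invol_fix hS hae h2 ⟨he, hS.ne_one, hS.mul_self⟩
  refine ⟨k⁻¹ * g, _, conj_mem_II' h1 hk1, ?_⟩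
  rw [← ek]; group

/-- A strongly real element with non-trivial square commutes with no involution. -/
theorem strongly_real_no_invol {u v : G} (hu : u * u = 1) (hv : v * v = 1)
    (hx : (u * v) * (u * v) ≠ 1) {z : G} (hz : Commute z (u * v)) (hz2 : z * z = 1) : z = 1 := by
  by_contra hz1
  obtain ⟨c, hc⟩ := exists_fixed hS hz2
  have hxc : (u * v) • c = c := smul_eq_of_commute_invol hS hz1 hz2 hz.symm hc
  have huu : ∀ c : Ω, u • u • c = c := fun c => by rw [smul_smul, hu, one_smul]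
  have hvc : v • c = u • c := by
    have := congrArg (fun e => u • e) hxc
    simp only [mul_smul, huu] at this
    exact this
  have huc : u • c ≠ c := by
    intro h
    exact hx (mul_mul_self_of_fixed hS hu hv h (hvc.trans h))
  have hS' := rebase hS hu huc
  have hK : u * v ∈ KK c u := t_mul_mem_KK hS' hv hvc
  have hx1 : u * v ≠ 1 := by
    intro h; apply hx; rw [h, mul_one]
  exact hz1 (eq_one_of_commute_K hS' hK hx1 (mem_Q_of_invol hS' hc hz2) hz.symm)

theorem strongly_real_odd {u v : G} (hu : u * u = 1) (hv : v * v = 1)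
    (hx : (u * v) * (u * v) ≠ 1) : Odd (Nat.card ↥(Subgroup.centralizer {u * v})) := by
  apply odd_card_of_no_invol
  intro z hz hz2
  exact strongly_real_no_invol hS hu hv hx (Subgroup.mem_centralizer_singleton_iff.mp hz) hz2

/-- With `2`-rank at least two, `H` has two distinct involutions. -/
theorem exists_two_II
    (h2 : ∃ x y : G, x ≠ 1 ∧ y ≠ 1 ∧ x ≠ y ∧ x * x = 1 ∧ y * y = 1 ∧ x * y = y * x) :
    ∃ x ∈ II G a, ∃ y ∈ II G a, x ≠ y := by
  obtain ⟨x, y, hx1, hy1, hxy, hx, hy, hc⟩ := h2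
  obtain ⟨c, hc'⟩ := exists_fixed hS hx
  have hyc : y • c = c := smul_eq_of_commute_invol hS hx1 hx hc.symm hc'
  obtain ⟨g, hg⟩ := trans hS c a
  refine ⟨g * x * g⁻¹, ⟨?_, conj_ne_one hx1 g, conj_mul_self hx g⟩, g * y * g⁻¹,
    ⟨?_, conj_ne_one hy1 g, conj_mul_self hy g⟩, ?_⟩
  · show (g * x * g⁻¹) • a = a
    rw [← hg, mul_smul, mul_smul, inv_smul_smul, hc']
  · show (g * y * g⁻¹) • a = a
    rw [← hg, mul_smul, mul_smul, inv_smul_smul, hyc]
  · intro h
    exact hxy (mul_left_cancel (mul_right_cancel h))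

/-- With `2`-rank at least two, `K` is non-trivial. -/
theorem exists_K_ne_one
    (h2 : ∃ x y : G, x ≠ 1 ∧ y ≠ 1 ∧ x ≠ y ∧ x * x = 1 ∧ y * y = 1 ∧ x * y = y * x) :
    ∃ k ∈ KK a t, k ≠ 1 := by
  obtain ⟨x, hx, y, hy, hxy⟩ := exists_two_II hS h2
  obtain ⟨k, hk, e⟩ := exists_K_conj_eq hS hx hy
  refine ⟨k, hk, ?_⟩
  rintro rfl
  exact hxy (by simpa using e)

/-- With `2`-rank at least two, a normal subgroup of odd order fixes `a`. -/
theorem le_stabilizer_of_normal_odd
    (h2 : ∃ x y : G, x ≠ 1 ∧ y ≠ 1 ∧ x ≠ y ∧ x * x = 1 ∧ y * y = 1 ∧ x * y = y * x)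
    (N : Subgroup G) [hN : N.Normal] (hodd : Odd (Nat.card N)) : N ≤ stabilizer G a := by
  obtain ⟨x, hx, y, hy, hxy⟩ := exists_two_II hS h2
  intro o ho
  by_contra hoa
  have h1 : (o * x * o⁻¹) • a ≠ a := by
    intro h
    apply hoa
    apply fixed_unique hS (conj_ne_one hx.2.1 o) (conj_mul_self hx.2.2 o) _ h
    rw [mul_smul, mul_smul, inv_smul_smul, hx.1]
  have hodd2 := odd_orderOf_mul hS hy.2.1 hy.2.2 (conj_mul_self hx.2.2 o) hy.1 h1
  have hyx : y * x ∈ II G a := by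
    rcases mul_mem_II hS hy hx with h | h
    · exfalso; apply hxy
      rw [← inv_eq_of_mul_eq_one_right h, inv_eq_of_mul_self hy.2.2]
    · exact h
  have h3 : (QuotientGroup.mk (y * (o * x * o⁻¹)) : G ⧸ N) = QuotientGroup.mk (y * x) := by
    have : (QuotientGroup.mk o : G ⧸ N) = 1 := (QuotientGroup.eq_one_iff o).mpr ho
    simp [this]
  have h4 : Odd (orderOf (QuotientGroup.mk (y * x) : G ⧸ N)) := by
    rw [← h3]
    exact Odd.of_dvd_nat hodd2 (orderOf_map_dvd (QuotientGroup.mk' N) _)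
  have h5 : (QuotientGroup.mk (y * x) : G ⧸ N) = 1 := by
    apply eq_one_of_odd_of_mul_self h4
    rw [← QuotientGroup.mk_mul, hyx.2.2, QuotientGroup.mk_one]
  exact hyx.2.1 (eq_one_of_odd_of_mul_self
    (odd_orderOf_of_mem hodd ((QuotientGroup.eq_one_iff _).mp h5)) hyx.2.2)

end setup

end CL.RankOne
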