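import Cfsg.Agent.Base
import Cfsg.Agent.Solv.UniqueSubgroupP
import Cfsg.Agent.S0126

/-!
# A `p`-group acting with stabilisers of constant order (Peterfalvi, Part II, Appendix I, Lemma)
-/

set_option autoImplicit false
set_option linter.unusedSectionVars false
set_option linter.style.haveILetI false

namespace CL.RankOne

open MulAction

section

variable {P E : Type*} [Group P] [AddCommGroup E] [DistribMulAction P E]

/-- The norm map `e ↦ ∑_{i<n} x^i e`. -/
def normSum (n : ℕ) (x : P) (e : E) : E := ∑ i ∈ Finset.range n, x ^ i • e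

theorem normSum_add (n : ℕ) (x : P) (e e' : E) :
    normSum n x (e + e') = normSum n x e + normSum n x e' := by
  simp [normSum, Finset.sum_add_distrib]

theorem smul_normSum_self {n : ℕ} {x : P} (hx : x ^ n = 1) (e : E) :
    x • normSum n x e = normSum n x e := by
  have h1 := Finset.sum_range_succ (fun i => x ^ i • e) n
  have h2 := Finset.sum_range_succ' (fun i => x ^ i • e) n
  rw [hx, one_smul] at h1
  rw [pow_zero, one_smul, h1] at h2
  have h3 := add_right_cancel h2
  unfold normSum
  rw [Finset.smul_sum]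
  conv_rhs => rw [h3]
  refine Finset.sum_congr rfl fun i _ => ?_
  rw [pow_succ', mul_smul]

theorem normSum_of_fixed (n : ℕ) {x : P} {e : E} (h : x • e = e) : normSum n x e = n • e := by
  have : ∀ i : ℕ, x ^ i • e = e := fun i => (stabilizer P e).pow_mem h i
  simp [normSum, this]

theorem smul_normSum_of_commute (n : ℕ) {x g : P} (h : Commute g x) (e : E) :
    g • normSum n x e = normSum n x (g • e) := by
  unfold normSum
  rw [Finset.smul_sum]
  refine Finset.sum_congr rfl fun i _ => ?_
  rw [smul_smul, smul_smul, (h.pow_right i).eq]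

/-- A group of type `(p, p)` cannot act fixed-point-freely on a `p`-torsion-free non-zero group. -/
theorem nsmul_eq_zero_of_fpf {p : ℕ} (hp : p.Prime) {x y : P} (hxy : Commute x y) (hx : x ^ p = 1)
    (hy : y ^ p = 1) (hx1 : x ≠ 1) (hyx : y ∉ Subgroup.zpowers x)
    (hfpf : ∀ g ∈ Subgroup.closure {x, y}, g ≠ 1 → ∀ e : E, g • e = e → e = 0) (e : E) :
    p • e = 0 := by
  have hxm : x ∈ Subgroup.closure {x, y} := Subgroup.subset_closure (by simp)
  have hym : y ∈ Subgroup.closure {x, y} := Subgroup.subset_closure (by simp)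
  have h1 : ∀ j : ℕ, normSum p (x ^ j * y) e = 0 := by
    intro j
    apply hfpf (x ^ j * y) (Subgroup.mul_mem _ (Subgroup.pow_mem _ hxm j) hym)
    · intro h
      apply hyx
      rw [eq_inv_of_mul_eq_one_right h]
      exact Subgroup.inv_mem _ (Subgroup.pow_mem _ (Subgroup.mem_zpowers x) j)
    · apply smul_normSum_self
      rw [(hxy.pow_left j).mul_pow, hy, mul_one, ← pow_mul, mul_comm, pow_mul, hx, one_pow]
  have hox : orderOf x = p := by
    haveI := Fact.mk hp
    exact orderOf_eq_prime hx hx1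
  have h2 : ∀ i : ℕ, 0 < i → i < p → normSum p (x ^ i) e = 0 := by
    intro i hi hip
    apply hfpf (x ^ i) (Subgroup.pow_mem _ hxm i)
    · intro h
      have := orderOf_dvd_of_pow_eq_one h
      rw [hox] at this
      exact absurd (Nat.le_of_dvd hi this) (by omega)
    · apply smul_normSum_self
      rw [← pow_mul, mul_comm, pow_mul, hx, one_pow]
  have h3 : ∑ j ∈ Finset.range p, normSum p (x ^ j * y) e =
      ∑ i ∈ Finset.range p, y ^ i • normSum p (x ^ i) e := by
    unfold normSum
    rw [Finset.sum_comm]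
    refine Finset.sum_congr rfl fun i _ => ?_
    rw [Finset.smul_sum]
    refine Finset.sum_congr rfl fun j _ => ?_
    rw [(hxy.pow_left j).mul_pow, smul_smul, ← pow_mul, ← pow_mul, mul_comm j i,
      ((hxy.pow_left _).pow_right _).eq]
  rw [Finset.sum_eq_zero (fun j _ => h1 j), Finset.sum_eq_single 0] at h3
  · rw [pow_zero, one_smul, pow_zero, normSum_of_fixed _ (one_smul _ _)] at h3
    exact h3.symm
  · intro i hi hi0
    rw [h2 i (Nat.pos_of_ne_zero hi0) (Finset.mem_range.mp hi), smul_zero]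
  · intro h; exact absurd (Finset.mem_range.mpr hp.pos) h

theorem zpowers_eq_of_mem {p : ℕ} (hp : p.Prime) {u s : P} (hs : s ^ p = 1) (hu1 : u ≠ 1)
    (h : u ∈ Subgroup.zpowers s) : Subgroup.zpowers u = Subgroup.zpowers s := by
  haveI := Fact.mk hp
  have hs1 : s ≠ 1 := by
    rintro rfl; exact hu1 (by simpa using h)
  have hu : u ^ p = 1 := by
    obtain ⟨n, rfl⟩ := h
    show (s ^ n) ^ p = 1
    rw [← zpow_natCast, ← zpow_mul, mul_comm, zpow_mul, zpow_natCast, hs, one_zpow]
  have e1 : Nat.card (Subgroup.zpowers u) = p := by rw [Nat.card_zpowers, orderOf_eq_prime hu hu1]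
  have e2 : Nat.card (Subgroup.zpowers s) = p := by rw [Nat.card_zpowers, orderOf_eq_prime hs hs1]
  haveI : Finite (Subgroup.zpowers s) := Nat.finite_of_card_ne_zero (by rw [e2]; exact hp.ne_zero)
  exact Subgroup.eq_of_le_of_card_ge ((Subgroup.zpowers_le).mpr h) (by rw [e1, e2])

variable [Finite P]

theorem stabilizer_le_of_const
    (hconst : ∀ a b : E, a ≠ 0 → b ≠ 0 → Nat.card (stabilizer P a) = Nat.card (stabilizer P b))
    {a b : E} (ha : a ≠ 0) (hab : a + b ≠ 0) (h : stabilizer P (a + b) ≤ stabilizer P a) :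
    stabilizer P a ≤ stabilizer P b := by
  have h1 : stabilizer P (a + b) = stabilizer P a :=
    Subgroup.eq_of_le_of_card_ge h (hconst _ _ ha hab).le
  intro g hg
  have h2 : g ∈ stabilizer P (a + b) := h1 ▸ hg
  rw [mem_stabilizer_iff] at hg h2 ⊢
  rw [smul_add, hg] at h2
  exact add_left_cancel h2

/-- With stabilisers of constant order, a normal subgroup with a non-zero fixed vector acts
trivially (when its order is invertible on `E`). -/
theorem smul_eq_of_normal_of_const
    (hconst : ∀ a b : E, a ≠ 0 → b ≠ 0 → Nat.card (stabilizer P a) = Nat.card (stabilizer P b))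
    (N : Subgroup P) [hN : N.Normal] (hinv : ∀ e : E, Nat.card N • e = 0 → e = 0)
    {a : E} (ha : a ≠ 0) (hNa : ∀ g ∈ N, g • a = a) (e : E) : ∀ g ∈ N, g • e = e := by
  classical
  haveI := Fintype.ofFinite N
  let ν : E →+ E :=
    { toFun := fun e => ∑ g : N, (g : P) • e
      map_zero' := by simp
      map_add' := fun e e' => by simp [Finset.sum_add_distrib] }
  have hν : ∀ e, ν e = ∑ g : N, (g : P) • e := fun _ => rfl
  have hfix : ∀ e : E, (∀ g ∈ N, g • e = e) → ν e = Nat.card N • e := by
    intro e he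
    rw [hν, Finset.sum_congr rfl (fun (g : N) _ => he g g.2)]
    simp
  have hcomm : ∀ (x : P) (e : E), x • ν e = ν (x • e) := by
    intro x e
    rw [hν, hν, Finset.smul_sum]
    refine Fintype.sum_equiv (MulAut.conjNormal x).toEquiv _ _ fun g => ?_
    show x • (g : P) • e = ((MulAut.conjNormal x g : N) : P) • x • e
    rw [MulAut.conjNormal_apply, smul_smul, smul_smul, inv_mul_cancel_right]
  have hνfix : ∀ e : E, ∀ g ∈ N, g • ν e = ν e := by
    intro e g hg
    rw [hν, Finset.smul_sum]
    refine Fintype.sum_equiv (Equiv.mulLeft (⟨g, hg⟩ : N)) _ _ fun h => ?_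
    show g • (h : P) • e = (g * h) • e
    rw [mul_smul]
  set b := Nat.card N • e - ν e with hb
  have hνb : ν b = 0 := by
    rw [hb, map_sub, map_nsmul, hfix (ν e) (hνfix e), sub_self]
  have hνab : ν (a + b) = Nat.card N • a := by rw [map_add, hνb, add_zero, hfix a hNa]
  have hab : a + b ≠ 0 := by
    intro h
    rw [h, map_zero] at hνab
    exact ha (hinv a hνab.symm)
  have hle : stabilizer P (a + b) ≤ stabilizer P a := by
    intro x hx
    rw [mem_stabilizer_iff] at hx ⊢
    have h1 := hcomm x (a + b)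
    rw [hx, hνab, smul_comm] at h1
    rw [← sub_eq_zero] at h1 ⊢
    exact hinv _ (by rw [smul_sub]; exact h1)
  have h2 := stabilizer_le_of_const hconst ha hab hle
  have h3 : b = 0 := by
    apply hinv
    rw [← hfix b (fun g hg => h2 (hNa g hg)), hνb]
  intro g hg
  have h4 : Nat.card N • e = ν e := sub_eq_zero.mp (hb ▸ h3)
  have h5 := hνfix e g hg
  rw [← h4, smul_comm] at h5
  rw [← sub_eq_zero] at h5 ⊢
  exact hinv _ (by rw [smul_sub]; exact h5)

/-- The main step: no normal subgroup of type `(p,p)`. -/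
theorem false_of_normal_rank_two [FaithfulSMul P E] {p : ℕ} (hp : p.Prime) (hp2 : p ≠ 2)
    (hP : IsPGroup p P) (hinv : ∀ e : E, p • e = 0 → e = 0)
    (hconst : ∀ a b : E, a ≠ 0 → b ≠ 0 → Nat.card (stabilizer P a) = Nat.card (stabilizer P b))
    (R : Subgroup P) [hR : R.Normal] (hRe : Cfsg.IsElementaryAbelian p R)
    (hRc : Nat.card R = p ^ 2) : False := by
  haveI := Fact.mk hp
  have hinvk : ∀ (k : ℕ) (e : E), p ^ k • e = 0 → e = 0 := by
    intro k
    induction k with
    | zero => intro e he; simpa using he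
    | succ k ih => intro e he; rw [pow_succ, mul_smul] at he; exact hinv e (ih _ he)
  have hinvN : ∀ N : Subgroup P, ∀ e : E, Nat.card N • e = 0 → e = 0 := by
    intro N e he
    obtain ⟨k, hk⟩ := IsPGroup.iff_card.mp (hP.to_subgroup N)
    rw [hk] at he; exact hinvk k e he
  have hnormal : ∀ N : Subgroup P, N.Normal → ∀ a : E, a ≠ 0 → (∀ g ∈ N, g • a = a) → N = ⊥ := by
    intro N hN a ha hNa
    rw [eq_bot_iff]
    intro g hg
    exact eq_of_smul_eq_smul (α := E) fun e => by
      rw [one_smul]; exact smul_eq_of_normal_of_const hconst N (hinvN N) ha hNa e g hg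
  have hcomm : ∀ u ∈ R, ∀ s ∈ R, Commute u s := fun u hu s hs =>
    congrArg Subtype.val (hRe.1.is_comm.comm (⟨u, hu⟩ : R) ⟨s, hs⟩)
  have hRbot : R ≠ ⊥ := by
    intro h
    rw [h, Subgroup.card_bot] at hRc
    exact absurd hRc.symm (Nat.one_lt_pow two_ne_zero hp.one_lt).ne'
  -- two independent elements generate `R`
  have hgen : ∀ u ∈ R, ∀ s ∈ R, s ≠ 1 → u ∉ Subgroup.zpowers s → ∀ H : Subgroup P, u ∈ H → s ∈ H →
      R ≤ H := by
    intro u hu s hs hs1 hus H huH hsH
    have e2 : Nat.card (Subgroup.zpowers s) = p := by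
      rw [Nat.card_zpowers, orderOf_eq_prime (hRe.2 s hs) hs1]
    have hle : Subgroup.zpowers s ≤ H ⊓ R := (Subgroup.zpowers_le).mpr ⟨hsH, hs⟩
    have hdvd : Nat.card ↥(H ⊓ R) ∣ p ^ 2 := hRc ▸ Subgroup.card_dvd_of_le inf_le_right
    obtain ⟨k, hk2, hk⟩ := (Nat.dvd_prime_pow hp).mp hdvd
    have hk1 : ¬ k ≤ 1 := by
      intro hk1
      apply hus
      rw [Subgroup.eq_of_le_of_card_ge hle (by
        rw [hk, e2]; calc p ^ k ≤ p ^ 1 := Nat.pow_le_pow_right hp.pos hk1
          _ = p := pow_one p)]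
      exact ⟨huH, hu⟩
    have : H ⊓ R = R := Subgroup.eq_of_le_of_card_ge inf_le_right (by
      rw [hk, hRc]; exact Nat.pow_le_pow_right hp.pos (by omega))
    rw [← this]; exact inf_le_left
  have hzero : ∀ u ∈ R, ∀ s ∈ R, s ≠ 1 → u ∉ Subgroup.zpowers s → ∀ e : E, u • e = e →
      normSum p s e = 0 := by
    intro u hu s hs hs1 hus e he
    by_contra h0
    apply hRbot
    apply hnormal R hR _ h0
    apply hgen u hu s hs hs1 hus (stabilizer P _)
    · rw [mem_stabilizer_iff, smul_normSum_of_commute _ (hcomm u hu s hs), he]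
    · exact smul_normSum_self (hRe.2 s hs) e
  -- an element of `R` with a non-zero fixed vector
  obtain ⟨r, hr, hr1, a, ha, hra⟩ : ∃ r ∈ R, r ≠ 1 ∧ ∃ a : E, a ≠ 0 ∧ r • a = a := by
    by_contra hcon
    push Not at hcon
    obtain ⟨x, hx, hx1⟩ : ∃ x ∈ R, x ≠ 1 := by
      by_contra h; push Not at h
      exact hRbot ((Subgroup.eq_bot_iff_forall _).mpr h)
    obtain ⟨y, hy, hyx⟩ : ∃ y ∈ R, y ∉ Subgroup.zpowers x := by
      by_contra h; push Not at h
      have h1 : Nat.card R ≤ Nat.card (Subgroup.zpowers x) := Subgroup.card_le_of_le h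
      rw [Nat.card_zpowers, orderOf_eq_prime (hRe.2 x hx) hx1, hRc] at h1
      have := hp.one_lt
      nlinarith
    apply hx1
    refine eq_of_smul_eq_smul (α := E) fun e => ?_
    have h0 : ∀ e : E, e = 0 := fun e => hinv e (nsmul_eq_zero_of_fpf hp (hcomm x hx y hy)
      (hRe.2 x hx) (hRe.2 y hy) hx1 hyx (fun g hg hg1 e he => by
        by_contra h0
        refine hcon g ?_ hg1 e h0 he
        exact (Subgroup.closure_le R).mpr (by rintro _ (rfl | rfl) <;> assumption) hg) e)
    rw [h0 (x • e), h0 ((1 : P) • e)]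
  obtain ⟨g, hg⟩ : ∃ g : P, g * r * g⁻¹ ∉ Subgroup.zpowers r := by
    by_contra h; push Not at h
    have hn : (Subgroup.zpowers r).Normal := by
      constructor
      rintro _ ⟨n, rfl⟩ g
      show g * r ^ n * g⁻¹ ∈ _
      rw [← conj_zpow]
      exact Subgroup.zpow_mem _ (h g) n
    have := hnormal _ hn a ha (fun x hx => (Subgroup.zpowers_le (H := stabilizer P a)).mpr hra hx)
    exact hr1 (Subgroup.zpowers_eq_bot.mp this)
  set r' := g * r * g⁻¹ with hr'
  have hr'R : r' ∈ R := hR.conj_mem r hr g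
  have hconj1 : ∀ x u : P, u ≠ 1 → x * u * x⁻¹ ≠ 1 := by
    intro x u hu h; apply hu
    calc u = x⁻¹ * (x * u * x⁻¹) * x := by group
      _ = 1 := by rw [h]; group
  have hr'1 : r' ≠ 1 := hconj1 g r hr1
  set b := g • a with hb
  have hb0 : b ≠ 0 := by rw [hb]; exact (smul_ne_zero_iff_ne g).mpr ha
  have hr'b : r' • b = b := by rw [hr', hb, mul_smul, mul_smul, inv_smul_smul, hra]
  have hrr' : r ∉ Subgroup.zpowers r' := by
    intro h
    apply hg
    rw [zpowers_eq_of_mem hp (hRe.2 r' hr'R) hr1 h]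
    exact Subgroup.mem_zpowers _
  have n1 : normSum p r (a + b) = p • a := by
    rw [normSum_add, normSum_of_fixed _ hra, hzero r' hr'R r hr hr1 hg b hr'b, add_zero]
  have n2 : normSum p r' (a + b) = p • b := by
    rw [normSum_add, normSum_of_fixed _ hr'b, hzero r hr r' hr'R hr'1 hrr' a hra, zero_add]
  have hab : a + b ≠ 0 := by
    intro h
    rw [h, normSum_of_fixed _ (smul_zero _), smul_zero] at n1
    exact ha (hinv a n1.symm)
  have hconjz : ∀ x u s : P, u ∈ Subgroup.zpowers s →
      x * u * x⁻¹ ∈ Subgroup.zpowers (x * s * x⁻¹) := by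
    rintro x _ s ⟨n, rfl⟩
    exact ⟨n, by simp [conj_zpow]⟩
  have hle : stabilizer P (a + b) ≤ stabilizer P a := by
    intro x hx
    rw [mem_stabilizer_iff] at hx ⊢
    have f1 : (x * r * x⁻¹) • x • a = x • a := by rw [mul_smul, mul_smul, inv_smul_smul, hra]
    have f2 : (x * r' * x⁻¹) • x • b = x • b := by rw [mul_smul, mul_smul, inv_smul_smul, hr'b]
    have m1 : x * r * x⁻¹ ∈ R := hR.conj_mem r hr x
    have m2 : x * r' * x⁻¹ ∈ R := hR.conj_mem r' hr'R x
    rw [← hx, smul_add, normSum_add] at n1 n2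
    by_cases c1 : x * r * x⁻¹ ∈ Subgroup.zpowers r
    · have z1 := zpowers_eq_of_mem hp (hRe.2 r hr) (hconj1 x r hr1) c1
      have g1 : r • x • a = x • a :=
        (Subgroup.zpowers_le (H := stabilizer P (x • a))).mpr f1 (z1 ▸ Subgroup.mem_zpowers r)
      have c2 : x * r' * x⁻¹ ∉ Subgroup.zpowers r := by
        intro h
        rw [← z1] at h
        apply hg
        have := hconjz x⁻¹ _ _ h
        simpa [mul_assoc] using this
      rw [normSum_of_fixed _ g1, hzero _ m2 r hr hr1 c2 _ f2, add_zero] at n1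
      rw [← sub_eq_zero] at n1 ⊢
      exact hinv _ (by rw [smul_sub]; exact n1)
    · exfalso
      have c2 : x * r' * x⁻¹ ∈ Subgroup.zpowers r := by
        by_contra c2
        rw [hzero _ m1 r hr hr1 c1 _ f1, hzero _ m2 r hr hr1 c2 _ f2, add_zero] at n1
        exact ha (hinv a n1.symm)
      have c3 : x * r' * x⁻¹ ∉ Subgroup.zpowers r' := by
        intro h
        apply hrr'
        rw [← zpowers_eq_of_mem hp (hRe.2 r' hr'R) (hconj1 x r' hr'1) h,
          zpowers_eq_of_mem hp (hRe.2 r hr) (hconj1 x r' hr'1) c2]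
        exact Subgroup.mem_zpowers r
      have c4 : x * r * x⁻¹ ∈ Subgroup.zpowers r' := by
        by_contra c4
        rw [hzero _ m1 r' hr'R hr'1 c4 _ f1, hzero _ m2 r' hr'R hr'1 c3 _ f2, add_zero] at n2
        exact hb0 (hinv b n2.symm)
      have c5 : (x * x) * r * (x * x)⁻¹ ∈ Subgroup.zpowers r := by
        have := hconjz x _ _ c4
        have h2 := (Subgroup.zpowers_le).mpr c2 this
        have e : x * (x * r * x⁻¹) * x⁻¹ = (x * x) * r * (x * x)⁻¹ := by group
        rwa [e] at h2
      have c6 : ∀ n : ℕ, (x * x) ^ n * r * ((x * x) ^ n)⁻¹ ∈ Subgroup.zpowers r := by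
        intro n
        induction n with
        | zero => simp
        | succ n ih =>
          have := (Subgroup.zpowers_le).mpr c5 (hconjz (x * x) _ _ ih)
          have e : (x * x) * ((x * x) ^ n * r * ((x * x) ^ n)⁻¹) * (x * x)⁻¹ =
            (x * x) ^ (n + 1) * r * ((x * x) ^ (n + 1))⁻¹ := by
              rw [pow_succ']; simp only [mul_assoc, mul_inv_rev]
          rwa [e] at this
      obtain ⟨k, hk⟩ := hP x
      have hodd : Odd (p ^ k) := (hp.odd_of_ne_two hp2).pow
      obtain ⟨m, hm⟩ := hodd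
      have e : (x * x) ^ (m + 1) = x := by
        rw [← pow_two, ← pow_mul, show 2 * (m + 1) = (2 * m + 1) + 1 by ring, pow_succ, ← hm, hk,
          one_mul]
      have := c6 (m + 1)
      rw [e] at this
      exact c1 this
  have h2 := stabilizer_le_of_const hconst ha hab hle hra
  have h3 := hzero r hr r' hr'R hr'1 hrr' b h2
  rw [normSum_of_fixed _ hr'b] at h3
  exact hb0 (hinv b h3)

/-- Peterfalvi, Part II, Appendix I, Lemma. -/
theorem isCyclic_and_fpf_of_const [Finite E] [FaithfulSMul P E] {p q : ℕ} [hpf : Fact p.Prime]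
    (hp2 : p ≠ 2) (hP : IsPGroup p P) (hq : q.Prime) (hE : ∀ e : E, q • e = 0)
    (hconst : ∀ a b : E, a ≠ 0 → b ≠ 0 → Nat.card (stabilizer P a) = Nat.card (stabilizer P b)) :
    IsCyclic P ∧ ∀ g : P, g ≠ 1 → ∀ a : E, g • a = a → a = 0 := by
  have hp := hpf.out
  by_cases hpq : q = p
  · subst hpq
    have htriv : ∀ g : P, g = 1 := by
      intro g
      refine eq_of_smul_eq_smul (α := E) fun e => ?_
      rw [one_smul]
      by_cases he : e = 0
      · rw [he, smul_zero]
      have hdvd : q ∣ Nat.card E := by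
        have h1 : addOrderOf e = q := addOrderOf_eq_prime (hE e) he
        rw [← h1]; exact addOrderOf_dvd_natCard e
      obtain ⟨b, hb, hb0⟩ := hP.exists_fixed_point_of_prime_dvd_card_of_fixed_point E hdvd
        (a := 0) (fun g => smul_zero g)
      have h1 : stabilizer P b = ⊤ := by
        rw [eq_top_iff]; intro g _; exact hb g
      have h2 := hconst e b he hb0.symm
      rw [h1, Subgroup.card_top] at h2
      have h3 := Subgroup.eq_top_of_card_eq _ h2
      have : g ∈ stabilizer P e := h3 ▸ Subgroup.mem_top g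
      exact this
    haveI : Subsingleton P := ⟨fun a b => by rw [htriv a, htriv b]⟩
    exact ⟨inferInstance, fun g hg => absurd (htriv g) hg⟩
  have hinv : ∀ e : E, p • e = 0 → e = 0 := by
    intro e he
    have h1 : addOrderOf e ∣ p := addOrderOf_dvd_of_nsmul_eq_zero he
    have h2 : addOrderOf e ∣ q := addOrderOf_dvd_of_nsmul_eq_zero (hE e)
    have h3 : addOrderOf e = 1 :=
      Nat.eq_one_of_dvd_coprimes ((Nat.coprime_primes hq hp).mpr hpq) h2 h1
    exact AddMonoid.addOrderOf_eq_one_iff.mp h3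
  have hcyc : IsCyclic P := by
    by_contra hnc
    obtain ⟨R, hR, hRe, hRc⟩ := Cfsg.Agent.S0126.result hp2 hP hnc
    exact false_of_normal_rank_two hp hp2 hP hinv hconst R hRe hRc
  refine ⟨hcyc, ?_⟩
  intro g hg a hga
  by_contra ha
  letI : CommGroup P := IsCyclic.commGroup
  apply hg
  refine eq_of_smul_eq_smul (α := E) fun e => ?_
  rw [one_smul]
  refine smul_eq_of_normal_of_const hconst (stabilizer P a) ?_ ha (fun g hg => hg) e g hga
  obtain ⟨k, hk⟩ := IsPGroup.iff_card.mp (hP.to_subgroup (stabilizer P a))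
  rw [hk]
  clear hk
  induction k with
  | zero => intro e he; simpa using he
  | succ k ih => intro e he; rw [pow_succ, mul_smul] at he; exact hinv e (ih _ he)

end

end CL.RankOne
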