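import Cfsg.Agent.Base
import Cfsg.Agent.Solv.Fitting
import Cfsg.Agent.RankOne.Basic
import Cfsg.Agent.RankOne.ConstStab

/-!
# A special case of a theorem of Huppert (Peterfalvi, Part II, Appendix I, Proposition 1)

Here the acting group is assumed solvable.
-/

set_option autoImplicit false
set_option linter.unusedSectionVars false
set_option linter.style.haveILetI false

namespace CL.RankOne

open MulAction Cfsg
open scoped commutatorElement

/-- The derived subgroup centralises every cyclic normal subgroup. -/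
theorem commutator_le_centralizer_of_isCyclic {D : Type*} [Group D] (F : Subgroup D)
    [hF : F.Normal] [hc : IsCyclic F] : commutator D ≤ Subgroup.centralizer (F : Set D) := by
  obtain ⟨f, hf⟩ := hc.exists_generator
  have key : ∀ g h : D, ∀ x ∈ F, g * h * x * (g * h)⁻¹ = h * g * x * (h * g)⁻¹ := by
    intro g h x hx
    obtain ⟨m, hm⟩ := hf ⟨g * f * g⁻¹, hF.conj_mem _ f.2 g⟩
    obtain ⟨n, hn⟩ := hf ⟨h * f * h⁻¹, hF.conj_mem _ f.2 h⟩
    obtain ⟨k, hk⟩ := hf ⟨x, hx⟩
    have hm' : (f : D) ^ m = g * f * g⁻¹ := by simpa using congrArg Subtype.val hm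
    have hn' : (f : D) ^ n = h * f * h⁻¹ := by simpa using congrArg Subtype.val hn
    have hk' : (f : D) ^ k = x := by simpa using congrArg Subtype.val hk
    have e1 : g * h * (f : D) * (g * h)⁻¹ = (f : D) ^ (m * n) := by
      calc g * h * (f : D) * (g * h)⁻¹ = g * (h * f * h⁻¹) * g⁻¹ := by group
        _ = (f : D) ^ (m * n) := by rw [← hn', ← conj_zpow, ← hm', ← zpow_mul]
    have e2 : h * g * (f : D) * (h * g)⁻¹ = (f : D) ^ (m * n) := by
      calc h * g * (f : D) * (h * g)⁻¹ = h * (g * f * g⁻¹) * h⁻¹ := by group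
        _ = (f : D) ^ (m * n) := by rw [← hm', ← conj_zpow, ← hn', ← zpow_mul, mul_comm]
    rw [← hk', ← conj_zpow, ← conj_zpow, e1, e2]
  rw [commutator, Subgroup.commutator_le]
  intro g _ h _
  rw [Subgroup.mem_centralizer_iff]
  intro x hx
  have h1 := key g h _ (hF.conj_mem x hx (h * g)⁻¹)
  rw [commutatorElement_def]
  calc x * (g * h * g⁻¹ * h⁻¹)
      = (h * g * ((h * g)⁻¹ * x * (h * g)⁻¹⁻¹) * (h * g)⁻¹) * (g * h * g⁻¹ * h⁻¹) := by group
    _ = g * h * g⁻¹ * h⁻¹ * x := by rw [← h1]; group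

variable {D E : Type*} [Group D] [Finite D] [AddCommGroup E] [Finite E] [DistribMulAction D E]
  [FaithfulSMul D E]

theorem pCore_cyclic_fpf (hodd : Odd (Nat.card D)) {q : ℕ} (hq : q.Prime) (hE : ∀ e : E, q • e = 0)
    (htrans : ∀ a b : E, a ≠ 0 → b ≠ 0 → ∃ d : D, d • a = b) (p : ℕ) [hp : Fact p.Prime] :
    IsCyclic (pCore p D) ∧ ∀ g ∈ pCore p D, g ≠ 1 → ∀ a : E, g • a = a → a = 0 := by
  by_cases hp2 : p = 2
  · subst hp2
    have h : pCore 2 D = ⊥ := pCore_eq_bot_of_not_dvd (by
      rw [← even_iff_two_dvd, Nat.not_even_iff_odd]; exact hodd)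
    rw [h]
    exact ⟨inferInstance, fun g hg hg1 => absurd (Subgroup.mem_bot.mp hg) hg1⟩
  haveI : (pCore p D).Normal := inferInstance
  obtain ⟨h1, h2⟩ := isCyclic_and_fpf_of_const (P := pCore p D) (E := E) hp2 (pCore_isPGroup p D)
    hq hE (by
      intro a b ha hb
      obtain ⟨d, rfl⟩ := htrans a b ha hb
      refine Nat.card_congr ⟨fun x => ⟨MulAut.conjNormal d x.1, ?_⟩,
        fun y => ⟨MulAut.conjNormal d⁻¹ y.1, ?_⟩, ?_, ?_⟩
      · have := x.2
        rw [mem_stabilizer_iff] at this ⊢
        show (d * (x.1 : D) * d⁻¹) • d • a = d • a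
        rw [mul_smul, mul_smul, inv_smul_smul]
        exact congrArg (fun e => d • e) this
      · have := y.2
        rw [mem_stabilizer_iff] at this ⊢
        show (d⁻¹ * (y.1 : D) * d⁻¹⁻¹) • a = a
        rw [inv_inv, mul_smul, mul_smul, inv_smul_eq_iff]
        exact this
      · intro x; ext; simp [mul_assoc]
      · intro x; ext; simp [mul_assoc])
  exact ⟨h1, fun g hg hg1 => h2 ⟨g, hg⟩ (fun h => hg1 (congrArg Subtype.val h))⟩

theorem fitting_fpf (hodd : Odd (Nat.card D)) {q : ℕ} (hq : q.Prime) (hE : ∀ e : E, q • e = 0)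
    (htrans : ∀ a b : E, a ≠ 0 → b ≠ 0 → ∃ d : D, d • a = b) :
    ∀ g ∈ fittingSubgroup D, g ≠ 1 → ∀ a : E, g • a = a → a = 0 := by
  intro g hg hg1 a ha
  have hn : orderOf g ≠ 1 := fun h => hg1 (orderOf_eq_one_iff.mp h)
  obtain ⟨p, hp, hpd⟩ := Nat.exists_prime_and_dvd hn
  haveI := Fact.mk hp
  have ho : orderOf (g ^ (orderOf g / p)) = p := orderOf_pow_orderOf_div (orderOf_pos g).ne' hpd
  set x := g ^ (orderOf g / p) with hx
  have hP : IsPGroup p (Subgroup.zpowers x) :=
    IsPGroup.of_card (n := 1) (by rw [Nat.card_zpowers, ho, pow_one])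
  have h1 : x ∈ pCore p D := le_pCore_of_le_fitting hP
    ((Subgroup.zpowers_le).mpr (Subgroup.pow_mem _ hg _)) (Subgroup.mem_zpowers x)
  refine (pCore_cyclic_fpf hodd hq hE htrans p).2 x h1 ?_ a ((stabilizer D a).pow_mem ha _)
  intro h
  rw [h, orderOf_one] at ho
  exact hp.one_lt.ne ho

theorem fitting_isCyclic (hodd : Odd (Nat.card D)) {q : ℕ} (hq : q.Prime)
    (hE : ∀ e : E, q • e = 0) (htrans : ∀ a b : E, a ≠ 0 → b ≠ 0 → ∃ d : D, d • a = b) :
    IsCyclic (fittingSubgroup D) := by
  haveI := fitting_isNilpotent D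
  haveI : IsZGroup (fittingSubgroup D) := by
    constructor
    intro p hp P
    haveI := Fact.mk hp
    have h1 : (P : Subgroup (fittingSubgroup D)).map (fittingSubgroup D).subtype ≤ pCore p D :=
      le_pCore_of_le_fitting (P.isPGroup'.map _) (Subgroup.map_subtype_le _)
    haveI := (pCore_cyclic_fpf hodd hq hE htrans p).1
    haveI := Subgroup.isCyclic_of_le h1
    exact isCyclic_of_surjective _
      ((P : Subgroup (fittingSubgroup D)).equivMapOfInjective _
        (fittingSubgroup D).subtype_injective).symm.surjective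
  infer_instance

theorem commutator_le_fitting [Group.IsSolvable D] (hodd : Odd (Nat.card D)) {q : ℕ}
    (hq : q.Prime) (hE : ∀ e : E, q • e = 0)
    (htrans : ∀ a b : E, a ≠ 0 → b ≠ 0 → ∃ d : D, d • a = b) :
    commutator D ≤ fittingSubgroup D := by
  haveI := fitting_isCyclic hodd hq hE htrans
  haveI := fitting_normal D
  exact (commutator_le_centralizer_of_isCyclic _).trans (centralizer_fitting_le D)

/-- If moreover an involutory automorphism `τ` has all its fixed points in the stabiliser of a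
non-zero vector, then the elements inverted by `τ` form the Fitting subgroup. -/
theorem inverted_iff_mem_fitting [Group.IsSolvable D] (hodd : Odd (Nat.card D)) {q : ℕ}
    (hq : q.Prime) (hE : ∀ e : E, q • e = 0)
    (htrans : ∀ a b : E, a ≠ 0 → b ≠ 0 → ∃ d : D, d • a = b)
    (τ : D ≃* D) (hτ : ∀ d, τ (τ d) = d) {s : E} (hs : s ≠ 0) (hfix : ∀ d, τ d = d → d • s = s)
    (d : D) : τ d = d⁻¹ ↔ d ∈ fittingSubgroup D := by
  haveI hcyc := fitting_isCyclic hodd hq hE htrans
  haveI hFn := fitting_normal D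
  have hfpf := fitting_fpf hodd hq hE htrans
  have hcomm := commutator_le_fitting hodd hq hE htrans
  have hτF : ∀ f ∈ fittingSubgroup D, τ f ∈ fittingSubgroup D := by
    intro f hf
    have := map_equiv_fitting τ
    rw [← this]
    exact Subgroup.mem_map_of_mem _ hf
  have hone : ∀ f ∈ fittingSubgroup D, τ f = f → f = 1 := by
    intro f hf h
    by_contra h1
    exact hs (hfpf f hf h1 s (hfix f h))
  constructor
  · intro hd
    let B : Subgroup D :=
      { carrier := {a | a * τ a ∈ fittingSubgroup D}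
        one_mem' := by simp
        mul_mem' := by
          intro a b ha hb
          show a * b * τ (a * b) ∈ fittingSubgroup D
          have h1 : ⁅b, τ a⁆ ∈ fittingSubgroup D :=
            hcomm (Subgroup.commutator_mem_commutator (Subgroup.mem_top _) (Subgroup.mem_top _))
          have : a * b * τ (a * b) = (a * ⁅b, τ a⁆ * a⁻¹) * (a * τ a) * (b * τ b) := by
            rw [map_mul, commutatorElement_def]; group
          rw [this]
          exact Subgroup.mul_mem _ (Subgroup.mul_mem _ (hFn.conj_mem _ h1 a) ha) hb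
        inv_mem' := by
          intro a ha
          show a⁻¹ * τ a⁻¹ ∈ fittingSubgroup D
          have : a⁻¹ * τ a⁻¹ = a⁻¹ * (a * τ a)⁻¹ * a⁻¹⁻¹ := by rw [map_inv]; group
          rw [this]
          exact hFn.conj_mem _ (Subgroup.inv_mem _ ha) _ }
    have hB : ∀ a, a ∈ B ↔ a * τ a ∈ fittingSubgroup D := fun _ => Iff.rfl
    have hFB : fittingSubgroup D ≤ B := fun f hf => (hB f).mpr (Subgroup.mul_mem _ hf (hτF f hf))
    haveI hBn : B.Normal := by
      constructor
      intro b hb g
      have : g * b * g⁻¹ = ⁅g, b⁆ * b := by rw [commutatorElement_def]; group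
      rw [this]
      exact B.mul_mem (hFB (hcomm
        (Subgroup.commutator_mem_commutator (Subgroup.mem_top _) (Subgroup.mem_top _)))) hb
    have hτB : ∀ b ∈ B, τ b ∈ B := by
      intro b hb
      rw [hB, hτ]
      have : τ b * b = b⁻¹ * (b * τ b) * b⁻¹⁻¹ := by group
      rw [this]; exact hFn.conj_mem _ hb _
    let φ : B →* B := (τ.toMonoidHom.comp B.subtype).codRestrict B (fun b => hτB b b.2)
    have hφ : MonoidHom.FixedPointFree φ := by
      intro b hb
      have h1 : τ b = b := congrArg Subtype.val hb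
      have h2 : (b : D) * b ∈ fittingSubgroup D := by
        have := (hB b).mp b.2
        rwa [h1] at this
      have h3 : (b : D) * b = 1 := hone _ h2 (by rw [map_mul, h1])
      exact Subtype.ext (eq_one_of_odd_of_mul_self (Odd.of_dvd_nat hodd (orderOf_dvd_natCard _)) h3)
    have hφ2 : Function.Involutive φ := fun b => Subtype.ext (hτ b)
    haveI : IsMulCommutative B := ⟨⟨fun a b => (hφ.commute_all_of_involutive hφ2 a b).eq⟩⟩
    exact le_fitting_of_isMulCommutative B ((hB d).mpr (by rw [hd, mul_inv_cancel]; exact one_mem _))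
  · intro hd
    have h1 : Commute d (τ d) := by
      letI : CommGroup (fittingSubgroup D) := IsCyclic.commGroup
      exact congrArg Subtype.val (mul_comm (⟨d, hd⟩ : fittingSubgroup D) ⟨τ d, hτF d hd⟩)
    have h2 : d * τ d = 1 := hone _ (Subgroup.mul_mem _ hd (hτF d hd)) (by rw [map_mul, hτ, h1.eq])
    exact eq_inv_of_mul_eq_one_right h2

end CL.RankOne
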