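import Cfsg.Agent.Base
import Cfsg.Agent.RankOne.Center
import Cfsg.Agent.RankOne.Huppert

/-!
# The rank-one set-up: `K` is a cyclic subgroup

The subgroup `Q₀ = (H ∩ I) ∪ {1}`, and the cyclic normal subgroup `K` of `D`
(under the assumption that `D` is solvable).
-/

set_option autoImplicit false
set_option linter.unusedSectionVars false
set_option linter.style.haveILetI false

namespace CL.RankOne

open Cfsg MulAction

variable {G Ω : Type*} [Group G] [MulAction G Ω] {a : Ω} {t : G} {Q : Subgroup G}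

/-- The subgroup `Q₀` generated by the involutions of `H = G_a`. -/
def Q0 (G : Type*) [Group G] [MulAction G Ω] (a : Ω) : Subgroup G := Subgroup.closure (II G a)

/-- The subgroup generated by `K`. -/
def KS (a : Ω) (t : G) : Subgroup G := Subgroup.closure (KK a t)

theorem mem_Q0_of_mem_II {s : G} (hs : s ∈ II G a) : s ∈ Q0 G a := Subgroup.subset_closure hs

theorem mem_KS_of_mem_KK {k : G} (hk : k ∈ KK a t) : k ∈ KS a t := Subgroup.subset_closure hk

theorem KS_le_DD : KS a t ≤ DD a t := (Subgroup.closure_le _).mpr fun _ hk => hk.1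

theorem VV_le_DD : VV a t ≤ DD a t := inf_le_left

theorem WW_le_VV : WW a t ≤ VV a t := inf_le_left

section setup

variable (hS : IsRankOneSetup G Ω a t Q) [Finite G]
include hS

theorem mem_Q0 {x : G} : x ∈ Q0 G a ↔ x • a = a ∧ x * x = 1 := by
  constructor
  · intro hx
    have : x = 1 ∨ x ∈ II G a := by
      induction hx using Subgroup.closure_induction with
      | mem x hx => exact Or.inr hx
      | one => exact Or.inl rfl
      | mul x y _ _ hx hy =>
        rcases hx with rfl | hx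
        · simpa using hy
        rcases hy with rfl | hy
        · simpa using Or.inr hx
        exact mul_mem_II hS hx hy
      | inv x _ hx =>
        rcases hx with rfl | hx
        · simp
        · rw [inv_eq_of_mul_self hx.2.2]; exact Or.inr hx
    rcases this with rfl | h
    · simp
    · exact ⟨h.1, h.2.2⟩
  · rintro ⟨h1, h2⟩
    by_cases hx : x = 1
    · rw [hx]; exact one_mem _
    · exact mem_Q0_of_mem_II ⟨h1, hx, h2⟩

theorem mem_II_of_mem_Q0 {x : G} (hx : x ∈ Q0 G a) (h1 : x ≠ 1) : x ∈ II G a :=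
  ⟨((mem_Q0 hS).mp hx).1, h1, ((mem_Q0 hS).mp hx).2⟩

theorem Q0_le_Q : Q0 G a ≤ Q := (Subgroup.closure_le _).mpr fun _ hs => mem_Q_of_mem_II hS hs

theorem mem_Q0_iff {x : G} : x ∈ Q0 G a ↔ x ∈ Q ∧ x * x = 1 :=
  ⟨fun h => ⟨Q0_le_Q hS h, ((mem_Q0 hS).mp h).2⟩,
    fun h => (mem_Q0 hS).mpr ⟨smul_of_mem_Q hS h.1, h.2⟩⟩

theorem mul_self_of_mem_Q0 {x : G} (hx : x ∈ Q0 G a) : x * x = 1 := ((mem_Q0 hS).mp hx).2

theorem commute_of_mem_Q0 {x y : G} (hx : x ∈ Q0 G a) (hy : y ∈ Q) : Commute x y := by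
  by_cases h : x = 1
  · rw [h]; exact Commute.one_left y
  · exact commute_of_mem_II hS (mem_II_of_mem_Q0 hS hx h) hy

theorem conj_mem_Q0 {x h : G} (hh : h • a = a) (hx : x ∈ Q0 G a) : h * x * h⁻¹ ∈ Q0 G a :=
  (mem_Q0_iff hS).mpr ⟨conj_mem_Q hS hh (Q0_le_Q hS hx),
    conj_mul_self (mul_self_of_mem_Q0 hS hx) h⟩

theorem conj_mem_Q0' {x h : G} (hh : h • a = a) (hx : x ∈ Q0 G a) : h⁻¹ * x * h ∈ Q0 G a := by
  have := conj_mem_Q0 hS ((stabilizer G a).inv_mem hh) hx
  rwa [inv_inv] at this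

theorem stabilizer_le_normalizer_Q0 :
    stabilizer G a ≤ Subgroup.normalizer (Q0 G a : Set G) := by
  intro h hh
  rw [Subgroup.mem_normalizer_iff]
  intro x
  refine ⟨fun hx => conj_mem_Q0 hS hh hx, fun hx => ?_⟩
  have := conj_mem_Q0' hS hh hx
  rwa [show h⁻¹ * (h * x * h⁻¹) * h = x by group] at this

theorem card_Q0 : Nat.card (Q0 G a) = Nat.card (II G a) + 1 := by
  classical
  have : ((Q0 G a : Subgroup G) : Set G) = insert 1 (II G a) := by
    ext x
    constructor
    · intro hx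
      by_cases h : x = 1
      · exact Or.inl h
      · exact Or.inr (mem_II_of_mem_Q0 hS hx h)
    · rintro (rfl | h)
      · exact one_mem _
      · exact mem_Q0_of_mem_II h
  rw [← SetLike.coe_sort_coe, this, Nat.card_coe_set_eq, Nat.card_coe_set_eq,
    Set.ncard_insert_of_notMem (fun h => h.2.1 rfl)]

theorem isPGroup_Q0 : IsPGroup 2 (Q0 G a) := fun x =>
  ⟨1, Subtype.ext (by simpa [pow_two] using mul_self_of_mem_Q0 hS x.2)⟩

/-- The action of `D` on `Q₀` by conjugation. -/
def actQ0 : DD a t →* MulAut (Q0 G a) :=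
  (Q0 G a).normalizerMonoidHom.comp
    (Subgroup.inclusion (inf_le_left.trans (stabilizer_le_normalizer_Q0 hS)))

theorem actQ0_apply (d : DD a t) (x : Q0 G a) :
    ((actQ0 hS d x : Q0 G a) : G) = d * x * (d : G)⁻¹ := rfl

theorem mem_ker_actQ0 {d : DD a t} : d ∈ (actQ0 hS).ker ↔ (d : G) ∈ WW a t := by
  rw [MonoidHom.mem_ker, mem_WW_iff hS]
  constructor
  · intro h
    refine ⟨d.2, fun s hs => ?_⟩
    have := congrArg Subtype.val (DFunLike.congr_fun h ⟨s, mem_Q0_of_mem_II hs⟩)
    rw [actQ0_apply] at this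
    exact (mul_inv_eq_iff_eq_mul.mp this).symm
  · rintro ⟨-, h⟩
    ext x
    rw [actQ0_apply]
    by_cases hx : (x : G) = 1
    · simp [hx]
    · rw [← (h _ (mem_II_of_mem_Q0 hS x.2 hx)).eq]; simp

/-- Conjugation by `t` as an automorphism of `D`. -/
def tauD : DD a t ≃* DD a t where
  toFun d := ⟨t * d * t, t_conj_mem_DD hS d.2⟩
  invFun d := ⟨t * d * t, t_conj_mem_DD hS d.2⟩
  left_inv d := Subtype.ext (by
    show t * (t * d * t) * t = d
    rw [← mul_assoc, ← mul_assoc, hS.mul_self, one_mul, mul_assoc, hS.mul_self, mul_one])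
  right_inv d := Subtype.ext (by
    show t * (t * d * t) * t = d
    rw [← mul_assoc, ← mul_assoc, hS.mul_self, one_mul, mul_assoc, hS.mul_self, mul_one])
  map_mul' d e := Subtype.ext (by
    show t * (d * e) * t = t * d * t * (t * e * t)
    calc t * (d * e) * t = t * d * (t * t) * e * t := by rw [hS.mul_self]; group
      _ = _ := by group)

theorem tauD_apply (d : DD a t) : ((tauD hS d : DD a t) : G) = t * d * t := rfl

theorem t_conj_of_mem_VV {v : G} (hv : v ∈ VV a t) : t * v * t = v := by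
  rw [← (mem_VV.mp hv).2.eq, mul_assoc, hS.mul_self, mul_one]

/-- `K` is contained in the cyclic group generated by one of its elements. -/
theorem exists_K_gen [Group.IsSolvable (DD a t)] :
    ∃ k ∈ KK a t, ∀ k' ∈ KK a t, k' ∈ Subgroup.zpowers k := by
  obtain ⟨s, hs, r, hr, e⟩ := exists_structure_eq hS
  set N := (actQ0 hS).ker with hN
  letI : CommGroup (Q0 G a) :=
    { (inferInstance : Group (Q0 G a)) with
      mul_comm := fun x y => Subtype.ext (commute_of_mem_Q0 hS x.2 (Q0_le_Q hS y.2)).eq }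
  let φ : DD a t ⧸ N →* MulAut (Q0 G a) := QuotientGroup.kerLift (actQ0 hS)
  letI : DistribMulAction (DD a t ⧸ N) (Additive (Q0 G a)) :=
    { smul := fun d x => Additive.ofMul (φ d x.toMul)
      one_smul := fun x => by
        show Additive.ofMul (φ 1 x.toMul) = x
        rw [map_one]; rfl
      mul_smul := fun d d' x => by
        show Additive.ofMul (φ (d * d') x.toMul) = Additive.ofMul (φ d (φ d' x.toMul))
        rw [map_mul]; rfl
      smul_zero := fun d => by
        show Additive.ofMul (φ d 1) = 0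
        rw [map_one]; rfl
      smul_add := fun d x y => by
        show Additive.ofMul (φ d (x.toMul * y.toMul)) = _
        rw [map_mul]; rfl }
  have hsmul : ∀ (d : DD a t) (x : Additive (Q0 G a)),
      (((QuotientGroup.mk d : DD a t ⧸ N) • x).toMul : G) = d * (x.toMul : G) * (d : G)⁻¹ :=
    fun d x => rfl
  haveI : FaithfulSMul (DD a t ⧸ N) (Additive (Q0 G a)) := ⟨fun {d d'} h =>
    QuotientGroup.kerLift_injective (actQ0 hS) (by
      ext x
      exact congrArg (fun y : Additive (Q0 G a) => (y.toMul : G)) (h (Additive.ofMul x)))⟩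
  have hτN : N.map (tauD hS : DD a t →* DD a t) = N := by
    have h1 : ∀ d ∈ N, tauD hS d = d := fun d hd =>
      Subtype.ext (t_conj_of_mem_VV hS (WW_le_VV ((mem_ker_actQ0 hS).mp hd)))
    ext d
    constructor
    · rintro ⟨d', hd', rfl⟩
      show tauD hS d' ∈ N
      rw [h1 d' hd']; exact hd'
    · intro hd; exact ⟨d, hd, h1 d hd⟩
  let τ : DD a t ⧸ N ≃* DD a t ⧸ N := QuotientGroup.congr N N (tauD hS) hτN
  have hτ : ∀ d : DD a t, τ (QuotientGroup.mk d) = QuotientGroup.mk (tauD hS d) := fun d => rfl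
  have hodd : Odd (Nat.card (DD a t ⧸ N)) :=
    Odd.of_dvd_nat hS.odd_card (Subgroup.card_quotient_dvd_card N)
  let s0 : Additive (Q0 G a) := Additive.ofMul ⟨s, mem_Q0_of_mem_II hs⟩
  have hs0 : s0 ≠ 0 := fun h => hs.2.1 (congrArg (fun y : Additive (Q0 G a) => (y.toMul : G)) h)
  have hE : ∀ x : Additive (Q0 G a), 2 • x = 0 := fun x => by
    rw [two_nsmul]
    exact congrArg Additive.ofMul (Subtype.ext (mul_self_of_mem_Q0 hS x.toMul.2) :
      x.toMul * x.toMul = 1)
  have htrans : ∀ x y : Additive (Q0 G a), x ≠ 0 → y ≠ 0 → ∃ d : DD a t ⧸ N, d • x = y := by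
    intro x y hx hy
    obtain ⟨k, hk, ek⟩ := exists_K_conj_eq hS
      (mem_II_of_mem_Q0 hS x.toMul.2 (fun h => hx (congrArg Additive.ofMul (Subtype.ext h))))
      (mem_II_of_mem_Q0 hS y.toMul.2 (fun h => hy (congrArg Additive.ofMul (Subtype.ext h))))
    refine ⟨QuotientGroup.mk (⟨k, hk.1⟩ : DD a t)⁻¹, ?_⟩
    apply Additive.toMul.injective
    apply Subtype.ext
    rw [hsmul, ← ek]; simp
  have hiff := inverted_iff_mem_fitting hodd Nat.prime_two hE htrans τ (by
      intro d
      induction d using QuotientGroup.induction_on with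
      | H d => rw [hτ, hτ]; congr 1; exact (tauD hS).left_inv d) hs0 (by
      intro d hd
      induction d using QuotientGroup.induction_on with
      | H d =>
        obtain ⟨v, hv, k, hk, ed⟩ := exists_V_mul_K hS d.2
        rw [hτ, QuotientGroup.eq, mem_ker_actQ0 hS] at hd
        have h1 : ((tauD hS d)⁻¹ * d : DD a t) = k * k := by
          show (t * d * t)⁻¹ * d = k * k
          have : t * (v * k) * t = v * k⁻¹ := by
            rw [← t_conj_of_mem_KK hS hk]
            nth_rewrite 2 [← t_conj_of_mem_VV hS hv]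
            calc t * (v * k) * t = t * v * (t * t) * k * t := by rw [hS.mul_self]; group
              _ = _ := by group
          rw [ed, this]; group
        rw [h1] at hd
        have h2 : k * k = 1 := eq_one_of_mem_KK_of_mem_VV hS
          (by rw [← pow_two]; exact pow_mem_invertedBy hk 2) (WW_le_VV hd)
        have h3 : k = 1 := eq_one_of_mem_DD_of_mul_self hS hk.1 h2
        apply Additive.toMul.injective
        apply Subtype.ext
        rw [hsmul, ed, h3, mul_one]
        show v * s * v⁻¹ = s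
        rw [(commute_of_mem_VV hS hs hr e hv).1.eq, mul_inv_cancel_right])
  have hKF : ∀ k (hk : k ∈ KK a t),
      (QuotientGroup.mk (⟨k, hk.1⟩ : DD a t) : DD a t ⧸ N) ∈ fittingSubgroup (DD a t ⧸ N) := by
    intro k hk
    rw [← hiff, hτ, ← QuotientGroup.mk_inv]
    congr 1
    exact Subtype.ext (t_conj_of_mem_KK hS hk)
  haveI := fitting_isCyclic hodd Nat.prime_two hE htrans
  obtain ⟨⟨f, hf⟩, hgen⟩ := IsCyclic.exists_generator (α := fittingSubgroup (DD a t ⧸ N))
  induction f using QuotientGroup.induction_on with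
  | H f =>
  obtain ⟨v, hv, k, hk, ef⟩ := exists_V_mul_K hS f.2
  have hf' : f = (⟨v, hv.1⟩ : DD a t) * ⟨k, hk.1⟩ := Subtype.ext ef
  have hv1 : (QuotientGroup.mk (⟨v, hv.1⟩ : DD a t) : DD a t ⧸ N) = 1 := by
    have h1 : (QuotientGroup.mk (⟨v, hv.1⟩ : DD a t) : DD a t ⧸ N) ∈
        fittingSubgroup (DD a t ⧸ N) := by
      have := Subgroup.mul_mem _ hf (Subgroup.inv_mem _ (hKF k hk))
      rwa [hf', QuotientGroup.mk_mul, mul_inv_cancel_right] at this
    rw [← hiff, hτ] at h1
    have h2 : tauD hS ⟨v, hv.1⟩ = ⟨v, hv.1⟩ := Subtype.ext (t_conj_of_mem_VV hS hv)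
    rw [h2] at h1
    apply eq_one_of_odd_of_mul_self (Odd.of_dvd_nat hodd (orderOf_dvd_natCard _))
    nth_rewrite 2 [h1]
    exact mul_inv_cancel _
  refine ⟨k, hk, fun k' hk' => ?_⟩
  obtain ⟨n, hn⟩ := hgen ⟨_, hKF k' hk'⟩
  have hn' : (QuotientGroup.mk ((⟨k, hk.1⟩ : DD a t) ^ n) : DD a t ⧸ N) =
      QuotientGroup.mk (⟨k', hk'.1⟩ : DD a t) := by
    have := congrArg Subtype.val hn
    simp only [SubgroupClass.coe_zpow] at this
    rw [← this, hf', QuotientGroup.mk_mul, hv1, one_mul, QuotientGroup.mk_zpow]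
  refine ⟨n, eq_of_K_conj_eq hS hs (zpow_mem_invertedBy hk n) hk' ?_⟩
  have h1 := hsmul ((⟨k, hk.1⟩ : DD a t) ^ n)⁻¹ s0
  rw [QuotientGroup.mk_inv, hn', ← QuotientGroup.mk_inv, hsmul] at h1
  simpa [s0] using h1.symm

variable [Group.IsSolvable (DD a t)]

theorem mem_KS {k : G} : k ∈ KS a t ↔ k ∈ KK a t := by
  refine ⟨fun hk => ?_, mem_KS_of_mem_KK⟩
  obtain ⟨k0, hk0, h⟩ := exists_K_gen hS
  have : KS a t ≤ Subgroup.zpowers k0 := (Subgroup.closure_le _).mpr h
  obtain ⟨n, rfl⟩ := this hk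
  exact zpow_mem_invertedBy hk0 n

theorem coe_KS : (KS a t : Set G) = KK a t := Set.ext fun _ => mem_KS hS

theorem isCyclic_KS : IsCyclic (KS a t) := by
  obtain ⟨k0, hk0, h⟩ := exists_K_gen hS
  exact Subgroup.isCyclic_of_le ((Subgroup.closure_le _).mpr h : KS a t ≤ Subgroup.zpowers k0)

theorem commute_KK {k k' : G} (hk : k ∈ KK a t) (hk' : k' ∈ KK a t) : Commute k k' := by
  obtain ⟨k0, hk0, h⟩ := exists_K_gen hS
  obtain ⟨m, rfl⟩ := h k hk
  obtain ⟨n, rfl⟩ := h k' hk'
  exact Commute.zpow_zpow_self k0 m n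

theorem mul_mem_KK {k k' : G} (hk : k ∈ KK a t) (hk' : k' ∈ KK a t) : k * k' ∈ KK a t :=
  (mem_KS hS).mp (Subgroup.mul_mem _ (mem_KS_of_mem_KK hk) (mem_KS_of_mem_KK hk'))

theorem conj_mem_KK_of_mem_DD {k d : G} (hk : k ∈ KK a t) (hd : d ∈ DD a t) :
    d * k * d⁻¹ ∈ KK a t := by
  obtain ⟨v, hv, k', hk', rfl⟩ := exists_V_mul_K hS hd
  have : v * k' * k * (v * k')⁻¹ = v * k * v⁻¹ := by
    rw [mul_assoc v, (commute_KK hS hk' hk).eq]; group
  rw [this]
  exact conj_mem_KK hS hk hv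

theorem card_KS : Nat.card (KS a t) + 1 = Nat.card (Q0 G a) := by
  rw [card_Q0 hS, ← card_KK hS, ← coe_KS hS]; rfl

end setup

end CL.RankOne
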