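import Cfsg.Agent.Base
import Cfsg.Agent.RankOne.KCyclic

/-!
# The rank-one set-up: the inductive form of Suzuki's theorem and the transport lemmas

`Concl a t Q` is the conclusion of Suzuki's theorem in the form that is proved by induction on `|G|`
(the action need not be faithful); `ConclOn a t Q M` is its structural part for a subgroup `M`.
-/

set_option autoImplicit false
set_option linter.unusedSectionVars false
set_option linter.style.haveILetI false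

namespace CL.RankOne

open Cfsg MulAction

universe u v

/-- The group is isomorphic to `PSL₂(q)`, `Sz(q)` or `PSU₃(q)`, `q > 2` a power of two. -/
def IsoConcl (L : Type*) [Group L] : Prop :=
  (∃ (F : Type) (_ : Field F) (_ : Fintype F), (∃ n : ℕ, 2 ≤ n ∧ Fintype.card F = 2 ^ n) ∧
      Nonempty (L ≃* Matrix.ProjectiveSpecialLinearGroup (Fin 2) F)) ∨
    Cfsg.Lie.IsoSuzuki L ∨
    (∃ (F : Type) (_ : Field F) (_ : Fintype F) (n : ℕ), 2 ≤ n ∧ Fintype.card F = (2 ^ n) ^ 2 ∧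
      Nonempty (L ≃* Cfsg.PSU 3 F (2 ^ n)))

theorem IsoConcl.of_equiv {L L' : Type*} [Group L] [Group L'] (h : IsoConcl L) (e : L' ≃* L) :
    IsoConcl L' := by
  rcases h with ⟨F, _, _, h, ⟨f⟩⟩ | ⟨F, _, _, m, h1, h2, ⟨f⟩⟩ | ⟨F, _, _, n, h1, h2, ⟨f⟩⟩
  · exact Or.inl ⟨F, _, _, h, ⟨e.trans f⟩⟩
  · exact Or.inr (Or.inl ⟨F, _, _, m, h1, h2, ⟨e.trans f⟩⟩)
  · exact Or.inr (Or.inr ⟨F, _, _, n, h1, h2, ⟨e.trans f⟩⟩)

section defs

variable {G Ω : Type*} [Group G] [MulAction G Ω]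

/-- The subgroup `L = ⟨Q, t⟩`. -/
def LL (Q : Subgroup G) (t : G) : Subgroup G := Subgroup.closure (insert t (Q : Set G))

/-- The subgroup is not abelian. -/
def NonAb (P : Subgroup G) : Prop := ∃ x ∈ P, ∃ y ∈ P, x * y ≠ y * x

/-- The relation `(t ω ζ)³ = 1` modulo the kernel of the action, with `ω ∈ Q - Q₀` and `ζ ∈ W` acting
non-trivially. -/
def U3Data (a : Ω) (t : G) (Q : Subgroup G) : Prop :=
  ∃ ω ∈ Q, ω ∉ Q0 G a ∧ ∃ ζ ∈ WW a t, (∃ x ∈ Q, ¬ Commute ζ x) ∧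
    (t * ω * ζ) ^ 3 ∈ DD a t ∧ ∀ x ∈ Q, Commute ((t * ω * ζ) ^ 3) x

/-- The conclusion of Suzuki's theorem. -/
structure Concl (a : Ω) (t : G) (Q : Subgroup G) : Prop where
  two : IsPGroup 2 Q
  pow_four : ∀ x ∈ Q, x ^ 4 = 1
  cases : Q = Q0 G a ∨ (Nat.card Q = Nat.card (Q0 G a) ^ 2 ∧ NonAb Q) ∨
    (Nat.card Q = Nat.card (Q0 G a) ^ 3 ∧ NonAb Q ∧ U3Data a t Q)
  iso : FaithfulSMul G Ω → IsoConcl (LL Q t)

/-- `U3Data` inside the subgroup `M`. -/
def U3On (a : Ω) (t : G) (Q M : Subgroup G) : Prop :=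
  ∃ ω ∈ Q ⊓ M, ω ∉ Q0 G a ∧ ∃ ζ ∈ DD a t ⊓ M, (∀ y ∈ Q0 G a ⊓ M, Commute y ζ) ∧
    (∃ x ∈ Q ⊓ M, ¬ Commute ζ x) ∧
    (t * ω * ζ) ^ 3 ∈ DD a t ∧ ∀ x ∈ Q ⊓ M, Commute ((t * ω * ζ) ^ 3) x

/-- The structural part of the conclusion for the subgroup `M`. -/
structure ConclOn (a : Ω) (t : G) (Q M : Subgroup G) : Prop where
  two : IsPGroup 2 ↥(Q ⊓ M)
  pow_four : ∀ x ∈ Q ⊓ M, x ^ 4 = 1
  cases : Q ⊓ M = Q0 G a ⊓ M ∨
    (Nat.card ↥(Q ⊓ M) = Nat.card ↥(Q0 G a ⊓ M) ^ 2 ∧ NonAb (Q ⊓ M)) ∨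
    (Nat.card ↥(Q ⊓ M) = Nat.card ↥(Q0 G a ⊓ M) ^ 3 ∧ NonAb (Q ⊓ M) ∧ U3On a t Q M)

/-- The output of the induction hypothesis for the centralisers of the non-trivial subsets of `V`. -/
def LocHyp (a : Ω) (t : G) (Q : Subgroup G) : Prop :=
  ∀ X : Set G, (∀ x ∈ X, x ∈ VV a t) → (∃ x ∈ X, x ≠ 1) →
    2 < Nat.card ↥(Q0 G a ⊓ Subgroup.centralizer X) → ConclOn a t Q (Subgroup.centralizer X)

theorem mem_LL_t {Q : Subgroup G} {t : G} : t ∈ LL Q t := Subgroup.subset_closure (Or.inl rfl)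

theorem Q_le_LL {Q : Subgroup G} {t : G} : Q ≤ LL Q t := fun _ hx =>
  Subgroup.subset_closure (Or.inr hx)

theorem LL_le {Q M : Subgroup G} {t : G} (hQ : Q ≤ M) (ht : t ∈ M) : LL Q t ≤ M := by
  rw [LL, Subgroup.closure_le]
  rintro x (rfl | hx)
  · exact ht
  · exact hQ hx

theorem map_LL {G' : Type*} [Group G'] (f : G →* G') (Q : Subgroup G) (t : G) :
    (LL Q t).map f = LL (Q.map f) (f t) := by
  rw [LL, MonoidHom.map_closure, Set.image_insert_eq]; rfl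

end defs

/-- The induction hypothesis. -/
def IH (n : ℕ) : Prop :=
  ∀ (G : Type u) (Ω : Type v) [Group G] [Finite G] [MulAction G Ω] (a : Ω) (t : G) (Q : Subgroup G),
    IsRankOneSetup G Ω a t Q → 2 < Nat.card (Q0 G a) → Nat.card G < n → Concl a t Q

variable {G Ω : Type*} [Group G] [MulAction G Ω] {a : Ω} {t : G} {Q : Subgroup G}

section setup

variable (hS : IsRankOneSetup G Ω a t Q) [Finite G]
include hS

theorem two_lt_card_Q0_iff : 2 < Nat.card (Q0 G a) ↔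
    ∃ x y : G, x ≠ 1 ∧ y ≠ 1 ∧ x ≠ y ∧ x * x = 1 ∧ y * y = 1 ∧ x * y = y * x := by
  rw [card_Q0 hS, Nat.lt_succ_iff, Nat.succ_le_iff, Finite.one_lt_card_iff_nontrivial]
  constructor
  · rintro ⟨x, y, hxy⟩
    exact ⟨x, y, x.2.2.1, y.2.2.1, fun h => hxy (Subtype.ext h), x.2.2.2, y.2.2.2,
      (commute_II hS x.2 y.2).eq⟩
  · intro h
    obtain ⟨x, hx, y, hy, hxy⟩ := exists_two_II hS h
    exact ⟨⟨x, hx⟩, ⟨y, hy⟩, fun h => hxy (congrArg Subtype.val h)⟩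

/-- The kernel of the action is `C_D(Q)`. -/
theorem smul_eq_iff_commute {n : G} :
    (∀ c : Ω, n • c = c) ↔ n ∈ DD a t ∧ ∀ x ∈ Q, Commute n x := by
  constructor
  · intro h
    refine ⟨⟨h a, h _⟩, fun x hx => ?_⟩
    have : n * x * n⁻¹ = x := by
      apply eq_of_mem_Q_of_smul_eq hS (conj_mem_Q hS (h a) hx) hx (ta_ne hS)
      rw [mul_smul, mul_smul, h, show n⁻¹ • t • a = t • a by rw [inv_smul_eq_iff, h]]
    exact mul_inv_eq_iff_eq_mul.mp this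
  · rintro ⟨hd, h⟩ c
    by_cases hc : c = a
    · rw [hc]; exact hd.1
    · obtain ⟨q, hq, rfl⟩ := exists_smul_ta_eq hS hc
      rw [smul_smul, (h q hq).eq, mul_smul, hd.2]

theorem eq_one_of_commute_Q [FaithfulSMul G Ω] {n : G} (hn : n ∈ DD a t)
    (h : ∀ x ∈ Q, Commute n x) : n = 1 :=
  eq_of_smul_eq_smul (α := Ω) fun c => by
    rw [(smul_eq_iff_commute hS).mpr ⟨hn, h⟩ c, one_smul]

/-- Every involution lies in `⟨Q, t⟩`. -/
theorem mem_LL_of_invol {u : G} (hu : u * u = 1) : u ∈ LL Q t := by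
  obtain ⟨c, hc⟩ := exists_fixed hS hu
  by_cases hca : c = a
  · exact Q_le_LL (mem_Q_of_invol hS (hca ▸ hc) hu)
  · obtain ⟨q, hq, rfl⟩ := exists_smul_ta_eq hS hca
    have h1 : (q * t)⁻¹ * u * (q * t) ∈ Q := by
      apply mem_Q_of_invol hS
      · rw [mul_smul, mul_smul, mul_smul, hc, ← mul_smul q t, inv_smul_smul]
      · exact conj_mul_self' hu _
    have h2 : q * t ∈ LL Q t := Subgroup.mul_mem _ (Q_le_LL hq) mem_LL_t
    have : u = (q * t) * ((q * t)⁻¹ * u * (q * t)) * (q * t)⁻¹ := by group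
    rw [this]
    exact Subgroup.mul_mem _ (Subgroup.mul_mem _ h2 (Q_le_LL h1)) (Subgroup.inv_mem _ h2)

theorem normal_LL : (LL Q t).Normal := by
  have key : ∀ g : G, (∀ x ∈ Q, g * x * g⁻¹ ∈ LL Q t) → ∀ x ∈ LL Q t, g * x * g⁻¹ ∈ LL Q t := by
    intro g hg x hx
    induction hx using Subgroup.closure_induction with
    | mem x hx =>
      rcases hx with rfl | hx
      · exact mem_LL_of_invol hS (conj_mul_self hS.mul_self g)
      · exact hg x hx
    | one => simp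
    | mul x y _ _ hx hy =>
      have : g * (x * y) * g⁻¹ = g * x * g⁻¹ * (g * y * g⁻¹) := by group
      rw [this]; exact Subgroup.mul_mem _ hx hy
    | inv x _ hx =>
      have : g * x⁻¹ * g⁻¹ = (g * x * g⁻¹)⁻¹ := by group
      rw [this]; exact Subgroup.inv_mem _ hx
  have hH : ∀ h : G, h • a = a → ∀ x ∈ LL Q t, h * x * h⁻¹ ∈ LL Q t := fun h hh =>
    key h fun x hx => Q_le_LL (conj_mem_Q hS hh hx)
  constructor
  intro x hx g
  by_cases hg : g • a = a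
  · exact hH g hg x hx
  · obtain ⟨h, y, hh, hy, rfl⟩ := canon_exists hS hg
    have h2 : t * y ∈ LL Q t := Subgroup.mul_mem _ mem_LL_t (Q_le_LL hy)
    have : h * t * y * x * (h * t * y)⁻¹ = h * ((t * y) * x * (t * y)⁻¹) * h⁻¹ := by group
    rw [this]
    exact hH h hh _ (Subgroup.mul_mem _ (Subgroup.mul_mem _ h2 hx) (Subgroup.inv_mem _ h2))

theorem odd_index_Q : Odd Q.index := by
  have h1 := Q.card_mul_index
  rw [card_G hS, mul_assoc] at h1
  rw [Nat.eq_of_mul_eq_mul_left Nat.card_pos h1]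
  exact hS.odd_card.mul hS.even_card.add_one

theorem odd_index_LL : Odd (LL Q t).index :=
  Odd.of_dvd_nat (odd_index_Q hS) (Subgroup.index_dvd_of_le Q_le_LL)

/-! ### Subgroups -/

section sub

variable {M : Subgroup G} {Ω' : SubMulAction M Ω} (ha : a ∈ Ω') (ht : t ∈ M)

theorem sub_setup (htr : ∀ b ∈ Ω', b ≠ a → ∃ q ∈ Q, q ∈ M ∧ q • t • a = b)
    (hI : ∃ s ∈ II G a, s ∈ M) :
    IsRankOneSetup M Ω' ⟨a, ha⟩ ⟨t, ht⟩ (Q.subgroupOf M) := by
  have h1 : ∀ b : Ω', ∃ g : M, g • b = ⟨a, ha⟩ := by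
    intro b
    by_cases hb : (b : Ω) = a
    · exact ⟨1, Subtype.ext (by simpa using hb)⟩
    · obtain ⟨q, -, hqM, e⟩ := htr b b.2 hb
      refine ⟨⟨t, ht⟩ * (⟨q, hqM⟩ : M)⁻¹, Subtype.ext ?_⟩
      show (t * q⁻¹) • (b : Ω) = a
      rw [← e, mul_smul, inv_smul_smul, tta hS]
  have h2 : ∀ b c : Ω', b ≠ c → ∃ g : M, g • b = ⟨a, ha⟩ ∧ ((g • c : Ω') : Ω) = t • a := by
    intro b c hbc
    obtain ⟨g, hg⟩ := h1 b
    have h3 : ((g • c : Ω') : Ω) ≠ a := by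
      intro h
      apply hbc
      apply MulAction.injective g
      show g • b = g • c
      rw [hg]; exact Subtype.ext h.symm
    obtain ⟨q, hq, hqM, e⟩ := htr _ (g • c).2 h3
    refine ⟨(⟨q, hqM⟩ : M)⁻¹ * g, ?_, ?_⟩
    · rw [mul_smul, hg]
      exact Subtype.ext (smul_of_mem_Q hS (Q.inv_mem hq))
    · rw [mul_smul]
      show q⁻¹ • ((g • c : Ω') : Ω) = t • a
      rw [← e, inv_smul_smul]
  have hst : ∀ (g : M) (b : Ω'), g ∈ stabilizer M b ↔ (g : G) • (b : Ω) = b := fun g b =>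
    Subtype.ext_iff
  refine ⟨?_, Subtype.ext hS.mul_self, fun h => hS.ne_one (congrArg Subtype.val h),
    fun h => ta_ne hS ((hst _ _).mp h), fun x hx => (hst _ _).mpr (smul_of_mem_Q hS hx),
    fun h hh x hx => conj_mem_Q hS ((hst _ _).mp hh) hx, ?_, ?_, ?_, ?_⟩
  · rw [MulAction.is_two_pretransitive_iff]
    intro b c b' c' hbc hbc'
    obtain ⟨g, hg1, hg2⟩ := h2 b c hbc
    obtain ⟨g', hg1', hg2'⟩ := h2 b' c' hbc'
    refine ⟨g'⁻¹ * g, ?_, ?_⟩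
    · rw [mul_smul, hg1, ← hg1', inv_smul_smul]
    · rw [mul_smul, inv_smul_eq_iff]
      exact Subtype.ext (hg2.trans hg2'.symm)
  · rw [eq_bot_iff]
    rintro x ⟨hx, hx2⟩
    exact Subtype.ext (eq_one_of_mem_Q_of_smul_ta hS hx ((hst _ _).mp hx2))
  · apply le_antisymm (sup_le (fun x hx => (hst _ _).mpr (smul_of_mem_Q hS hx)) inf_le_left)
    intro h hh
    have hh' : (h : G) • a = a := (hst _ _).mp hh
    obtain ⟨q, hq, hqM, e⟩ := htr ((h : G) • t • a) (Ω'.smul_mem h (Ω'.smul_mem ⟨t, ht⟩ ha))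
      (smul_ne_of_smul_eq hS hh' (ta_ne hS))
    have : h = ⟨q, hqM⟩ * ((⟨q, hqM⟩ : M)⁻¹ * h) := by group
    rw [this]
    refine Subgroup.mul_mem_sup hq ⟨(hst _ _).mpr ?_, (hst _ _).mpr ?_⟩
    · show (q⁻¹ * h) • a = a
      rw [mul_smul, hh', smul_of_mem_Q hS (Q.inv_mem hq)]
    · show (q⁻¹ * h) • t • a = t • a
      rw [mul_smul, ← e, inv_smul_smul]
  · obtain ⟨s, hs, hsM⟩ := hI
    exact even_card_of_invol (x := (⟨s, hsM⟩ : M)) (mem_Q_of_mem_II hS hs)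
      (fun h => hs.2.1 (congrArg Subtype.val h)) (Subtype.ext hs.2.2)
  · apply odd_card_of_no_invol
    intro x hx h
    exact Subtype.ext (eq_one_of_mem_DD_of_mul_self hS ⟨(hst _ _).mp hx.1, (hst _ _).mp hx.2⟩
      (congrArg Subtype.val h))

omit hS [Finite G] in
theorem sub_mem_DD {d : M} :
    d ∈ DD (⟨a, ha⟩ : Ω') (⟨t, ht⟩ : M) ↔ (d : G) ∈ DD a t :=
  and_congr Subtype.ext_iff Subtype.ext_iff

variable (hS' : IsRankOneSetup M Ω' ⟨a, ha⟩ ⟨t, ht⟩ (Q.subgroupOf M))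
include hS'

theorem sub_Q0 : Q0 M (⟨a, ha⟩ : Ω') = (Q0 G a).subgroupOf M := by
  ext x
  rw [mem_Q0 hS', Subgroup.mem_subgroupOf, mem_Q0 hS]
  exact and_congr Subtype.ext_iff Subtype.ext_iff

omit hS hS' in
theorem card_subgroupOf (P M : Subgroup G) : Nat.card (P.subgroupOf M) = Nat.card ↥(P ⊓ M) := by
  rw [← Subgroup.inf_subgroupOf_right]
  exact Nat.card_congr (Subgroup.subgroupOfEquivOfLe inf_le_right).toEquiv

theorem sub_card_Q0 : Nat.card (Q0 M (⟨a, ha⟩ : Ω')) = Nat.card ↥(Q0 G a ⊓ M) := by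
  rw [sub_Q0 hS ha ht hS', card_subgroupOf]

theorem conclOn_of_sub (h : Concl (⟨a, ha⟩ : Ω') (⟨t, ht⟩ : M) (Q.subgroupOf M)) :
    ConclOn a t Q M := by
  have hna : NonAb (Q.subgroupOf M) → NonAb (Q ⊓ M) := by
    rintro ⟨x, hx, y, hy, hxy⟩
    exact ⟨x, ⟨hx, x.2⟩, y, ⟨hy, y.2⟩, fun h => hxy (Subtype.ext h)⟩
  refine ⟨?_, fun x hx => congrArg Subtype.val (h.pow_four ⟨x, hx.2⟩ hx.1), ?_⟩
  · have := h.two
    rw [← Subgroup.inf_subgroupOf_right] at this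
    exact this.of_equiv (Subgroup.subgroupOfEquivOfLe inf_le_right)
  · rcases h.cases with h | ⟨h1, h2⟩ | ⟨h1, h2, ω, hω, hω0, ζ, hζ, ⟨x, hx, hζx⟩, h3, h4⟩
    · left
      rw [sub_Q0 hS ha ht hS'] at h
      rw [← Subgroup.subgroupOf_map_subtype, h, Subgroup.subgroupOf_map_subtype]
    · right; left
      rw [sub_card_Q0 hS ha ht hS', card_subgroupOf] at h1
      exact ⟨h1, hna h2⟩
    · right; right
      rw [sub_card_Q0 hS ha ht hS', card_subgroupOf] at h1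
      rw [sub_Q0 hS ha ht hS'] at hω0
      rw [mem_WW_iff hS'] at hζ
      refine ⟨h1, hna h2, ω, ⟨hω, ω.2⟩, hω0, ζ, ⟨(sub_mem_DD ha ht).mp hζ.1, ζ.2⟩, ?_,
        ⟨x, ⟨hx, x.2⟩, fun h => hζx (Subtype.ext h)⟩, (sub_mem_DD ha ht).mp h3,
        fun y hy => congrArg Subtype.val (h4 ⟨y, hy.2⟩ hy.1)⟩
      intro y hy
      by_cases hy1 : y = 1
      · rw [hy1]; exact Commute.one_left _
      · have hy' := mem_II_of_mem_Q0 hS hy.1 hy1
        exact congrArg Subtype.val (hζ.2 ⟨y, hy.2⟩ ⟨Subtype.ext hy'.1,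
          fun h => hy1 (congrArg Subtype.val h), Subtype.ext hy'.2.2⟩)

end sub

/-- The fixed points of `X` as a set acted on by `C_G(X)`. -/
def fixSub (Ω : Type*) [MulAction G Ω] (X : Set G) : SubMulAction (Subgroup.centralizer X) Ω where
  carrier := {c | ∀ x ∈ X, x • c = c}
  smul_mem' := fun g _ hc => smul_fixed_of_mem_centralizer g.2 hc

omit hS [Finite G] in
theorem t_mem_centralizer {X : Set G} (hX : ∀ x ∈ X, x ∈ VV a t) :
    t ∈ Subgroup.centralizer X :=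
  Subgroup.mem_centralizer_iff.mpr fun x hx => (mem_VV.mp (hX x hx)).2.eq

/-- The set-up is inherited by the centraliser of a subset of `V`. -/
theorem cent_setup {X : Set G} (hX : ∀ x ∈ X, x ∈ VV a t) :
    IsRankOneSetup (Subgroup.centralizer X) (fixSub Ω X) ⟨a, fun x hx => (hX x hx).1.1⟩
      ⟨t, t_mem_centralizer hX⟩ (Q.subgroupOf (Subgroup.centralizer X)) := by
  apply sub_setup hS
  · intro b hb hba
    exact exists_cent_Q_smul_eq hS (fun x hx => (hX x hx).1.1) (ta_ne hS) hba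
      (fun x hx => (hX x hx).1.2) hb
  · exact exists_invol_mem_cent hS (fun x hx => (hX x hx).1.1) (VV_fixes_three hS hX)

end setup

/-- The induction hypothesis applied to the centralisers of subsets of `V`. -/
theorem locHyp_of_IH {G : Type u} {Ω : Type v} [Group G] [Finite G] [MulAction G Ω]
    [FaithfulSMul G Ω] {a : Ω} {t : G} {Q : Subgroup G} (hS : IsRankOneSetup G Ω a t Q)
    (ih : IH.{u, v} (Nat.card G)) : LocHyp a t Q := by
  rintro X hX ⟨x, hx, hx1⟩ h2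
  have hS' := cent_setup hS hX
  refine conclOn_of_sub hS _ _ hS' (ih _ _ _ _ _ hS' ?_ ?_)
  · rwa [sub_card_Q0 hS _ _ hS']
  · by_contra hle
    have h := Subgroup.eq_top_of_le_card _ (not_lt.mp hle)
    apply hx1
    apply eq_one_of_commute_Q hS (hX x hx).1
    intro y _
    have : y ∈ Subgroup.centralizer X := by rw [h]; trivial
    exact Subgroup.mem_centralizer_iff.mp this x hx

end CL.RankOne
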