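import Cfsg.Agent.Base
import Cfsg.Agent.RankOne.Concl
import Cfsg.Agent.S1163

/-!
# Constructing the rank-one set-up; reformulations of the conclusion
-/

set_option autoImplicit false
set_option linter.unusedSectionVars false
set_option linter.style.haveILetI false

namespace CL.RankOne

open Cfsg MulAction

/-- A criterion for the rank-one set-up. -/
theorem mk_setup {G Ω : Type*} [Group G] [MulAction G Ω] {a : Ω} {t : G} {Q : Subgroup G}
    (ht : t * t = 1) (hta : t • a ≠ a) (hle : ∀ q ∈ Q, q • a = a)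
    (hconj : ∀ h : G, h • a = a → ∀ x ∈ Q, h * x * h⁻¹ ∈ Q)
    (htr : ∀ b : Ω, b ≠ a → ∃ q ∈ Q, q • t • a = b)
    (hreg : ∀ q ∈ Q, q • t • a = t • a → q = 1) (heven : Even (Nat.card Q))
    (hodd : Odd (Nat.card (DD a t))) : IsRankOneSetup G Ω a t Q := by
  have tta : t • t • a = a := by rw [smul_smul, ht, one_smul]
  have h1 : ∀ b : Ω, ∃ g : G, g • b = a := by
    intro b
    by_cases hb : b = a
    · exact ⟨1, by rw [one_smul, hb]⟩
    · obtain ⟨q, -, e⟩ := htr b hb
      exact ⟨t * q⁻¹, by rw [← e, mul_smul, inv_smul_smul, tta]⟩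
  have h2 : ∀ b c : Ω, b ≠ c → ∃ g : G, g • b = a ∧ g • c = t • a := by
    intro b c hbc
    obtain ⟨g, hg⟩ := h1 b
    have h3 : g • c ≠ a := fun h => hbc (MulAction.injective g (hg.trans h.symm))
    obtain ⟨q, hq, e⟩ := htr _ h3
    exact ⟨q⁻¹ * g, by rw [mul_smul, hg, hle _ (Q.inv_mem hq)], by rw [mul_smul, ← e, inv_smul_smul]⟩
  refine ⟨?_, ht, fun h => hta (by rw [h, one_smul]), hta, hle, hconj, ?_, ?_, heven, hodd⟩
  · rw [MulAction.is_two_pretransitive_iff]
    intro b c b' c' hbc hbc'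
    obtain ⟨g, hg1, hg2⟩ := h2 b c hbc
    obtain ⟨g', hg1', hg2'⟩ := h2 b' c' hbc'
    exact ⟨g'⁻¹ * g, by rw [mul_smul, hg1, ← hg1', inv_smul_smul],
      by rw [mul_smul, hg2, ← hg2', inv_smul_smul]⟩
  · rw [eq_bot_iff]
    rintro x ⟨hx, hx2⟩
    exact hreg x hx hx2
  · apply le_antisymm (sup_le hle inf_le_left)
    intro h hh
    have hh' : h • a = a := hh
    obtain ⟨q, hq, e⟩ := htr (h • t • a) (fun h' => hta (MulAction.injective h (h'.trans hh'.symm)))
    have : h = q * (q⁻¹ * h) := by group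
    rw [this]
    refine Subgroup.mul_mem _ (Subgroup.mem_sup_left hq) (Subgroup.mem_sup_right ⟨?_, ?_⟩)
    · change (q⁻¹ * h) • a = a
      rw [mul_smul, hh', hle _ (Q.inv_mem hq)]
    · change (q⁻¹ * h) • t • a = t • a
      rw [mul_smul, ← e, inv_smul_smul]

/-- A proper subgroup of a simple group of even order does not contain all involutions. -/
theorem exists_invol_not_mem {G : Type*} [Group G] [IsSimpleGroup G] {H : Subgroup G} (hH : H ≠ ⊤)
    {u : G} (hu1 : u ≠ 1) (hu : u * u = 1) : ∃ t : G, t * t = 1 ∧ t ∉ H := by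
  by_contra h
  push Not at h
  have h1 : Subgroup.normalClosure {u} ≤ H := by
    rw [Subgroup.normalClosure, Subgroup.closure_le]
    intro x hx
    obtain ⟨y, hy, hc⟩ := Group.mem_conjugatesOfSet_iff.1 hx
    obtain rfl : y = u := hy
    obtain ⟨g, rfl⟩ := isConj_iff.1 hc
    exact h _ (conj_mul_self hu g)
  rcases (Subgroup.normalClosure_normal (s := {u})).eq_bot_or_eq_top with h2 | h2
  · have : u ∈ Subgroup.normalClosure {u} := Subgroup.subset_normalClosure rfl
    rw [h2] at this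
    exact hu1 this
  · exact hH (top_le_iff.1 (h2 ▸ h1))

theorem two_invol_of_klein {G : Type*} [Group G] {E : Subgroup G} (hE : IsKleinFour E) :
    ∃ x y : G, x ≠ 1 ∧ y ≠ 1 ∧ x ≠ y ∧ x * x = 1 ∧ y * y = 1 ∧ x * y = y * x := by
  have hc := hE.card_four
  haveI : Finite E := Nat.finite_of_card_ne_zero (by omega)
  have hsq : ∀ x : E, x * x = 1 := fun x => by
    have := Monoid.pow_exponent_eq_one x
    rwa [hE.exponent_two, pow_two] at this
  obtain ⟨x, hx⟩ : ∃ x : E, x ≠ 1 := by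
    haveI : Nontrivial E := Finite.one_lt_card_iff_nontrivial.1 (by omega)
    exact _root_.exists_ne 1
  obtain ⟨y, hy1, hy2⟩ : ∃ y : E, y ≠ 1 ∧ y ≠ x := by
    by_contra h
    push Not at h
    have : Nat.card E ≤ ({1, x} : Set E).ncard := by
      rw [← Set.ncard_univ]
      refine Set.ncard_le_ncard (fun y _ => ?_)
      by_cases hy : y = 1
      · exact Or.inl hy
      · exact Or.inr (h y hy)
    have h2 := Set.ncard_pair hx.symm
    omega
  refine ⟨x, y, fun h => hx (Subtype.ext h), fun h => hy1 (Subtype.ext h),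
    fun h => hy2 (Subtype.ext h.symm), congrArg Subtype.val (hsq x), congrArg Subtype.val (hsq y), ?_⟩
  have h1 := hsq (x * y)
  have : x * y = y * x := by
    calc x * y = (x * y)⁻¹ := (inv_eq_of_mul_self h1).symm
      _ = y * x := by rw [mul_inv_rev, inv_eq_of_mul_self (hsq x), inv_eq_of_mul_self (hsq y)]
  exact congrArg Subtype.val this

theorem isSuzuki_of_isoSuzuki {G : Type*} [Group G] [IsSimpleGroup G] (h : Lie.IsoSuzuki G) :
    IsSuzuki G := by
  obtain ⟨F, _, _, m, hm, hF, ⟨e⟩⟩ := h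
  refine ⟨inferInstance, m, hm, ?_⟩
  rw [Nat.card_congr e.toEquiv, (Cfsg.Agent.S1163.result hm hF).1]
  ring

/-- The conclusion in the form used for Bender's theorem. -/
theorem IsoConcl.bender_form {G : Type*} [Group G] [IsSimpleGroup G] (h : IsoConcl G) :
    (∃ (F : Type) (_ : Field F) (_ : Fintype F), CharP F 2 ∧ 4 ≤ Fintype.card F ∧
      Nonempty (G ≃* Matrix.ProjectiveSpecialLinearGroup (Fin 2) F)) ∨ Cfsg.IsSuzuki G ∨
    (∃ (F : Type) (_ : Field F) (_ : Fintype F) (q : ℕ), Fintype.card F = q ^ 2 ∧ Even q ∧ 4 ≤ q ∧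
      Nonempty (G ≃* Cfsg.PSU 3 F q)) := by
  rcases h with ⟨F, _, _, ⟨n, hn, hF⟩, e⟩ | h | ⟨F, _, _, n, hn, hF, e⟩
  · refine Or.inl ⟨F, inferInstance, inferInstance, ?_, ?_, e⟩
    · obtain ⟨p, hp⟩ := CharP.exists F
      obtain ⟨m, hpp, hm⟩ := FiniteField.card F p
      have : p ∣ 2 ^ n := by rw [← hF, hm]; exact dvd_pow_self p m.ne_zero
      have h2 := (Nat.prime_dvd_prime_iff_eq hpp Nat.prime_two).1 (hpp.dvd_of_dvd_pow this)
      exact h2 ▸ hp
    · rw [hF]; exact Nat.pow_le_pow_right (show 0 < 2 by norm_num) hn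
  · exact Or.inr (Or.inl (isSuzuki_of_isoSuzuki h))
  · exact Or.inr (Or.inr ⟨F, _, _, 2 ^ n, hF, (Nat.even_pow' (by omega)).2 even_two,
      Nat.pow_le_pow_right (show 0 < 2 by norm_num) hn, e⟩)

end CL.RankOne
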