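import Cfsg.Agent.Base
import Cfsg.Agent.RankOne.KCyclic
import Cfsg.Agent.Suz2.Field
import Mathlib.FieldTheory.Finite.GaloisField

/-!
# The rank-one set-up: the field structure on `Q₀`

`Q₀` is the additive group of a finite field `F` of characteristic two on which `K` acts as the
multiplicative group and `V` acts by field automorphisms.
-/

set_option autoImplicit false
set_option linter.unusedSectionVars false
set_option linter.style.haveILetI false

namespace CL.RankOne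

open Cfsg MulAction

universe u

/-- An abelian group acting regularly on the non-zero elements of an abelian group gives a field. -/
theorem exists_field_of_regular {E : Type u} {K : Type*} [AddCommGroup E] [CommGroup K]
    [DistribMulAction K E] {s : E} (hs : s ≠ 0) (hreg : ∀ x : E, x ≠ 0 → ∃! k : K, k • s = x) :
    ∃ (F : Type u) (_ : Field F) (σ : F ≃+ E) (κ : Fˣ ≃* K), σ 1 = s ∧
      ∀ (u : Fˣ) (x : F), κ u • σ x = σ (u * x) := by
  classical
  have hne : ∀ (k : K) (x : E), x ≠ 0 → k • x ≠ 0 := fun k x hx h =>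
    hx (by simpa using congrArg (fun y => k⁻¹ • y) h)
  let c : E → K := fun x => if h : x = 0 then 1 else (hreg x h).exists.choose
  have hc : ∀ x, x ≠ 0 → c x • s = x := fun x h => by
    simp only [c, dif_neg h]; exact (hreg x h).exists.choose_spec
  have hck : ∀ k : K, c (k • s) = k := fun k =>
    (hreg _ (hne k s hs)).unique (hc _ (hne k s hs)) rfl
  let m : E → E → E := fun x y => if x = 0 then 0 else c x • y
  have m0 : ∀ y, m 0 y = 0 := fun y => if_pos rfl
  have mk : ∀ (k : K) y, m (k • s) y = k • y := fun k y => by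
    simp only [m, if_neg (hne k s hs), hck]
  have hcases : ∀ x : E, x = 0 ∨ ∃ k : K, x = k • s := fun x => by
    by_cases h : x = 0
    · exact Or.inl h
    · exact Or.inr ⟨c x, (hc x h).symm⟩
  have m0' : ∀ x, m x 0 = 0 := fun x => by
    rcases hcases x with rfl | ⟨k, rfl⟩
    · exact m0 0
    · rw [mk, smul_zero]
  have mcomm : ∀ x y, m x y = m y x := fun x y => by
    rcases hcases x with rfl | ⟨k, rfl⟩
    · rw [m0, m0']
    rcases hcases y with rfl | ⟨l, rfl⟩
    · rw [m0, m0']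
    rw [mk, mk, smul_smul, smul_smul, mul_comm]
  have madd : ∀ x y z, m x (y + z) = m x y + m x z := fun x y z => by
    rcases hcases x with rfl | ⟨k, rfl⟩
    · simp only [m0, add_zero]
    · simp only [mk, smul_add]
  have mone : ∀ x, m s x = x := fun x => by
    have := mk 1 x
    rwa [one_smul, one_smul] at this
  letI : CommRing E :=
    { (inferInstance : AddCommGroup E) with
      mul := m
      one := s
      mul_assoc := fun x y z => by
        show m (m x y) z = m x (m y z)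
        rcases hcases x with rfl | ⟨k, rfl⟩
        · rw [m0, m0, m0]
        rcases hcases y with rfl | ⟨l, rfl⟩
        · rw [m0', m0, m0']
        rw [mk, mk, mk, smul_smul, mk, smul_smul]
      one_mul := mone
      mul_one := fun x => (mcomm x s).trans (mone x)
      zero_mul := m0
      mul_zero := m0'
      left_distrib := madd
      right_distrib := fun x y z => by
        show m (x + y) z = m x z + m y z
        rw [mcomm, madd, mcomm z, mcomm z]
      mul_comm := mcomm }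
  have hF : IsField E := ⟨⟨s, 0, hs⟩, mcomm, fun {x} hx => by
    rcases hcases x with rfl | ⟨k, rfl⟩
    · exact absurd rfl hx
    · refine ⟨k⁻¹ • s, ?_⟩
      show m _ _ = s
      rw [mk, smul_inv_smul]⟩
  letI : Field E := hF.toField
  let ψ : K →* Eˣ :=
    { toFun := fun k => Units.mk0 (k • s) (hne k s hs)
      map_one' := Units.ext (one_smul K s)
      map_mul' := fun k l => Units.ext (by
        show (k * l) • s = m (k • s) (l • s)
        rw [mk, smul_smul]) }
  have hψ : Function.Bijective ψ := by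
    constructor
    · intro k l h
      have h1 : k • s = l • s := congrArg Units.val h
      rw [← hck k, h1, hck]
    · intro u
      exact ⟨c u, Units.ext (hc u u.ne_zero)⟩
  refine ⟨E, inferInstance, AddEquiv.refl E, (MulEquiv.ofBijective ψ hψ).symm, rfl, ?_⟩
  intro u x
  obtain ⟨k, rfl⟩ := hψ.2 u
  have : (MulEquiv.ofBijective ψ hψ).symm (ψ k) = k := (MulEquiv.ofBijective ψ hψ).symm_apply_apply k
  rw [this]
  exact (mk k x).symm

variable {G : Type u} {Ω : Type*} [Group G] [MulAction G Ω] {a : Ω} {t : G} {Q : Subgroup G}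

/-- Coordinates on `Q₀` and `K`. -/
structure FieldData (a : Ω) (t s : G) (F : Type*) [Field F] where
  /-- the additive parametrisation of `Q₀` -/
  σ : F → G
  /-- the multiplicative parametrisation of `K` -/
  κ : Fˣ →* G
  σ_add : ∀ x y, σ (x + y) = σ x * σ y
  σ_inj : Function.Injective σ
  mem_Q0 : ∀ g, g ∈ Q0 G a ↔ ∃ x, σ x = g
  σ_one : σ 1 = s
  κ_inj : Function.Injective κ
  mem_KK : ∀ k, k ∈ KK a t ↔ ∃ u, κ u = k
  conj : ∀ (u : Fˣ) (x : F), κ u * σ x * (κ u)⁻¹ = σ (u * x)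

namespace FieldData

variable {s : G} {F : Type*} [Field F] (Φ : FieldData a t s F)

theorem σ_zero : Φ.σ 0 = 1 := by
  have := Φ.σ_add 0 0
  rw [add_zero] at this
  exact (mul_eq_left.mp this.symm)

theorem σ_mem (x : F) : Φ.σ x ∈ Q0 G a := (Φ.mem_Q0 _).mpr ⟨x, rfl⟩

theorem κ_mem (u : Fˣ) : Φ.κ u ∈ KK a t := (Φ.mem_KK _).mpr ⟨u, rfl⟩

theorem σ_eq_one_iff {x : F} : Φ.σ x = 1 ↔ x = 0 := by
  rw [← Φ.σ_zero]; exact Φ.σ_inj.eq_iff

theorem σ_unit (u : Fˣ) : Φ.σ u = Φ.κ u * s * (Φ.κ u)⁻¹ := by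
  have := Φ.conj u 1
  rw [Φ.σ_one, mul_one] at this
  exact this.symm

include Φ in
theorem card_eq : Nat.card F = Nat.card (Q0 G a) :=
  Nat.card_congr (Equiv.ofBijective (fun x => (⟨Φ.σ x, Φ.σ_mem x⟩ : Q0 G a))
    ⟨fun _ _ h => Φ.σ_inj (congrArg Subtype.val h), fun g => by
      obtain ⟨x, hx⟩ := (Φ.mem_Q0 g).mp g.2
      exact ⟨x, Subtype.ext hx⟩⟩)

/-- Transport along a field isomorphism. -/
def transport {F' : Type*} [Field F'] (e : F' ≃+* F) : FieldData a t s F' where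
  σ x := Φ.σ (e x)
  κ := Φ.κ.comp (Units.map (e : F' →* F))
  σ_add x y := by rw [map_add, Φ.σ_add]
  σ_inj := Φ.σ_inj.comp e.injective
  mem_Q0 g := by
    rw [Φ.mem_Q0]
    exact ⟨fun ⟨x, hx⟩ => ⟨e.symm x, by simpa using hx⟩, fun ⟨x, hx⟩ => ⟨e x, hx⟩⟩
  σ_one := by rw [map_one, Φ.σ_one]
  κ_inj := Φ.κ_inj.comp (Units.map_injective e.injective)
  mem_KK k := by
    rw [Φ.mem_KK]
    refine ⟨fun ⟨u, hu⟩ => ⟨Units.map (e.symm : F →* F') u, ?_⟩, fun ⟨u, hu⟩ => ⟨_, hu⟩⟩
    rw [← hu]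
    show Φ.κ _ = Φ.κ u
    congr 1
    ext
    simp
  conj u x := by
    rw [map_mul]
    exact Φ.conj (Units.map (e : F' →* F) u) (e x)

variable (hS : IsRankOneSetup G Ω a t Q) [Finite G]
include hS

include Φ in
theorem charP_two : CharP F 2 := by
  have h : (1 : F) + 1 = 0 := by
    apply Φ.σ_inj
    rw [Φ.σ_add, Φ.σ_zero]
    exact mul_self_of_mem_Q0 hS (Φ.σ_mem 1)
  exact CharTwo.of_one_ne_zero_of_two_eq_zero one_ne_zero (by rw [← h]; norm_num)

include Φ in
theorem s_mem_II : s ∈ II G a := by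
  rw [← Φ.σ_one]
  exact mem_II_of_mem_Q0 hS (Φ.σ_mem 1) (fun h => one_ne_zero (Φ.σ_eq_one_iff.mp h))

/-- An element of `D` centralising `s` induces a field automorphism. -/
theorem exists_aut [Group.IsSolvable (DD a t)] {v : G} (hv : v ∈ DD a t) (hvs : Commute v s) :
    ∃ α : F ≃+* F, (∀ x, v * Φ.σ x * v⁻¹ = Φ.σ (α x)) ∧
      ∀ u : Fˣ, v * Φ.κ u * v⁻¹ = Φ.κ (Units.map (α : F →* F) u) := by
  have h1 : ∀ v ∈ DD a t, ∀ x, ∃ y, Φ.σ y = v * Φ.σ x * v⁻¹ := fun v hv x =>
    (Φ.mem_Q0 _).mp (conj_mem_Q0 hS hv.1 (Φ.σ_mem x))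
  choose f hf using h1 v hv
  choose g hg using h1 v⁻¹ (inv_mem hv)
  have h2 : ∀ u : Fˣ, ∃ w : Fˣ, Φ.κ w = v * Φ.κ u * v⁻¹ ∧ (w : F) = f u := fun u => by
    obtain ⟨w, hw⟩ := (Φ.mem_KK _).mp (conj_mem_KK_of_mem_DD hS (Φ.κ_mem u) hv)
    refine ⟨w, hw, Φ.σ_inj ?_⟩
    rw [hf, Φ.σ_unit, Φ.σ_unit, hw]
    calc v * Φ.κ u * v⁻¹ * s * (v * Φ.κ u * v⁻¹)⁻¹
        = v * Φ.κ u * (v⁻¹ * (s * v)) * (Φ.κ u)⁻¹ * v⁻¹ := by group
      _ = _ := by rw [← hvs.eq]; group
  have f0 : f 0 = 0 := Φ.σ_inj (by rw [hf, Φ.σ_zero]; group)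
  let α : F ≃+* F :=
    { toFun := f
      invFun := g
      left_inv := fun x => Φ.σ_inj (by rw [hg, hf]; group)
      right_inv := fun x => Φ.σ_inj (by rw [hf, hg]; group)
      map_add' := fun x y => Φ.σ_inj (by rw [hf, Φ.σ_add, Φ.σ_add, hf, hf]; group)
      map_mul' := fun x y => by
        by_cases hx : x = 0
        · rw [hx, zero_mul, f0, zero_mul]
        obtain ⟨w, hw, hw'⟩ := h2 (Units.mk0 x hx)
        apply Φ.σ_inj
        have e1 := Φ.conj (Units.mk0 x hx) y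
        rw [Units.val_mk0] at e1 hw'
        rw [hf, ← hw', ← Φ.conj, hf, hw, ← e1]; group }
  refine ⟨α, fun x => (hf x).symm, fun u => ?_⟩
  obtain ⟨w, hw, hw'⟩ := h2 u
  rw [← hw]
  congr 1
  exact Units.ext hw'

end FieldData

section setup

variable (hS : IsRankOneSetup G Ω a t Q) [Finite G] [Group.IsSolvable (DD a t)]
include hS

theorem exists_fieldData' {s : G} (hs : s ∈ II G a) :
    ∃ (F : Type u) (_ : Field F), Nonempty (FieldData a t s F) ∧ Nonempty (F ≃ Q0 G a) := by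
  letI : CommGroup (Q0 G a) :=
    { (inferInstance : Group (Q0 G a)) with
      mul_comm := fun x y => Subtype.ext (commute_of_mem_Q0 hS x.2 (Q0_le_Q hS y.2)).eq }
  letI : CommGroup (KS a t) :=
    { (inferInstance : Group (KS a t)) with
      mul_comm := fun x y => Subtype.ext
        (commute_KK hS ((mem_KS hS).mp x.2) ((mem_KS hS).mp y.2)).eq }
  let φ : KS a t →* MulAut (Q0 G a) := (actQ0 hS).comp (Subgroup.inclusion KS_le_DD)
  letI : DistribMulAction (KS a t) (Additive (Q0 G a)) :=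
    { smul := fun d x => Additive.ofMul (φ d x.toMul)
      one_smul := fun x => by
        show Additive.ofMul (φ 1 x.toMul) = x
        rw [map_one]; rfl
      mul_smul := fun d d' x => by
        show Additive.ofMul (φ (d * d') x.toMul) = Additive.ofMul (φ d (φ d' x.toMul))
        rw [map_mul]; rfl
      smul_zero := fun d => by
        show Additive.ofMul (φ d 1) = 0
        rw [map_one]; rfl
      smul_add := fun d x y => by
        show Additive.ofMul (φ d (x.toMul * y.toMul)) = _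
        rw [map_mul]; rfl }
  have hsmul : ∀ (d : KS a t) (x : Additive (Q0 G a)),
      ((d • x).toMul : G) = d * (x.toMul : G) * (d : G)⁻¹ := fun d x => rfl
  let s0 : Additive (Q0 G a) := Additive.ofMul ⟨s, mem_Q0_of_mem_II hs⟩
  have hs0 : s0 ≠ 0 := fun h => hs.2.1 (congrArg (fun y : Additive (Q0 G a) => (y.toMul : G)) h)
  obtain ⟨F, _, σ, κ, h1, h2⟩ := exists_field_of_regular (K := KS a t) hs0 (by
    intro x hx
    obtain ⟨k, hk, ek⟩ := exists_K_conj_eq hS hs
      (mem_II_of_mem_Q0 hS x.toMul.2 (fun h => hx (congrArg Additive.ofMul (Subtype.ext h))))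
    refine ⟨(⟨k, mem_KS_of_mem_KK hk⟩ : KS a t)⁻¹, ?_, ?_⟩
    · apply Additive.toMul.injective
      apply Subtype.ext
      rw [hsmul, ← ek]; simp [s0]
    · intro l hl
      have h3 := hsmul l s0
      rw [hl, ← ek] at h3
      apply Subtype.ext
      show (l : G) = k⁻¹
      rw [← inv_inj, inv_inv]
      apply eq_of_K_conj_eq hS hs (inv_mem_invertedBy ((mem_KS hS).mp l.2)) hk
      rw [h3, inv_inv]; rfl)
  refine ⟨F, inferInstance, ⟨⟨fun x => ((σ x).toMul : G), (KS a t).subtype.comp κ.toMonoidHom,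
    fun x y => by rw [map_add]; rfl, ?_, ?_, by rw [h1]; rfl, ?_, ?_, ?_⟩⟩,
    ⟨σ.toEquiv.trans Additive.toMul⟩⟩
  · intro x y h
    exact σ.injective (Additive.toMul.injective (Subtype.ext h))
  · intro g
    refine ⟨fun hg => ⟨σ.symm (Additive.ofMul ⟨g, hg⟩), by simp⟩, ?_⟩
    rintro ⟨x, rfl⟩
    exact (σ x).toMul.2
  · exact (KS a t).subtype_injective.comp κ.injective
  · intro k
    refine ⟨fun hk => ⟨κ.symm ⟨k, mem_KS_of_mem_KK hk⟩, by simp⟩, ?_⟩
    rintro ⟨u, rfl⟩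
    exact (mem_KS hS).mp (κ u).2
  · intro u x
    rw [← h2, hsmul]; rfl

/-- The field structure on `Q₀`, over a Galois field. -/
theorem exists_fieldData {s : G} (hs : s ∈ II G a) :
    ∃ n : ℕ, n ≠ 0 ∧ Nat.card (Q0 G a) = 2 ^ n ∧ Nonempty (FieldData a t s (GaloisField 2 n)) := by
  obtain ⟨F, _, ⟨Φ⟩, ⟨e⟩⟩ := exists_fieldData' hS hs
  haveI : Finite F := Finite.of_equiv _ e.symm
  letI : Fintype F := Fintype.ofFinite F
  haveI := Φ.charP_two hS
  obtain ⟨n, -, hn⟩ := FiniteField.card F 2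
  letI : Algebra (ZMod 2) F := ZMod.algebra F 2
  have hn' : Nat.card F = 2 ^ (n : ℕ) := by rw [Nat.card_eq_fintype_card, hn]
  refine ⟨n, n.ne_zero, by rw [← Φ.card_eq, hn'], ⟨Φ.transport
    (GaloisField.algEquivGaloisField 2 n hn').symm.toRingEquiv⟩⟩

/-- `V / W` is cyclic. -/
theorem exists_VV_eq_WW_sup : ∃ v ∈ VV a t, ∀ v' ∈ VV a t, ∃ n : ℕ, v' * (v ^ n)⁻¹ ∈ WW a t := by
  obtain ⟨s, hs, r, hr, e⟩ := exists_structure_eq hS
  obtain ⟨n, hn, -, ⟨Φ⟩⟩ := exists_fieldData hS hs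
  letI : Fintype (GaloisField 2 n) := Fintype.ofFinite _
  have h1 := fun v : VV a t => Φ.exists_aut hS v.2.1 (commute_of_mem_VV hS hs hr e v.2).1
  choose α hα _ using h1
  let ψ : VV a t →* (GaloisField 2 n ≃+* GaloisField 2 n) := MonoidHom.mk' α (fun v w => by
    ext x
    apply Φ.σ_inj
    rw [← hα, RingAut.mul_apply, ← hα, ← hα, Subgroup.coe_mul]; group)
  haveI : IsCyclic (GaloisField 2 n ≃+* GaloisField 2 n) :=
    ⟨⟨CL.Suz2.frob _, fun β => by
      obtain ⟨i, rfl⟩ := CL.Suz2.exists_pow_frob β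
      exact ⟨i, zpow_natCast _ _⟩⟩⟩
  haveI : Finite (GaloisField 2 n ≃+* GaloisField 2 n) := CL.Suz2.finite_aut
  obtain ⟨⟨_, v, rfl⟩, hg⟩ := IsCyclic.exists_generator (α := ψ.range)
  refine ⟨v, v.2, fun v' hv' => ?_⟩
  obtain ⟨m, hm⟩ := mem_powers_iff_mem_zpowers.mpr (hg ⟨_, ⟨v', hv'⟩, rfl⟩)
  have hm' : ψ (v ^ m) = ψ ⟨v', hv'⟩ := by
    rw [map_pow]; simpa using congrArg Subtype.val hm
  refine ⟨m, (mem_WW_iff hS).mpr ⟨mul_mem hv'.1 (inv_mem (pow_mem v.2.1 m)), fun y hy => ?_⟩⟩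
  obtain ⟨x, rfl⟩ := (Φ.mem_Q0 y).mp (mem_Q0_of_mem_II hy)
  have h3 : ψ (⟨v', hv'⟩ * (v ^ m)⁻¹) = 1 := by rw [map_mul, map_inv, hm', mul_inv_cancel]
  have h4 := hα (⟨v', hv'⟩ * (v ^ m)⁻¹) x
  have h5 : α (⟨v', hv'⟩ * (v ^ m)⁻¹) = 1 := h3
  rw [h5] at h4
  exact (mul_inv_eq_iff_eq_mul.mp h4).symm

end setup

end CL.RankOne
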