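import Cfsg.Agent.Base
import Cfsg.Agent.RankOne.Field
import Cfsg.Agent.RankOne.Concl
import Cfsg.Agent.PGrp.CyclicMax
import Cfsg.Agent.PF.Wielandt

/-!
# The rank-one set-up: elements of `V` inducing field automorphisms of prime order
-/

set_option autoImplicit false
set_option linter.unusedSectionVars false
set_option linter.style.haveILetI false

namespace CL.RankOne

open Cfsg MulAction

section field

variable {F : Type*} [Field F] [Finite F]

theorem mem_fixed_zpowers (α : F ≃+* F) (y : F) :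
    y ∈ FixedPoints.subfield (Subgroup.zpowers α) F ↔ α y = y := by
  constructor
  · intro h; exact h ⟨α, Subgroup.mem_zpowers α⟩
  · rintro h ⟨_, n, rfl⟩
    exact (stabilizer (F ≃+* F) y).zpow_mem h n

theorem card_eq_card_fixed_pow (α : F ≃+* F) :
    Nat.card F = Nat.card {y : F // α y = y} ^ orderOf α := by
  haveI : Finite (F ≃+* F) :=
    Finite.of_injective (fun σ : F ≃+* F => (σ : F → F)) DFunLike.coe_injective
  letI : Fintype (Subgroup.zpowers α) := Fintype.ofFinite _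
  rw [Module.natCard_eq_pow_finrank (K := FixedPoints.subfield (Subgroup.zpowers α) F) (V := F),
    FixedPoints.finrank_eq_card, ← Nat.card_eq_fintype_card, Nat.card_zpowers]
  congr 1
  exact Nat.card_congr (Equiv.subtypeEquivRight (mem_fixed_zpowers α))

theorem mem_zpowers_of_fixes (α β : F ≃+* F) (h : ∀ y, α y = y → β y = y) :
    β ∈ Subgroup.zpowers α := by
  haveI : Finite (F ≃+* F) :=
    Finite.of_injective (fun σ : F ≃+* F => (σ : F → F)) DFunLike.coe_injective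
  let f : F →ₐ[FixedPoints.subfield (Subgroup.zpowers α) F] F :=
    { (β : F →+* F) with commutes' := fun y => h y ((mem_fixed_zpowers α y).mp y.2) }
  obtain ⟨g, hg⟩ := (FixedPoints.toAlgHom_bijective (Subgroup.zpowers α) F).2 f
  have : β = g := RingEquiv.ext fun y => (DFunLike.congr_fun hg y).symm
  rw [this]; exact g.2

end field

/-- A weak form of Zsigmondy's theorem for prime exponents. -/
theorem exists_prime_dvd_pow_sub_one {l p : ℕ} (hl : 2 ≤ l) (hp : p.Prime) (hp2 : p ≠ 2) :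
    ∃ r : ℕ, r.Prime ∧ r ∣ l ^ p - 1 ∧ ¬ r ∣ l - 1 := by
  by_contra hcon
  push Not at hcon
  set N := ∑ i ∈ Finset.range p, l ^ i with hN
  have h1 : N * (l - 1) = l ^ p - 1 := by
    have := Nat.geomSum_eq hl p
    rw [hN, this]
    exact Nat.div_mul_cancel (Nat.sub_one_dvd_pow_sub_one l p)
  have hNZ : (N : ℤ) = ∑ i ∈ Finset.range p, (l : ℤ) ^ i := by simp [hN]
  have hl1 : ((l - 1 : ℕ) : ℤ) = (l : ℤ) - 1 := by rw [Nat.cast_sub (by omega)]; simp
  have h2 : ∀ r : ℕ, r.Prime → r ∣ N → r = p ∧ (r : ℤ) ∣ (l : ℤ) - 1 := by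
    intro r hr hrN
    have h3 : (r : ℤ) ∣ (l : ℤ) - 1 := by
      rw [← hl1]; exact_mod_cast hcon r hr (h1 ▸ Dvd.dvd.mul_right hrN _)
    have h4 := (dvd_geom_sum₂_iff_of_dvd_sub (n := p) h3).mp (by
      simp only [one_pow, mul_one]; rw [← hNZ]; exact_mod_cast hrN)
    simp only [one_pow, mul_one] at h4
    exact ⟨(Nat.prime_dvd_prime_iff_eq hr hp).mp (by exact_mod_cast h4), h3⟩
  have hNp : p < N := by
    have : ∑ i ∈ Finset.range p, 1 < N := by
      apply Finset.sum_lt_sum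
      · intro i _; exact Nat.one_le_pow _ _ (by omega)
      · exact ⟨1, Finset.mem_range.mpr hp.one_lt, by simp; omega⟩
    simpa using this
  have h5 := Nat.eq_prime_pow_of_unique_prime_dvd (n := N) (p := p) (by omega)
    (fun {r} hr hrN => (h2 r hr hrN).1)
  generalize N.primeFactorsList.length = k at h5
  have hk : 2 ≤ k := by
    by_contra hk
    have : k = 0 ∨ k = 1 := by omega
    have h0 := hp.one_lt
    rcases this with rfl | rfl <;> simp at h5 <;> omega
  have h6 : (p : ℤ) ∣ (l : ℤ) - 1 := (h2 p hp (h5 ▸ dvd_pow_self p (by omega))).2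
  have h7 := CL.PGrp.CycMax.dvd_geom_sum_sub_odd hp hp2 (m := 1) (by simpa using h6) h6
  rw [← hNZ, h5] at h7
  have h8 : (p : ℤ) ^ 2 ∣ p := by
    have := dvd_sub (show (p : ℤ) ^ 2 ∣ ((p ^ k : ℕ) : ℤ) by
      exact_mod_cast pow_dvd_pow p hk) h7
    simpa using this
  have h9 : p ^ 2 ∣ p := by exact_mod_cast h8
  have := Nat.le_of_dvd hp.pos h9
  nlinarith [hp.one_lt]

variable {G Ω : Type*} [Group G] [MulAction G Ω] {a : Ω} {t : G} {Q : Subgroup G}
  (hS : IsRankOneSetup G Ω a t Q) [Finite G] [Group.IsSolvable (DD a t)]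
include hS

theorem conj_mem_zpowers_K {k d : G} (hk : k ∈ KK a t) (hd : d ∈ DD a t) :
    d * k * d⁻¹ ∈ Subgroup.zpowers k := by
  obtain ⟨k0, hk0, h⟩ := exists_K_gen hS
  obtain ⟨m, rfl⟩ := h k hk
  obtain ⟨j, hj⟩ := h _ (conj_mem_KK_of_mem_DD hS hk0 hd)
  refine ⟨j, ?_⟩
  simp only at hj ⊢
  rw [← conj_zpow, ← hj, ← zpow_mul, ← zpow_mul, mul_comm]

/-- The action of `V` on the field `Q₀`. -/
theorem exists_galois : ∃ (n : ℕ) (s : G) (Φ : FieldData a t s (GaloisField 2 n))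
    (ψ : VV a t →* (GaloisField 2 n ≃+* GaloisField 2 n)), n ≠ 0 ∧
    (∀ (v : VV a t) x, v * Φ.σ x * (v : G)⁻¹ = Φ.σ (ψ v x)) ∧
    (∀ (v : VV a t) (u : (GaloisField 2 n)ˣ), v * Φ.κ u * (v : G)⁻¹ =
      Φ.κ (Units.map (ψ v : GaloisField 2 n →* GaloisField 2 n) u)) ∧
    ∀ v : VV a t, ψ v = 1 ↔ (v : G) ∈ WW a t := by
  obtain ⟨s, hs, r, hr, e⟩ := exists_structure_eq hS
  obtain ⟨n, hn, -, ⟨Φ⟩⟩ := exists_fieldData hS hs
  have h1 := fun v : VV a t => Φ.exists_aut hS v.2.1 (commute_of_mem_VV hS hs hr e v.2).1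
  choose α hα hα' using h1
  let ψ : VV a t →* (GaloisField 2 n ≃+* GaloisField 2 n) := MonoidHom.mk' α (fun v w => by
    ext x
    apply Φ.σ_inj
    rw [← hα, RingAut.mul_apply, ← hα, ← hα, Subgroup.coe_mul]; group)
  refine ⟨n, s, Φ, ψ, hn, hα, hα', fun v => ?_⟩
  rw [mem_WW_iff hS]
  constructor
  · intro h
    refine ⟨v.2.1, fun y hy => ?_⟩
    obtain ⟨x, rfl⟩ := (Φ.mem_Q0 y).mp (mem_Q0_of_mem_II hy)
    have h4 := hα v x
    rw [show α v = 1 from h] at h4
    exact (mul_inv_eq_iff_eq_mul.mp h4).symm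
  · rintro ⟨-, h⟩
    ext x
    apply Φ.σ_inj
    show Φ.σ (α v x) = Φ.σ x
    rw [← hα]
    by_cases hx : Φ.σ x = 1
    · rw [hx]; group
    · rw [← (h _ (mem_II_of_mem_Q0 hS (Φ.σ_mem x) hx)).eq]; group

/-- An element of `D` centralising `C_{Q₀}(x)` lies in `W ⟨x⟩`. -/
theorem exists_mul_zpow_mem_WW {x d : G} (hx : x ∈ VV a t) (hd : d ∈ DD a t)
    (h : ∀ y ∈ Q0 G a ⊓ Subgroup.centralizer {x}, Commute y d) :
    ∃ i : ℤ, d * (x ^ i)⁻¹ ∈ WW a t := by
  obtain ⟨s, hs, r, hr, e⟩ := exists_structure_eq hS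
  have hdV : d ∈ VV a t := (mem_VV_iff hS hs hr e).mpr ⟨hd, (h s ⟨mem_Q0_of_mem_II hs,
    Subgroup.mem_centralizer_singleton_iff.mpr (commute_of_mem_VV hS hs hr e hx).1.symm⟩).symm⟩
  obtain ⟨n, s', Φ, ψ, -, hψ, -, hker⟩ := exists_galois hS
  obtain ⟨i, hi⟩ := mem_zpowers_of_fixes (ψ ⟨x, hx⟩) (ψ ⟨d, hdV⟩) (fun y hy => by
    apply Φ.σ_inj
    have h1 := hψ ⟨x, hx⟩ y
    rw [hy] at h1
    rw [← hψ]
    have h2 := h _ ⟨Φ.σ_mem y, Subgroup.mem_centralizer_singleton_iff.mpr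
      (mul_inv_eq_iff_eq_mul.mp h1).symm⟩
    show d * _ * d⁻¹ = _
    rw [← h2.eq]; group)
  refine ⟨i, (hker (⟨d, hdV⟩ * (⟨x, hx⟩ ^ i)⁻¹)).mp ?_⟩
  rw [map_mul, map_inv, map_zpow, ← hi, mul_inv_cancel]

/-- An element of prime order of `V - W`: the order of its centraliser in `Q₀`, and an element of
prime order in `K` that it does not centralise. -/
theorem card_Q0_eq_pow {x : G} (hx : x ∈ VV a t) (hxW : x ∉ WW a t) (hp : (orderOf x).Prime) :
    Nat.card (Q0 G a) = Nat.card ↥(Q0 G a ⊓ Subgroup.centralizer {x}) ^ orderOf x ∧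
      ∃ k ∈ KK a t, (orderOf k).Prime ∧ ¬ Commute x k := by
  obtain ⟨n, s, Φ, ψ, hn, hψ, hψ', hker⟩ := exists_galois hS
  set α := ψ ⟨x, hx⟩ with hα
  have h1 : orderOf α = orderOf x := by
    have h2 : orderOf α ∣ orderOf x := by
      rw [← Subgroup.orderOf_mk x hx]; exact orderOf_map_dvd ψ _
    rcases (Nat.dvd_prime hp).mp h2 with h | h
    · exact absurd ((hker _).mp (orderOf_eq_one_iff.mp h)) hxW
    · exact h
  have h2 : Nat.card {y // α y = y} = Nat.card ↥(Q0 G a ⊓ Subgroup.centralizer {x}) := by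
    refine Nat.card_congr (Equiv.ofBijective (fun y => ⟨Φ.σ y, Φ.σ_mem y, ?_⟩) ⟨?_, ?_⟩)
    · have h1 := hψ ⟨x, hx⟩ y
      rw [← hα, y.2] at h1
      exact Subgroup.mem_centralizer_singleton_iff.mpr (mul_inv_eq_iff_eq_mul.mp h1).symm
    · intro y y' h
      exact Subtype.ext (Φ.σ_inj (congrArg Subtype.val h))
    · rintro ⟨g, hg, hgx⟩
      obtain ⟨y, rfl⟩ := (Φ.mem_Q0 g).mp hg
      refine ⟨⟨y, Φ.σ_inj ?_⟩, rfl⟩
      rw [hα, ← hψ]
      show x * _ * x⁻¹ = _
      rw [← Subgroup.mem_centralizer_singleton_iff.mp hgx]; group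
  have h3 := card_eq_card_fixed_pow α
  rw [h1] at h3
  refine ⟨by rw [← Φ.card_eq, h3, h2], ?_⟩
  have hl : 2 ≤ Nat.card {y // α y = y} := by
    haveI : Nontrivial {y // α y = y} :=
      ⟨⟨0, map_zero α⟩, ⟨1, map_one α⟩, fun h => zero_ne_one (congrArg Subtype.val h)⟩
    exact Finite.one_lt_card
  have hp2 : orderOf x ≠ 2 := by
    intro h
    have := odd_orderOf_of_mem_DD hS hx.1
    rw [h] at this
    exact absurd this (by decide)
  obtain ⟨r, hr, hr1, hr2⟩ := exists_prime_dvd_pow_sub_one hl hp hp2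
  rw [← h3, ← Nat.card_units] at hr1
  haveI := Fact.mk hr
  obtain ⟨u, hu⟩ := exists_prime_orderOf_dvd_card' r hr1
  refine ⟨Φ.κ u, Φ.κ_mem u, by rw [orderOf_injective _ Φ.κ_inj, hu]; exact hr, fun hc => hr2 ?_⟩
  have h4 := hψ' ⟨x, hx⟩ u
  rw [show ((⟨x, hx⟩ : VV a t) : G) = x from rfl, hc.eq, mul_inv_cancel_right] at h4
  have h5 : α u = u := (congrArg Units.val (Φ.κ_inj h4)).symm
  let E := FixedPoints.subfield (Subgroup.zpowers α) (GaloisField 2 n)
  have h6 : Nat.card E = Nat.card {y // α y = y} :=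
    Nat.card_congr (Equiv.subtypeEquivRight (mem_fixed_zpowers α))
  let u' : Eˣ := Units.mk0 ⟨u, (mem_fixed_zpowers α _).mpr h5⟩
    (fun h => u.ne_zero (congrArg Subtype.val h))
  have h7 : orderOf u' = r := by
    rw [← hu, ← orderOf_units, ← orderOf_units (y := u)]
    exact (orderOf_injective (E.subtype : E →* GaloisField 2 n) E.subtype_injective _).symm
  rw [← h6, ← Nat.card_units, ← h7]
  exact orderOf_dvd_natCard u'

/-- Wielandt's formula for an element of prime order of `V - W`. -/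
theorem card_eq_pow_of_not_mem_WW {x : G} (hx : x ∈ VV a t) (hxW : x ∉ WW a t)
    (hp : (orderOf x).Prime) {S : Subgroup G} (hSQ : S ≤ Q) (hSx : ∀ y ∈ S, x * y * x⁻¹ ∈ S)
    (hSK : ∀ k ∈ KK a t, ∀ y ∈ S, k * y * k⁻¹ ∈ S) (hsolv : Group.IsSolvable S)
    (hcop : (orderOf x).Coprime (Nat.card S)) :
    Nat.card S = Nat.card ↥(S ⊓ Subgroup.centralizer {x}) ^ orderOf x := by
  obtain ⟨k, hk, hr, hxk⟩ := (card_Q0_eq_pow hS hx hxW hp).2
  have hk1 : k ≠ 1 := fun h => hxk (h ▸ Commute.one_right x)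
  have hgen : ∀ {g y : G}, (orderOf g).Prime → y ∈ Subgroup.zpowers g → y ≠ 1 →
      g ∈ Subgroup.zpowers y := by
    intro g y hg hy hy1
    rw [zpowers_eq_of_mem hg (pow_orderOf_eq_one g) hy1 hy]
    exact Subgroup.mem_zpowers g
  have hkS : ∀ y ∈ S, Commute k y → y = 1 := fun y hy h =>
    eq_one_of_commute_K hS hk hk1 (hSQ hy) h
  have hUK : Subgroup.zpowers k ≤ KS a t := Subgroup.zpowers_le.mpr (mem_KS_of_mem_KK hk)
  have hEV : Subgroup.zpowers x ≤ VV a t := Subgroup.zpowers_le.mpr hx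
  have hUE : Subgroup.zpowers k ⊓ Subgroup.zpowers x = ⊥ := by
    rw [eq_bot_iff]
    intro y hy
    exact eq_one_of_mem_KK_of_mem_VV hS ((mem_KS hS).mp (hUK hy.1)) (hEV hy.2)
  have hUn : ∀ e ∈ Subgroup.zpowers x, ∀ u ∈ Subgroup.zpowers k,
      e * u * e⁻¹ ∈ Subgroup.zpowers k := by
    rintro e he _ ⟨i, rfl⟩
    show e * k ^ i * e⁻¹ ∈ _
    rw [← conj_zpow]
    exact Subgroup.zpow_mem _ (conj_mem_zpowers_K hS hk (hEV he).1) i
  have hEU : Subgroup.zpowers x ≤ Subgroup.normalizer (Subgroup.zpowers k : Set G) :=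
    fun e he => Subgroup.mem_normalizer_fintype (hUn e he)
  have hcopk : (orderOf k).Coprime (Nat.card S) := by
    haveI := Fact.mk hr
    rw [Nat.Prime.coprime_iff_not_dvd hr]
    intro hdvd
    letI : MulAction (Subgroup.zpowers k) S := MulAction.compHom S (S.normalizerMonoidHom.comp
      (Subgroup.inclusion (Subgroup.zpowers_le.mpr
        (Subgroup.mem_normalizer_fintype (hSK k hk)))))
    have hP : IsPGroup (orderOf k) (Subgroup.zpowers k) :=
      IsPGroup.of_card (n := 1) (by rw [Nat.card_zpowers, pow_one])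
    obtain ⟨y, hy, hy1⟩ := hP.exists_fixed_point_of_prime_dvd_card_of_fixed_point S hdvd
      (a := 1) (fun g => Subtype.ext (by show (g : G) * 1 * (g : G)⁻¹ = 1; group))
    apply hy1
    have h1 : k * y * k⁻¹ = y := congrArg Subtype.val (hy ⟨k, Subgroup.mem_zpowers k⟩)
    exact Subtype.ext (hkS y y.2 (mul_inv_eq_iff_eq_mul.mp h1)).symm
  have h := CL.PF.frobenius_wielandt (H := S) hUE hUn (by
      intro e he he1 u hu hc
      by_contra hu1
      apply hxk
      obtain ⟨i, hi⟩ := hgen hp he he1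
      obtain ⟨j, hj⟩ := hgen hr hu hu1
      rw [← hi, ← hj]
      exact (show Commute e u from hc).zpow_zpow i j)
    (sup_le (Subgroup.zpowers_le.mpr (Subgroup.mem_normalizer_fintype (hSK k hk)))
      (Subgroup.zpowers_le.mpr (Subgroup.mem_normalizer_fintype hSx))) hsolv (by
      rw [CL.PF.card_sup_of_inf_eq_bot hUE hEU, Nat.card_zpowers, Nat.card_zpowers]
      exact Nat.Coprime.mul_left hcopk hcop)
  have h1 : ∀ X : Subgroup G, k ∈ X → S ⊓ Subgroup.centralizer (X : Set G) = ⊥ := by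
    intro X hX
    rw [eq_bot_iff]
    intro y hy
    exact hkS y hy.1 (Subgroup.mem_centralizer_iff.mp hy.2 k hX)
  rw [h1 _ (Subgroup.mem_sup_left (Subgroup.mem_zpowers k)), h1 _ (Subgroup.mem_zpowers k),
    Nat.card_zpowers, Subgroup.card_bot, one_pow, one_mul, mul_one] at h
  rw [h, Subgroup.zpowers_eq_closure, Subgroup.centralizer_closure]

end CL.RankOne
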