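import Cfsg.Agent.Base
import Cfsg.Agent.RankOne.Concl

/-!
# The rank-one set-up: reduction to faithful actions of simple groups
-/

set_option autoImplicit false
set_option linter.unusedSectionVars false
set_option linter.style.haveILetI false

namespace CL.RankOne

open Cfsg MulAction

universe u v

section push

variable {G G' Ω : Type*} [Group G] [Group G'] [MulAction G Ω] [MulAction G' Ω] {a : Ω} {t : G}
  {Q : Subgroup G} (hS : IsRankOneSetup G Ω a t Q) [Finite G] (π : G →* G')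
  (hsurj : Function.Surjective π) (hπ : ∀ (g : G) (c : Ω), π g • c = g • c)
include hS hπ

theorem push_eq_one {x : G} (hx : x ∈ Q) (h : π x = 1) : x = 1 :=
  eq_one_of_mem_Q_of_smul_ta hS hx (by rw [← hπ, h, one_smul])

theorem push_inj {x y : G} (hx : x ∈ Q) (hy : y ∈ Q) (h : π x = π y) : x = y :=
  eq_of_mem_Q_of_smul_eq hS hx hy (ta_ne hS) (by rw [← hπ, h, hπ])

omit hS [Finite G] in
theorem push_mem_DD {d : G} : π d ∈ DD a (π t) ↔ d ∈ DD a t := by
  rw [mem_DD, mem_DD, hπ, hπ, hπ]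

theorem push_card {P : Subgroup G} (hP : P ≤ Q) : Nat.card (P.map π) = Nat.card P := by
  symm
  refine Nat.card_congr (Equiv.ofBijective (fun x => ⟨π x, x, x.2, rfl⟩) ⟨fun x y h => ?_, ?_⟩)
  · exact Subtype.ext (push_inj hS π hπ (hP x.2) (hP y.2) (congrArg Subtype.val h))
  · rintro ⟨_, x, hx, rfl⟩
    exact ⟨⟨x, hx⟩, rfl⟩

include hsurj

theorem push_setup : IsRankOneSetup G' Ω a (π t) (Q.map π) := by
  haveI : Finite G' := Finite.of_surjective π hsurj
  refine ⟨?_, by rw [← map_mul, hS.mul_self, map_one], ?_, ?_, ?_, ?_, ?_, ?_, ?_, ?_⟩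
  · rw [MulAction.is_two_pretransitive_iff]
    intro b c b' c' h h'
    obtain ⟨g, h1, h2⟩ := two_trans hS h h'
    exact ⟨π g, by rw [hπ, h1], by rw [hπ, h2]⟩
  · intro h
    apply ta_ne hS
    rw [← hπ, h, one_smul]
  · intro h
    apply ta_ne hS
    rw [← hπ]; exact h
  · rintro _ ⟨x, hx, rfl⟩
    show π x • a = a
    rw [hπ, smul_of_mem_Q hS hx]
  · rintro h hh _ ⟨x, hx, rfl⟩
    obtain ⟨h, rfl⟩ := hsurj h
    refine ⟨h * x * h⁻¹, conj_mem_Q hS ?_ hx, by simp⟩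
    rw [← hπ]; exact hh
  · rw [eq_bot_iff]
    rintro _ ⟨⟨x, hx, rfl⟩, h⟩
    have h' : π x • π t • a = π t • a := h
    rw [hπ, hπ] at h'
    rw [eq_one_of_mem_Q_of_smul_ta hS hx h', map_one]
    exact one_mem _
  · apply le_antisymm
    · refine sup_le ?_ inf_le_left
      rintro _ ⟨x, hx, rfl⟩
      show π x • a = a
      rw [hπ, smul_of_mem_Q hS hx]
    · intro h hh
      obtain ⟨h, rfl⟩ := hsurj h
      obtain ⟨q, hq, d, hd, rfl⟩ := decomp hS (show h • a = a by rw [← hπ]; exact hh)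
      rw [map_mul]
      exact Subgroup.mul_mem_sup ⟨q, hq, rfl⟩ ((push_mem_DD π hπ).mpr hd)
  · rw [push_card hS π hπ le_rfl]; exact hS.even_card
  · have : DD a (π t) = (DD a t).map π := by
      ext d
      obtain ⟨d, rfl⟩ := hsurj d
      constructor
      · intro h; exact ⟨d, (push_mem_DD π hπ).mp h, rfl⟩
      · rintro ⟨d', hd', e⟩; rw [← e]; exact (push_mem_DD π hπ).mpr hd'
    have h1 : Odd (Nat.card (DD a (π t))) := by
      rw [this]
      exact Odd.of_dvd_nat hS.odd_card (Subgroup.card_map_dvd _ _)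
    exact h1

theorem push_Q0 : Q0 G' a = (Q0 G a).map π := by
  haveI : Finite G' := Finite.of_surjective π hsurj
  have hS' := push_setup hS π hsurj hπ
  ext y
  rw [mem_Q0_iff hS']
  constructor
  · rintro ⟨⟨x, hx, rfl⟩, h⟩
    exact ⟨x, (mem_Q0_iff hS).mpr ⟨hx, push_eq_one hS π hπ (Q.mul_mem hx hx) (by rw [map_mul, h])⟩,
      rfl⟩
  · rintro ⟨x, hx, rfl⟩
    exact ⟨⟨x, Q0_le_Q hS hx, rfl⟩, by rw [← map_mul, mul_self_of_mem_Q0 hS hx, map_one]⟩

theorem concl_of_push (hnf : ¬ FaithfulSMul G Ω) (h : Concl a (π t) (Q.map π)) : Concl a t Q := by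
  haveI : Finite G' := Finite.of_surjective π hsurj
  have hS' := push_setup hS π hsurj hπ
  have hQ0 := push_Q0 hS π hsurj hπ
  have hc := push_card hS π hπ (le_refl Q)
  have hc0 : Nat.card (Q0 G' a) = Nat.card (Q0 G a) := by
    rw [hQ0, push_card hS π hπ (Q0_le_Q hS)]
  have hna : NonAb (Q.map π) → NonAb Q := by
    rintro ⟨_, ⟨x, hx, rfl⟩, _, ⟨y, hy, rfl⟩, hxy⟩
    exact ⟨x, hx, y, hy, fun h => hxy (by rw [← map_mul, h, map_mul])⟩
  have hcomm : ∀ n ∈ DD a t, ∀ x ∈ Q, Commute (π n) (π x) → Commute n x := by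
    intro n hn x hx h
    have : n * x * n⁻¹ = x := push_inj hS π hπ (conj_mem_Q hS hn.1 hx) hx (by
      rw [map_mul, map_mul, h.eq, map_inv, mul_inv_cancel_right])
    exact mul_inv_eq_iff_eq_mul.mp this
  haveI : Fact (Nat.Prime 2) := ⟨Nat.prime_two⟩
  refine ⟨?_, fun x hx => push_eq_one hS π hπ (Q.pow_mem hx 4) ?_, ?_, fun h => absurd h hnf⟩
  · obtain ⟨n, hn⟩ := IsPGroup.iff_card.mp h.two
    exact IsPGroup.of_card (hc.symm.trans hn)
  · rw [map_pow]; exact h.pow_four _ ⟨x, hx, rfl⟩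
  · rcases h.cases with h | ⟨h1, h2⟩ | ⟨h1, h2, _, ⟨ω, hω, rfl⟩, hω0, ζ, hζ, ⟨_, ⟨x, hx, rfl⟩, hζx⟩,
      h3, h4⟩
    · left
      apply (Subgroup.eq_of_le_of_card_ge (Q0_le_Q hS) _).symm
      rw [← hc, h, hc0]
    · right; left
      exact ⟨by rw [← hc, h1, hc0], hna h2⟩
    · right; right
      obtain ⟨ζ, rfl⟩ := hsurj ζ
      rw [mem_WW_iff hS'] at hζ
      have hζD := (push_mem_DD π hπ).mp hζ.1
      rw [← map_mul, ← map_mul, ← map_pow] at h3 h4
      have h3' := (push_mem_DD π hπ).mp h3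
      refine ⟨by rw [← hc, h1, hc0], hna h2, ω, hω, fun h => hω0 (hQ0 ▸ ⟨ω, h, rfl⟩), ζ,
        (mem_WW_iff hS).mpr ⟨hζD, fun s hs => ?_⟩, ⟨x, hx, fun h => hζx (h.map π)⟩, h3',
        fun y hy => hcomm _ h3' y hy (h4 _ ⟨y, hy, rfl⟩)⟩
      refine (hcomm ζ hζD s (mem_Q_of_mem_II hS hs) (hζ.2 _ ⟨?_, ?_, ?_⟩).symm).symm
      · show π s • a = a
        rw [hπ]; exact hs.1
      · exact fun h => hs.2.1 (push_eq_one hS π hπ (mem_Q_of_mem_II hS hs) h)
      · rw [← map_mul, hs.2.2, map_one]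

end push

variable {G : Type u} {Ω : Type v} [Group G] [Finite G] [MulAction G Ω] {a : Ω} {t : G}
  {Q : Subgroup G}

/-- Reduction to faithful actions. -/
theorem concl_of_not_faithful (hS : IsRankOneSetup G Ω a t Q) (hq : 2 < Nat.card (Q0 G a))
    (ih : IH.{u, v} (Nat.card G)) (hnf : ¬ FaithfulSMul G Ω) : Concl a t Q := by
  let N := (MulAction.toPermHom G Ω).ker
  letI : MulAction (G ⧸ N) Ω :=
    MulAction.compHom Ω (QuotientGroup.kerLift (MulAction.toPermHom G Ω))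
  have hπ : ∀ (g : G) (c : Ω), (QuotientGroup.mk' N g) • c = g • c := fun g c => rfl
  have hsurj := QuotientGroup.mk'_surjective N
  refine concl_of_push hS _ hsurj hπ hnf (ih _ _ _ _ _ (push_setup hS _ hsurj hπ) ?_ ?_)
  · rw [push_Q0 hS _ hsurj hπ, push_card hS _ hπ (Q0_le_Q hS)]; exact hq
  · have h1 : N ≠ ⊥ := by
      intro h
      apply hnf
      have := (MonoidHom.ker_eq_bot_iff _).mp h
      exact ⟨fun {g g'} hg => this (Equiv.ext hg)⟩
    rw [Subgroup.card_eq_card_quotient_mul_card_subgroup N]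
    exact lt_mul_of_one_lt_right Nat.card_pos ((Subgroup.one_lt_card_iff_ne_bot N).mpr h1)

section normal

variable (hS : IsRankOneSetup G Ω a t Q) (hq : 2 < Nat.card (Q0 G a)) [FaithfulSMul G Ω]
include hS hq

theorem eq_bot_of_normal_odd (N : Subgroup G) [hN : N.Normal] (hodd : Odd (Nat.card N)) :
    N = ⊥ := by
  have h1 := le_stabilizer_of_normal_odd hS ((two_lt_card_Q0_iff hS).mp hq) N hodd
  rw [eq_bot_iff]
  intro n hn
  apply eq_of_smul_eq_smul (α := Ω)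
  intro c
  obtain ⟨g, rfl⟩ := trans hS a c
  have : (g⁻¹ * n * g) • a = a := h1 (hN.conj_mem' n hn g)
  rw [mul_smul, mul_smul, inv_smul_eq_iff] at this
  rw [this, one_smul]

/-- A non-trivial normal subgroup contains `⟨Q, t⟩`. -/
theorem LL_le_of_normal (N : Subgroup G) [hN : N.Normal] (h1 : N ≠ ⊥) : LL Q t ≤ N := by
  have hev : Even (Nat.card N) := by
    by_contra h
    exact h1 (eq_bot_of_normal_odd hS hq N (Nat.not_even_iff_odd.mp h))
  obtain ⟨u, hu, hu1, hu2⟩ := exists_invol_of_even hev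
  have hI : ∀ w : G, w * w = 1 → w ∈ N := by
    intro w hw
    by_cases hw1 : w = 1
    · rw [hw1]; exact one_mem _
    obtain ⟨g, rfl⟩ := invol_conj hS hu1 hu2 hw1 hw
    exact hN.conj_mem u hu g
  refine LL_le ?_ (hI t hS.mul_self)
  obtain ⟨k, hk, hk1⟩ := exists_K_ne_one hS ((two_lt_card_Q0_iff hS).mp hq)
  have hkN : k ∈ N := by
    have := N.mul_mem (hI _ (K_mul_t_mul_self hS hk)) (hI t hS.mul_self)
    rwa [mul_assoc, hS.mul_self, mul_one] at this
  intro x hx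
  obtain ⟨z, -, rfl⟩ := exists_commutator_eq hS hk.1.1
    (fun q hq h => eq_one_of_commute_K hS hk hk1 hq h) hx
  rw [mul_assoc, mul_assoc, ← mul_assoc z]
  exact N.mul_mem (N.inv_mem hkN) (hN.conj_mem k hkN z)

theorem LL_eq_top [IsSimpleGroup G] : LL Q t = ⊤ := by
  rcases (normal_LL hS).eq_bot_or_eq_top with h | h
  · exact absurd (Subgroup.mem_bot.mp (h ▸ mem_LL_t : t ∈ (⊥ : Subgroup G))) hS.ne_one
  · exact h

/-- Reduction to simple groups. -/
theorem concl_of_not_simple (ih : IH.{u, v} (Nat.card G)) (hns : ¬ IsSimpleGroup G) :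
    Concl a t Q := by
  obtain ⟨N, hN, h1, h2⟩ : ∃ N : Subgroup G, N.Normal ∧ N ≠ ⊥ ∧ N ≠ ⊤ := by
    by_contra h
    apply hns
    haveI : Nontrivial G := ⟨t, 1, hS.ne_one⟩
    refine ⟨fun N hN => ?_⟩
    by_contra h'
    push Not at h'
    exact h ⟨N, hN, h'.1, h'.2⟩
  have hL := LL_le_of_normal hS hq N h1
  have hQ : Q ≤ N := Q_le_LL.trans hL
  have ht : t ∈ N := hL mem_LL_t
  have ha : a ∈ (⊤ : SubMulAction N Ω) := trivial
  obtain ⟨s, hs⟩ := exists_mem_II hS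
  have hS' := sub_setup hS ha ht (fun b _ hb => by
    obtain ⟨q, hq, e⟩ := exists_smul_ta_eq hS hb
    exact ⟨q, hq, hQ hq, e⟩) ⟨s, hs, hQ (mem_Q_of_mem_II hS hs)⟩
  have e1 : Q ⊓ N = Q := inf_eq_left.mpr hQ
  have e0 : Q0 G a ⊓ N = Q0 G a := inf_eq_left.mpr ((Q0_le_Q hS).trans hQ)
  have h := ih _ _ _ _ _ hS' (by rw [sub_card_Q0 hS _ _ hS', e0]; exact hq) (by
    by_contra hle
    exact h2 (Subgroup.eq_top_of_le_card _ (not_lt.mp hle)))
  have h' := conclOn_of_sub hS _ _ hS' h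
  refine ⟨e1 ▸ h'.two, e1 ▸ h'.pow_four, ?_, fun _ => ?_⟩
  · have := h'.cases
    rw [U3On, e1, e0] at this
    rcases this with h | h | ⟨h1, h2, ω, hω, hω0, ζ, hζ, h3, h4⟩
    · exact Or.inl h
    · exact Or.inr (Or.inl h)
    · exact Or.inr (Or.inr ⟨h1, h2, ω, hω, hω0, ζ, (mem_WW_iff hS).mpr
        ⟨hζ.1, fun y hy => h3 y (mem_Q0_of_mem_II hy)⟩, h4⟩)
  · haveI : FaithfulSMul N (⊤ : SubMulAction N Ω) := ⟨fun {g g'} hg => Subtype.ext
      (eq_of_smul_eq_smul (α := Ω) fun c => congrArg Subtype.val (hg ⟨c, trivial⟩))⟩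
    have e2 : (LL (Q.subgroupOf N) ⟨t, ht⟩).map N.subtype = LL Q t := by
      rw [map_LL, Subgroup.subgroupOf_map_subtype, e1]; rfl
    refine (h.iso inferInstance).of_equiv ?_
    rw [← e2]
    exact (Subgroup.equivMapOfInjective _ _ N.subtype_injective).symm

end normal

end CL.RankOne
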