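import Cfsg.Agent.Base
import Cfsg.Agent.RankOne.Reduce

/-!
# The rank-one set-up: the (simplified) inductive form of Suzuki's theorem and its reductions
-/

set_option autoImplicit false
set_option linter.unusedSectionVars false
set_option linter.style.haveILetI false

namespace CL.RankOne

open Cfsg MulAction

universe u v

section defs

variable {G Ω : Type*} [Group G] [MulAction G Ω]

/-- `Q` is a 2-group which is non-abelian or equal to `Q₀`. -/
def Good (a : Ω) (Q : Subgroup G) : Prop := IsPGroup 2 Q ∧ (Q = Q0 G a ∨ NonAb Q)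

/-- The conclusion of Suzuki's theorem. -/
structure Con (a : Ω) (t : G) (Q : Subgroup G) : Prop where
  two : IsPGroup 2 Q
  pow_four : ∀ x ∈ Q, x ^ 4 = 1
  cases : Q = Q0 G a ∨ (Nat.card Q = Nat.card (Q0 G a) ^ 2 ∧ NonAb Q) ∨
    (Nat.card Q = Nat.card (Q0 G a) ^ 3 ∧ NonAb Q)
  iso : FaithfulSMul G Ω → IsoConcl (LL Q t)

/-- The structural part of the conclusion for the subgroup `M`. -/
structure ConOn (a : Ω) (Q M : Subgroup G) : Prop where
  two : IsPGroup 2 ↥(Q ⊓ M)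
  pow_four : ∀ x ∈ Q ⊓ M, x ^ 4 = 1
  cases : Q ⊓ M = Q0 G a ⊓ M ∨
    (Nat.card ↥(Q ⊓ M) = Nat.card ↥(Q0 G a ⊓ M) ^ 2 ∧ NonAb (Q ⊓ M)) ∨
    (Nat.card ↥(Q ⊓ M) = Nat.card ↥(Q0 G a ⊓ M) ^ 3 ∧ NonAb (Q ⊓ M))

/-- The output of the induction hypothesis for the centralisers of the non-trivial subsets of `V`. -/
def Loc (a : Ω) (t : G) (Q : Subgroup G) : Prop :=
  ∀ X : Set G, (∀ x ∈ X, x ∈ VV a t) → (∃ x ∈ X, x ≠ 1) →
    2 < Nat.card ↥(Q0 G a ⊓ Subgroup.centralizer X) → ConOn a Q (Subgroup.centralizer X)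

end defs

/-- The induction hypothesis. -/
def IndHyp (n : ℕ) : Prop :=
  ∀ (G : Type u) (Ω : Type v) [Group G] [Finite G] [MulAction G Ω] (a : Ω) (t : G) (Q : Subgroup G),
    IsRankOneSetup G Ω a t Q → 2 < Nat.card (Q0 G a) → Nat.card G < n → Con a t Q

section transport

variable {G Ω : Type*} [Group G] [MulAction G Ω] {a : Ω} {t : G} {Q : Subgroup G}
  (hS : IsRankOneSetup G Ω a t Q) [Finite G]
include hS

theorem conOn_of_sub {M : Subgroup G} {Ω' : SubMulAction M Ω} (ha : a ∈ Ω') (ht : t ∈ M)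
    (hS' : IsRankOneSetup M Ω' ⟨a, ha⟩ ⟨t, ht⟩ (Q.subgroupOf M))
    (h : Con (⟨a, ha⟩ : Ω') (⟨t, ht⟩ : M) (Q.subgroupOf M)) : ConOn a Q M := by
  have hna : NonAb (Q.subgroupOf M) → NonAb (Q ⊓ M) := by
    rintro ⟨x, hx, y, hy, hxy⟩
    exact ⟨x, ⟨hx, x.2⟩, y, ⟨hy, y.2⟩, fun h => hxy (Subtype.ext h)⟩
  refine ⟨?_, fun x hx => congrArg Subtype.val (h.pow_four ⟨x, hx.2⟩ hx.1), ?_⟩
  · have := h.two
    rw [← Subgroup.inf_subgroupOf_right] at this
    exact this.of_equiv (Subgroup.subgroupOfEquivOfLe inf_le_right)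
  · rcases h.cases with h | ⟨h1, h2⟩ | ⟨h1, h2⟩
    · left
      rw [sub_Q0 hS ha ht hS'] at h
      rw [← Subgroup.subgroupOf_map_subtype, h, Subgroup.subgroupOf_map_subtype]
    · right; left
      rw [sub_card_Q0 hS ha ht hS', card_subgroupOf] at h1
      exact ⟨h1, hna h2⟩
    · right; right
      rw [sub_card_Q0 hS ha ht hS', card_subgroupOf] at h1
      exact ⟨h1, hna h2⟩

theorem con_of_push {G' : Type*} [Group G'] [MulAction G' Ω] (π : G →* G')
    (hsurj : Function.Surjective π) (hπ : ∀ (g : G) (c : Ω), π g • c = g • c)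
    (hnf : ¬ FaithfulSMul G Ω) (h : Con a (π t) (Q.map π)) : Con a t Q := by
  have hQ0 := push_Q0 hS π hsurj hπ
  have hc := push_card hS π hπ (le_refl Q)
  have hc0 : Nat.card (Q0 G' a) = Nat.card (Q0 G a) := by
    rw [hQ0, push_card hS π hπ (Q0_le_Q hS)]
  have hna : NonAb (Q.map π) → NonAb Q := by
    rintro ⟨_, ⟨x, hx, rfl⟩, _, ⟨y, hy, rfl⟩, hxy⟩
    exact ⟨x, hx, y, hy, fun h => hxy (by rw [← map_mul, h, map_mul])⟩
  haveI : Fact (Nat.Prime 2) := ⟨Nat.prime_two⟩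
  haveI : Finite G' := Finite.of_surjective π hsurj
  refine ⟨?_, fun x hx => push_eq_one hS π hπ (Q.pow_mem hx 4) ?_, ?_, fun h => absurd h hnf⟩
  · obtain ⟨n, hn⟩ := IsPGroup.iff_card.mp h.two
    exact IsPGroup.of_card (hc.symm.trans hn)
  · rw [map_pow]; exact h.pow_four _ ⟨x, hx, rfl⟩
  · rcases h.cases with h | ⟨h1, h2⟩ | ⟨h1, h2⟩
    · left
      apply (Subgroup.eq_of_le_of_card_ge (Q0_le_Q hS) _).symm
      rw [← hc, h, hc0]
    · right; left
      exact ⟨by rw [← hc, h1, hc0], hna h2⟩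
    · right; right
      exact ⟨by rw [← hc, h1, hc0], hna h2⟩

end transport

variable {G : Type u} {Ω : Type v} [Group G] [Finite G] [MulAction G Ω] {a : Ω} {t : G}
  {Q : Subgroup G} (hS : IsRankOneSetup G Ω a t Q)
include hS

/-- The induction hypothesis applied to the centralisers of subsets of `V`. -/
theorem loc_of_indHyp [FaithfulSMul G Ω] (ih : IndHyp.{u, v} (Nat.card G)) : Loc a t Q := by
  rintro X hX ⟨x, hx, hx1⟩ h2
  have hS' := cent_setup hS hX
  refine conOn_of_sub hS _ _ hS' (ih _ _ _ _ _ hS' ?_ ?_)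
  · rwa [sub_card_Q0 hS _ _ hS']
  · by_contra hle
    have h := Subgroup.eq_top_of_le_card _ (not_lt.mp hle)
    apply hx1
    apply eq_one_of_commute_Q hS (hX x hx).1
    intro y _
    have : y ∈ Subgroup.centralizer X := by rw [h]; trivial
    exact Subgroup.mem_centralizer_iff.mp this x hx

/-- Reduction to faithful actions. -/
theorem con_of_not_faithful (hq : 2 < Nat.card (Q0 G a))
    (ih : IndHyp.{u, v} (Nat.card G)) (hnf : ¬ FaithfulSMul G Ω) : Con a t Q := by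
  let N := (MulAction.toPermHom G Ω).ker
  letI : MulAction (G ⧸ N) Ω :=
    MulAction.compHom Ω (QuotientGroup.kerLift (MulAction.toPermHom G Ω))
  have hπ : ∀ (g : G) (c : Ω), (QuotientGroup.mk' N g) • c = g • c := fun g c => rfl
  have hsurj := QuotientGroup.mk'_surjective N
  refine con_of_push hS _ hsurj hπ hnf (ih _ _ _ _ _ (push_setup hS _ hsurj hπ) ?_ ?_)
  · rw [push_Q0 hS _ hsurj hπ, push_card hS _ hπ (Q0_le_Q hS)]; exact hq
  · have h1 : N ≠ ⊥ := by
      intro h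
      apply hnf
      have := (MonoidHom.ker_eq_bot_iff _).mp h
      exact ⟨fun {g g'} hg => this (Equiv.ext hg)⟩
    rw [Subgroup.card_eq_card_quotient_mul_card_subgroup N]
    exact lt_mul_of_one_lt_right Nat.card_pos ((Subgroup.one_lt_card_iff_ne_bot N).mpr h1)

/-- Reduction to simple groups. -/
theorem con_of_not_simple (hq : 2 < Nat.card (Q0 G a)) [FaithfulSMul G Ω]
    (ih : IndHyp.{u, v} (Nat.card G)) (hns : ¬ IsSimpleGroup G) : Con a t Q := by
  obtain ⟨N, hN, h1, h2⟩ : ∃ N : Subgroup G, N.Normal ∧ N ≠ ⊥ ∧ N ≠ ⊤ := by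
    by_contra h
    apply hns
    haveI : Nontrivial G := ⟨t, 1, hS.ne_one⟩
    refine ⟨fun N hN => ?_⟩
    by_contra h'
    push Not at h'
    exact h ⟨N, hN, h'.1, h'.2⟩
  have hL := LL_le_of_normal hS hq N h1
  have hQ : Q ≤ N := Q_le_LL.trans hL
  have ht : t ∈ N := hL mem_LL_t
  have ha : a ∈ (⊤ : SubMulAction N Ω) := trivial
  obtain ⟨s, hs⟩ := exists_mem_II hS
  have hS' := sub_setup hS ha ht (fun b _ hb => by
    obtain ⟨q, hq, e⟩ := exists_smul_ta_eq hS hb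
    exact ⟨q, hq, hQ hq, e⟩) ⟨s, hs, hQ (mem_Q_of_mem_II hS hs)⟩
  have e1 : Q ⊓ N = Q := inf_eq_left.mpr hQ
  have e0 : Q0 G a ⊓ N = Q0 G a := inf_eq_left.mpr ((Q0_le_Q hS).trans hQ)
  have h := ih _ _ _ _ _ hS' (by rw [sub_card_Q0 hS _ _ hS', e0]; exact hq) (by
    by_contra hle
    exact h2 (Subgroup.eq_top_of_le_card _ (not_lt.mp hle)))
  have h' := conOn_of_sub hS _ _ hS' h
  refine ⟨e1 ▸ h'.two, e1 ▸ h'.pow_four, ?_, fun _ => ?_⟩
  · have := h'.cases
    rwa [e1, e0] at this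
  · haveI : FaithfulSMul N (⊤ : SubMulAction N Ω) := ⟨fun {g g'} hg => Subtype.ext
      (eq_of_smul_eq_smul (α := Ω) fun c => congrArg Subtype.val (hg ⟨c, trivial⟩))⟩
    have e2 : (LL (Q.subgroupOf N) ⟨t, ht⟩).map N.subtype = LL Q t := by
      rw [map_LL, Subgroup.subgroupOf_map_subtype, e1]; rfl
    refine (h.iso inferInstance).of_equiv ?_
    rw [← e2]
    exact (Subgroup.equivMapOfInjective _ _ N.subtype_injective).symm

end CL.RankOne
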