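import Cfsg.Agent.Base
import Cfsg.Agent.RankOneRec.Iface
import Cfsg.Agent.RankOneRec.ZT
import Cfsg.Agent.RankOneB.ThmB
import Cfsg.Agent.RankOneC.ThmC
import Cfsg.Agent.S0205
import Cfsg.Agent.S0885
import Cfsg.Agent.S1138

/-!
# Suzuki's theorem on doubly transitive groups: the induction
-/

set_option autoImplicit false
set_option linter.unusedSectionVars false
set_option linter.style.haveILetI false

namespace CL.RankOne

open Cfsg MulAction

universe u v

section steps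

variable {G Ω : Type*} [Group G] [MulAction G Ω] {a : Ω} {t : G} {Q : Subgroup G}
  (hS : IsRankOneSetup G Ω a t Q) [Finite G]
include hS

theorem solvable_DD : Group.IsSolvable (DD a t) := Cfsg.Agent.S0205.result hS.odd_card

theorem exists_card_Q0 (hq : 2 < Nat.card (Q0 G a)) : ∃ n, 2 ≤ n ∧ Nat.card (Q0 G a) = 2 ^ n := by
  obtain ⟨n, h1, hn⟩ := ROR.exists_card_QZ hS
  refine ⟨n, ?_, hn⟩
  have hn' : Nat.card (Q0 G a) = 2 ^ n := hn
  by_contra h
  have : n = 1 := by omega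
  rw [hn', this] at hq
  omega

/-- The case `Q = Q₀`. -/
theorem iso_of_eq_Q0 (hq : 2 < Nat.card (Q0 G a)) (h : Q = Q0 G a) : IsoConcl (LL Q t) := by
  haveI := solvable_DD hS
  have hK : ∀ k ∈ KK a t, ∀ l ∈ KK a t, k * l ∈ KK a t := fun k hk l hl => mul_mem_KK hS hk hl
  obtain ⟨s, hs, r, hr, e⟩ := exists_structure_eq hS
  have hrr : r * r = 1 := mul_self_of_mem_Q0 hS (h ▸ hr)
  have hrs : r = s := by
    rcases ROR.struct_dichotomy hS hs hr e (by rw [hrr, one_mul]) with h1 | ⟨h1, -⟩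
    · exact h1
    · exact absurd (h1.symm.trans hrr) hs.2.1
  subst hrs
  obtain ⟨F, _, _, _, hF, ⟨φ⟩⟩ := ROR.L0_equiv hS hK hs e
  have e1 : LL Q t = ROR.bru t (ROR.QZ G a) (ROR.KS a t) := by
    apply le_antisymm
    · refine LL_le ?_ (ROR.t_mem_bru _ _ _)
      rw [h]; exact ROR.le_bru_S _ _ _
    · refine ROR.bru_le ((Q0_le_Q hS).trans Q_le_LL) (fun k hk => ?_) mem_LL_t
      have hk' := (ROR.mem_KS hK).1 hk
      have : k = (k * t) * t := by rw [mul_assoc, hS.mul_self, mul_one]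
      rw [this]
      exact Subgroup.mul_mem _ (mem_LL_of_invol hS (K_mul_t_mul_self hS hk')) mem_LL_t
  obtain ⟨n, hn, hc⟩ := exists_card_Q0 hS hq
  refine Or.inl ⟨F, _, _, ⟨n, hn, hF.trans hc⟩, ⟨(MulEquiv.subgroupCongr e1).trans φ⟩⟩

theorem con_of_good [FaithfulSMul G Ω] (hq : 2 < Nat.card (Q0 G a)) (hg : Good a Q) :
    Con a t Q := by
  haveI := solvable_DD hS
  have hK : ∀ k ∈ KK a t, ∀ l ∈ KK a t, k * l ∈ KK a t := fun k hk l hl => mul_mem_KK hS hk hl
  obtain ⟨h2, h | hna⟩ := hg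
  · refine ⟨h2, fun x hx => ?_, Or.inl h, fun _ => iso_of_eq_Q0 hS hq h⟩
    have := mul_self_of_mem_Q0 hS (h ▸ hx)
    rw [show (4 : ℕ) = 2 * 2 from rfl, pow_mul, pow_two x, this, one_pow]
  · have hna' : ∃ x y : Q, x * y ≠ y * x := by
      obtain ⟨x, hx, y, hy, hxy⟩ := hna
      exact ⟨⟨x, hx⟩, ⟨y, hy⟩, fun h => hxy (congrArg Subtype.val h)⟩
    have hP := ROR.isSuzukiTwoGroup hS hK (Q0_le_Q hS) (le_refl Q)
      (fun k hk x hx => conj_mem_Q hS (KS_le_DD hk).1 hx) h2 hna' hq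
    have hZ : Nat.card (Subgroup.center Q) = Nat.card (Q0 G a) :=
      ROR.card_center_eq hS (Q0_le_Q hS) (le_refl Q) hP
    obtain ⟨-, -, hc, hexp⟩ := Cfsg.Agent.S1138.result hP
    rw [hZ] at hc
    refine ⟨h2, fun x hx => ?_, ?_, fun _ => ?_⟩
    · have := Monoid.pow_exponent_eq_one (⟨x, hx⟩ : Q)
      rw [hexp] at this
      exact congrArg Subtype.val this
    · rcases hc with hc | hc
      · exact Or.inr (Or.inl ⟨hc, hna⟩)
      · exact Or.inr (Or.inr ⟨hc, hna⟩)
    · rcases hc with hc | hc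
      · exact Or.inr (Or.inl (recog_two hS hq h2 hna hc))
      · exact Or.inr (Or.inr (recog_three hS hq h2 hna hc))

/-- The case `V = 1`: the group is a Zassenhaus group. -/
theorem good_of_VV_eq_bot [FaithfulSMul G Ω] [IsSimpleGroup G] (hq : 2 < Nat.card (Q0 G a))
    (hV : VV a t = ⊥) : Good a Q := by
  haveI := solvable_DD hS
  haveI := finite_Ω hS
  haveI : Fintype Ω := Fintype.ofFinite Ω
  obtain ⟨k, hk, hk1⟩ := exists_K_ne_one hS ((two_lt_card_Q0_iff hS).1 hq)
  have hZ : IsZassenhausGroup G Ω := by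
    refine ⟨inferInstance, hS.two_transitive, fun g b c d hbc hcd hbd hb hc hd => ?_,
      ⟨k, hk1, a, t • a, (ta_ne hS).symm, hk.1.1, hk.1.2⟩, fun N hN htr => ?_⟩
    · obtain ⟨h, h1, h2⟩ := two_trans hS hbc (ta_ne hS).symm
      have hg : h * g * h⁻¹ ∈ DD a t := by
        constructor
        · change (h * g * h⁻¹) • a = a
          rw [← h1, mul_smul, inv_smul_smul, mul_smul, hb]
        · change (h * g * h⁻¹) • t • a = t • a
          rw [← h2, mul_smul, inv_smul_smul, mul_smul, hc]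
      obtain ⟨v, hv, l, hl, e⟩ := exists_V_mul_K hS hg
      rw [hV, Subgroup.mem_bot] at hv
      rw [hv, one_mul] at e
      by_contra hg1
      have hl1 : l ≠ 1 := e ▸ conj_ne_one hg1 h
      have : l • h • d = h • d := by rw [← e, mul_smul, inv_smul_smul, mul_smul, hd]
      rcases fixed_of_mem_KK hS hl hl1 this with h3 | h3
      · exact hbd (MulAction.injective h (h1.trans h3.symm))
      · exact hcd (MulAction.injective h (h2.trans h3.symm))
    · rcases hN.eq_bot_or_eq_top with h | h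
      · obtain ⟨n, hn⟩ := htr.exists_smul_eq a (t • a)
        have : n = 1 := Subtype.ext (by simpa [h] using n.2)
        rw [this, one_smul] at hn
        exact absurd hn.symm (ta_ne hS)
      · refine ⟨a, fun hb => hk1 ?_⟩
        have : (⟨k, by rw [h]; trivial⟩ : N) ∈ stabilizer N a := hk.1.1
        rw [hb, Subgroup.mem_bot] at this
        exact congrArg Subtype.val this
  have hcΩ : Fintype.card Ω = Nat.card Q + 1 := by rw [← Nat.card_eq_fintype_card, card_Ω hS]
  have hD : Nat.card (DD a t) + 1 = Nat.card (Q0 G a) := by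
    rw [card_DD hS, hV, Subgroup.card_bot, one_mul, card_KK hS, card_Q0 hS]
  rcases Cfsg.Agent.S0885.result hZ (ta_ne hS).symm _ _ hcΩ rfl hS.odd_card Q hS.le hcΩ.symm
    (fun u hu hu1 c hc => by
      by_contra h
      exact hu1 (eq_one_of_mem_Q_of_smul hS hu h hc)) with h | ⟨h2, ⟨x, y, hxy⟩, -⟩
  · have h1 : Q = Q0 G a := by
      have hd := Subgroup.card_dvd_of_le (Q0_le_Q hS)
      obtain ⟨m, hm⟩ := hd
      have hpos : 0 < Nat.card Q := Nat.card_pos
      change Nat.card Q - 1 ≤ 2 * Nat.card (DD a t) at h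
      have hm1 : m = 1 := by
        rcases m with _ | _ | m
        · omega
        · rfl
        · exfalso
          have : Nat.card (Q0 G a) * 2 ≤ Nat.card (Q0 G a) * (m + 1 + 1) :=
            Nat.mul_le_mul_left _ (by omega)
          omega
      exact (Subgroup.eq_of_le_of_card_ge (Q0_le_Q hS) (by rw [hm, hm1, mul_one])).symm
    exact ⟨h1 ▸ isPGroup_Q0 hS, Or.inl h1⟩
  · exact ⟨h2, Or.inr ⟨x, x.2, y, y.2, fun h => hxy (Subtype.ext h)⟩⟩

/-- An abelian 2-group `Q ≠ Q₀` has an element of order four centralised by any element of prime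
order of `V`. -/
theorem exists_four_of_comm (h2 : IsPGroup 2 Q) (hc : ¬ NonAb Q) (hne : Q ≠ Q0 G a) {x : G}
    (hx : x ∈ VV a t) (hp : (orderOf x).Prime) :
    ∃ y ∈ Q, y * y ≠ 1 ∧ Commute x y := by
  classical
  have hcomm : ∀ y ∈ Q, ∀ z ∈ Q, y * z = z * y := by
    intro y hy z hz
    by_contra h
    exact hc ⟨y, hy, z, hz, h⟩
  obtain ⟨s, hs, r, hr, e⟩ := exists_structure_eq hS
  have hxs := (commute_of_mem_VV hS hs hr e hx).1
  -- an element `y` with `y² = s`
  obtain ⟨y, hy, hys⟩ : ∃ y ∈ Q, y * y = s := by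
    obtain ⟨z, hz, hz0⟩ : ∃ z ∈ Q, z ∉ Q0 G a := by
      by_contra h
      push Not at h
      exact hne (le_antisymm h (Q0_le_Q hS))
    have hz2 : z * z ≠ 1 := fun h => hz0 ((mem_Q0_iff hS).2 ⟨hz, h⟩)
    obtain ⟨m, hm⟩ := h2 ⟨z, hz⟩
    have hm' : z ^ 2 ^ m = 1 := congrArg Subtype.val hm
    have key : ∀ m : ℕ, ∀ z ∈ Q, z * z ≠ 1 → z ^ 2 ^ m = 1 →
        ∃ w ∈ Q, w * w ≠ 1 ∧ (w * w) * (w * w) = 1 := by
      intro m
      induction m with
      | zero => intro z _ h1 h2; rw [pow_zero, pow_one] at h2; exact absurd (by rw [h2, one_mul]) h1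
      | succ m ih =>
        intro z hz h1 h2
        by_cases h3 : (z * z) * (z * z) = 1
        · exact ⟨z, hz, h1, h3⟩
        · refine ih (z * z) (Q.mul_mem hz hz) h3 ?_
          rw [← pow_two, ← pow_mul, ← pow_succ']; exact h2
    obtain ⟨w, hw, hw1, hw2⟩ := key m z hz hz2 hm'
    have hwI : w * w ∈ II G a := ⟨smul_of_mem_Q hS (Q.mul_mem hw hw), hw1, hw2⟩
    obtain ⟨k, hk, hks⟩ := exists_K_conj_eq hS hwI hs
    exact ⟨k⁻¹ * w * k, conj_mem_Q' hS hk.1.1 hw, by rw [← hks]; group⟩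
  -- the set of square roots of `s` in `Q`
  haveI : Fact (orderOf x).Prime := ⟨hp⟩
  let P := Subgroup.zpowers x
  have hP : IsPGroup (orderOf x) P := IsPGroup.of_card (n := 1) (by rw [pow_one, Nat.card_zpowers])
  letI : MulAction P G := MulAction.compHom G (MulAut.conj.comp P.subtype)
  have hsm : ∀ (g : P) (z : G), g • z = g * z * (g : G)⁻¹ := fun _ _ => rfl
  have hPV : P ≤ VV a t := (Subgroup.zpowers_le).2 hx
  let T : SubMulAction P G :=
    { carrier := {z | z ∈ Q ∧ z * z = s}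
      smul_mem' := by
        rintro g z ⟨hz, hzs⟩
        have hg := (commute_of_mem_VV hS hs hr e (hPV g.2)).1
        refine ⟨conj_mem_Q hS (hPV g.2).1.1 hz, ?_⟩
        rw [hsm]
        calc g * z * (g : G)⁻¹ * (g * z * (g : G)⁻¹) = g * (z * z) * (g : G)⁻¹ := by group
          _ = s := by rw [hzs, hg.eq, mul_inv_cancel_right] }
  have hT : Nat.card T = Nat.card (Q0 G a) := by
    symm
    refine Nat.card_eq_of_bijective (fun q : Q0 G a => (⟨y * q, Q.mul_mem hy (Q0_le_Q hS q.2), ?_⟩ : T))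
      ⟨fun q q' h => Subtype.ext (mul_left_cancel (congrArg Subtype.val h)), fun z => ?_⟩
    · have h1 := (commute_of_mem_Q0 hS q.2 hy).eq
      calc y * q * (y * q) = y * (q * y) * q := by group
        _ = (y * y) * (q * q) := by rw [h1]; group
        _ = s := by rw [hys, mul_self_of_mem_Q0 hS q.2, mul_one]
    · refine ⟨⟨y⁻¹ * z, (mem_Q0_iff hS).2 ⟨Q.mul_mem (Q.inv_mem hy) z.2.1, ?_⟩⟩,
        Subtype.ext (mul_inv_cancel_left _ _)⟩
      have h1 := hcomm _ (Q.inv_mem hy) _ z.2.1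
      have h3 : (z : G) * z = s := z.2.2
      calc y⁻¹ * z * (y⁻¹ * z) = y⁻¹ * (z * y⁻¹) * z := by group
        _ = (y * y)⁻¹ * (z * z) := by rw [← h1]; group
        _ = 1 := by rw [hys, h3, inv_mul_cancel]
  obtain ⟨n, hn⟩ := IsPGroup.iff_card.1 (isPGroup_Q0 hS)
  have hnd : ¬ orderOf x ∣ Nat.card T := by
    rw [hT, hn]
    intro h
    have h1 := (Nat.prime_dvd_prime_iff_eq hp Nat.prime_two).1 (hp.dvd_of_dvd_pow h)
    have h3 := odd_orderOf_of_mem_DD hS hx.1
    rw [h1] at h3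
    exact absurd h3 (by decide)
  obtain ⟨z, hz⟩ := hP.nonempty_fixed_point_of_prime_not_dvd_card T hnd
  refine ⟨z, z.2.1, by rw [z.2.2]; exact hs.2.1, ?_⟩
  have := congrArg Subtype.val (hz ⟨x, Subgroup.mem_zpowers x⟩)
  exact mul_inv_eq_iff_eq_mul.1 this

/-- The key step for simple groups. -/
theorem good_of_simple [FaithfulSMul G Ω] [IsSimpleGroup G] (hq : 2 < Nat.card (Q0 G a))
    (hloc : Loc a t Q) : Good a Q := by
  by_cases hV : VV a t = ⊥
  · exact good_of_VV_eq_bot hS hq hV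
  by_cases hB : ∃ x ∈ VV a t, (orderOf x).Prime ∧
      ¬ 2 < Nat.card ↥(Q0 G a ⊓ Subgroup.centralizer {x})
  · obtain ⟨x, hx, hp, h1⟩ := hB
    exact thmB hS hq hloc hx hp h1
  push Not at hB
  have hcon : ∀ x ∈ VV a t, (orderOf x).Prime → ConOn a Q (Subgroup.centralizer {x}) := by
    intro x hx hp
    refine hloc {x} (by simpa using hx) ⟨x, rfl, ?_⟩ (hB x hx hp)
    rintro rfl
    rw [orderOf_one] at hp
    exact Nat.not_prime_one hp
  have h2 := thmC hS hq hV fun x hx hp => (hcon x hx hp).two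
  refine ⟨h2, ?_⟩
  by_contra h
  push Not at h
  obtain ⟨p, hp, hpd⟩ := Nat.exists_prime_and_dvd
    (((Subgroup.one_lt_card_iff_ne_bot _).2 hV).ne')
  haveI : Fact p.Prime := ⟨hp⟩
  obtain ⟨x, hx⟩ := exists_prime_orderOf_dvd_card' p hpd
  have hx' : (orderOf (x : G)).Prime := by rw [Subgroup.orderOf_coe, hx]; exact hp
  obtain ⟨y, hy, hy1, hxy⟩ := exists_four_of_comm hS h2 h.2 h.1 x.2 hx'
  have hyc : y ∈ Q ⊓ Subgroup.centralizer {(x : G)} :=
    ⟨hy, Subgroup.mem_centralizer_singleton_iff.2 hxy.symm.eq⟩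
  have hna : ¬ NonAb (Q ⊓ Subgroup.centralizer {(x : G)}) := by
    rintro ⟨u, hu, w, hw, huw⟩
    exact h.2 ⟨u, hu.1, w, hw.1, huw⟩
  rcases (hcon x x.2 hx').cases with h1 | ⟨-, h1⟩ | ⟨-, h1⟩
  · rw [h1] at hyc
    exact hy1 (mul_self_of_mem_Q0 hS hyc.1)
  · exact hna h1
  · exact hna h1

end steps

theorem indHyp (n : ℕ) : IndHyp.{u, v} n := by
  induction n with
  | zero => intro G Ω _ _ _ a t Q _ _ h; omega
  | succ n ih =>
    intro G Ω _ _ _ a t Q hS hq hn
    have ih' : IndHyp.{u, v} (Nat.card G) := fun G' Ω' _ _ _ a' t' Q' hS' hq' h =>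
      ih G' Ω' a' t' Q' hS' hq' (by omega)
    by_cases hf : FaithfulSMul G Ω
    · by_cases hs : IsSimpleGroup G
      · exact con_of_good hS hq (good_of_simple hS hq (loc_of_indHyp hS ih'))
      · exact con_of_not_simple hS hq ih' hs
    · exact con_of_not_faithful hS hq ih' hf

/-- Suzuki's theorem. -/
theorem con {G Ω : Type*} [Group G] [Finite G] [MulAction G Ω] {a : Ω} {t : G} {Q : Subgroup G}
    (hS : IsRankOneSetup G Ω a t Q) (hq : 2 < Nat.card (Q0 G a)) : Con a t Q :=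
  indHyp (Nat.card G + 1) G Ω a t Q hS hq (Nat.lt_succ_self _)

/-- Suzuki's theorem for simple groups. -/
theorem isoConcl_of_simple {G Ω : Type*} [Group G] [Finite G] [IsSimpleGroup G] [MulAction G Ω]
    {a : Ω} {t : G} {Q : Subgroup G} (hS : IsRankOneSetup G Ω a t Q)
    (h2 : ∃ x y : G, x ≠ 1 ∧ y ≠ 1 ∧ x ≠ y ∧ x * x = 1 ∧ y * y = 1 ∧ x * y = y * x) :
    IsoConcl G := by
  have hq := (two_lt_card_Q0_iff hS).2 h2
  haveI : FaithfulSMul G Ω := by
    have hk : (MulAction.toPermHom G Ω).ker = ⊥ := by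
      rcases (MonoidHom.normal_ker (MulAction.toPermHom G Ω)).eq_bot_or_eq_top with h | h
      · exact h
      · exfalso
        have : t ∈ (MulAction.toPermHom G Ω).ker := by rw [h]; trivial
        exact ta_ne hS (congrArg (fun f : Equiv.Perm Ω => f a) this)
    have := (MonoidHom.ker_eq_bot_iff _).1 hk
    exact ⟨fun {g g'} hg => this (Equiv.ext hg)⟩
  exact ((con hS hq).iso inferInstance).of_equiv
    (Subgroup.topEquiv.symm.trans (MulEquiv.subgroupCongr (LL_eq_top hS hq).symm))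

end CL.RankOne
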